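import Mathlib.LinearAlgebra.Matrix.SpecialLinearGroup
import Mathlib.GroupTheory.QuotientGroup.Basic
import Mathlib.GroupTheory.Sylow
import Mathlib.Algebra.Module.ZMod
import Mathlib.Data.ZMod.Basic
import Mathlib.Tactic

/-!
The three-local setting with a core extraspecial of order 243 and complement SL(2,3), and the model of the
module on the core modulo its centre.
-/

set_option autoImplicit false

namespace CfsgLib.L43Rec

open Subgroup

/-- The group SL(2,3). -/
abbrev SL23 := Matrix.SpecialLinearGroup (Fin 2) (ZMod 3)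

/-- The element of order four. -/
def mI : SL23 := ⟨!![0, 2; 1, 0], by decide⟩

/-- The second element of order four. -/
def mJ : SL23 := ⟨!![1, 1; 1, 2], by decide⟩

/-- The third element of order four. -/
def mK : SL23 := ⟨!![2, 1; 1, 1], by decide⟩

/-- The element of order three. -/
def mU : SL23 := ⟨!![1, 1; 0, 1], by decide⟩

theorem sl_rels : mI * mI = -1 ∧ mJ * mJ = -1 ∧ mK * mK = -1 ∧ mI * mJ = mK ∧ mJ * mI = -1 * mK ∧ mJ * mK = mI ∧
    mK * mJ = -1 * mI ∧ mK * mI = mJ ∧ mI * mK = -1 * mJ ∧ mU * mI = mJ * mU ∧ mU * mJ = mK * mU ∧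
    mU * mK = mI * mU ∧ mU * mU * mU = 1 := by decide +kernel

/-- The coordinates of the module. -/
abbrev V4 := ZMod 3 × ZMod 3 × ZMod 3 × ZMod 3

/-- The action on the coordinates. -/
def act (g : SL23) (v : V4) : V4 :=
  (g.1 0 0 * v.1 + g.1 0 1 * v.2.1, g.1 1 0 * v.1 + g.1 1 1 * v.2.1,
    g.1 0 0 * v.2.2.1 + g.1 0 1 * v.2.2.2, g.1 1 0 * v.2.2.1 + g.1 1 1 * v.2.2.2)

/-- The alternating form on the coordinates. -/
def om (v w : V4) : ZMod 3 := v.1 * w.2.2.2 + v.2.2.1 * w.2.1 - w.1 * v.2.2.2 - w.2.2.1 * v.2.1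

theorem act_one (v : V4) : act 1 v = v := by simp [act]

theorem act_mul (g h : SL23) (v : V4) : act (g * h) v = act g (act h v) := by
  simp only [act, Matrix.SpecialLinearGroup.coe_mul, Matrix.mul_apply, Fin.sum_univ_two]
  ext <;> simp only [] <;> ring

/-- Products of the generators. -/
def wordsL : ℕ → List SL23
  | 0 => [1]
  | n + 1 => (wordsL n).flatMap (fun g => [g, mI * g, mU * g]) |>.dedup

theorem words_all : ∀ g : SL23, g ∈ wordsL 8 := by decide +kernel

theorem sl_induction {P : SL23 → Prop} (h1 : P 1) (hI : ∀ g, P g → P (mI * g)) (hU : ∀ g, P g → P (mU * g))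
    (g : SL23) : P g := by
  have key : ∀ n, ∀ g ∈ wordsL n, P g := by
    intro n
    induction n with
    | zero => intro g hg; rw [wordsL, List.mem_singleton] at hg; exact hg ▸ h1
    | succ n ih =>
      intro g hg
      rw [wordsL, List.mem_dedup, List.mem_flatMap] at hg
      obtain ⟨a, ha, hga⟩ := hg
      simp only [List.mem_cons, List.not_mem_nil, or_false] at hga
      rcases hga with rfl | rfl | rfl
      exacts [ih _ ha, hI _ (ih _ ha), hU _ (ih _ ha)]
  exact key 8 g (words_all g)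

universe u

/-- The data at one element of order three. -/
structure Setting (G : Type u) [Group G] where
  /-- the central element -/
  z : G
  /-- its order -/
  z_ord : orderOf z = 3
  /-- the core -/
  Q : Subgroup G
  /-- of order 243 -/
  Q_card : Nat.card Q = 243
  /-- containing `z` -/
  z_Q : z ∈ Q
  /-- the core centralizes it -/
  Q_z : ∀ q ∈ Q, q * z = z * q
  /-- with centre generated by `z` -/
  Q_centre : ∀ q ∈ Q, (∀ x ∈ Q, q * x = x * q) → q ∈ zpowers z
  /-- with commutators there -/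
  Q_comm : ∀ a ∈ Q, ∀ b ∈ Q, a * b * a⁻¹ * b⁻¹ ∈ zpowers z
  /-- of exponent three -/
  Q_exp : ∀ a ∈ Q, a ^ 3 = 1
  /-- containing its centralizer -/
  Q_self : centralizer (Q : Set G) ≤ Q
  /-- normalized by the centralizer -/
  Q_norm : ∀ c : G, c * z = z * c → ∀ q ∈ Q, c * q * c⁻¹ ∈ Q
  /-- the action -/
  φ : centralizer ({z} : Set G) →* SL23
  /-- onto -/
  φ_surj : Function.Surjective φ
  /-- with kernel the core -/
  φ_ker : ∀ x : centralizer ({z} : Set G), φ x = 1 ↔ (x : G) ∈ Q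
  /-- the central involution inverts the core modulo the centre -/
  neg_inv : ∀ x : centralizer ({z} : Set G), φ x = -1 → ∀ q ∈ Q, (x : G) * q * (x : G)⁻¹ * q ∈ zpowers z

namespace Setting

variable {G : Type u} [Group G] (D : Setting G)

/-- The centre as a subgroup. -/
abbrev Zc : Subgroup G := zpowers D.z

/-- The centralizer. -/
abbrev Ct : Subgroup G := centralizer ({D.z} : Set G)

theorem mem_Ct {g : G} : g ∈ D.Ct ↔ g * D.z = D.z * g := mem_centralizer_singleton_iff

theorem z_ne : D.z ≠ 1 := fun e => by have := D.z_ord; rw [e, orderOf_one] at this; omega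

theorem z_cube : D.z ^ 3 = 1 := D.z_ord ▸ pow_orderOf_eq_one D.z

theorem card_Zc : Nat.card D.Zc = 3 := by rw [Nat.card_zpowers, D.z_ord]

theorem mem_Zc {x : G} : x ∈ D.Zc ↔ ∃ i < 3, x = D.z ^ i := by
  constructor
  · intro h
    obtain ⟨n, hn⟩ := mem_zpowers_iff.1 h
    refine ⟨(n % 3).toNat, by omega, ?_⟩
    rw [← hn, ← zpow_natCast, Int.toNat_of_nonneg (Int.emod_nonneg _ (by norm_num)),
      show (3 : ℤ) = ((orderOf D.z : ℕ) : ℤ) by rw [D.z_ord]; rfl, zpow_mod_orderOf]
  · rintro ⟨i, -, rfl⟩; exact pow_mem (mem_zpowers _) i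

theorem comm_Zc {x c : G} (hx : x * D.z = D.z * x) (h : c ∈ D.Zc) : x * c = c * x := by
  obtain ⟨i, -, rfl⟩ := D.mem_Zc.1 h
  exact ((show Commute x D.z from hx).pow_right i).eq

theorem Q_le_Ct : D.Q ≤ D.Ct := fun _ hq => D.mem_Ct.2 (D.Q_z _ hq)

theorem Zc_le_Q : D.Zc ≤ D.Q := zpowers_le.2 D.z_Q

theorem conj_Q {c : G} (hc : c ∈ D.Ct) {q : G} (hq : q ∈ D.Q) : c * q * c⁻¹ ∈ D.Q := D.Q_norm c (D.mem_Ct.1 hc) q hq

theorem conj_Zc {x c : G} (hx : x ∈ D.Ct) (hc : c ∈ D.Zc) : x * c * x⁻¹ = c := by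
  rw [D.comm_Zc (D.mem_Ct.1 hx) hc, mul_inv_cancel_right]

/-- The setting at a conjugate. -/
def conj (g : G) : Setting G :=
  let f := MulAut.conj g
  have hC : ∀ x : centralizer ({f D.z} : Set G), f.symm x ∈ centralizer ({D.z} : Set G) := fun x => by
    refine mem_centralizer_singleton_iff.2 (f.injective ?_)
    rw [map_mul, map_mul, f.apply_symm_apply]
    exact mem_centralizer_singleton_iff.1 x.2
  { z := f D.z
    z_ord := (f.orderOf_eq D.z).trans D.z_ord
    Q := D.Q.map f.toMonoidHom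
    Q_card := by rw [card_map_of_injective (f := f.toMonoidHom) f.injective, D.Q_card]
    z_Q := ⟨D.z, D.z_Q, rfl⟩
    Q_z := by
      rintro _ ⟨q, hq, rfl⟩
      show f q * f D.z = f D.z * f q
      rw [← map_mul, ← map_mul, D.Q_z q hq]
    Q_centre := by
      rintro _ ⟨q, hq, rfl⟩ h
      have := D.Q_centre q hq fun x hx => f.injective (by
        rw [map_mul, map_mul]; exact h _ ⟨x, hx, rfl⟩)
      obtain ⟨n, hn⟩ := mem_zpowers_iff.1 this
      exact mem_zpowers_iff.2 ⟨n, by rw [← map_zpow, hn]; rfl⟩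
    Q_comm := by
      rintro _ ⟨a, ha, rfl⟩ _ ⟨b, hb, rfl⟩
      show f a * f b * (f a)⁻¹ * (f b)⁻¹ ∈ _
      obtain ⟨n, hn⟩ := mem_zpowers_iff.1 (D.Q_comm a ha b hb)
      exact mem_zpowers_iff.2 ⟨n, by rw [← map_zpow, hn, map_mul, map_mul, map_mul, map_inv, map_inv]⟩
    Q_exp := by
      rintro _ ⟨a, ha, rfl⟩
      show f a ^ 3 = 1
      rw [← map_pow, D.Q_exp a ha, map_one]
    Q_self := fun x hx => ⟨f.symm x, D.Q_self (mem_centralizer_iff.2 fun q hq => f.injective (by
      rw [map_mul, map_mul, f.apply_symm_apply]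
      exact mem_centralizer_iff.1 hx (f q) ⟨q, hq, rfl⟩)), f.apply_symm_apply x⟩
    Q_norm := by
      rintro c hc _ ⟨q, hq, rfl⟩
      refine ⟨f.symm c * q * (f.symm c)⁻¹, D.Q_norm _ (f.injective (by
        rw [map_mul, map_mul, f.apply_symm_apply]; exact hc)) q hq, ?_⟩
      show f (f.symm c * q * (f.symm c)⁻¹) = c * f q * c⁻¹
      rw [map_mul, map_mul, map_inv, f.apply_symm_apply]
    φ :=
      { toFun := fun x => D.φ ⟨f.symm x, hC x⟩
        map_one' := by
          have e : (⟨f.symm ((1 : centralizer ({f D.z} : Set G)) : G), hC 1⟩ : centralizer ({D.z} : Set G)) = 1 :=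
            Subtype.ext (map_one f.symm)
          exact (congrArg D.φ e).trans (map_one D.φ)
        map_mul' := fun a b => by
          have e : (⟨f.symm ((a * b : centralizer ({f D.z} : Set G)) : G), hC (a * b)⟩ : centralizer ({D.z} : Set G)) =
              ⟨f.symm a, hC a⟩ * ⟨f.symm b, hC b⟩ := Subtype.ext (map_mul f.symm _ _)
          exact (congrArg D.φ e).trans (map_mul D.φ _ _) }
    φ_surj := fun m => by
      obtain ⟨x, hx⟩ := D.φ_surj m
      refine ⟨⟨f x, mem_centralizer_singleton_iff.2 (by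
        rw [← map_mul, ← map_mul, mem_centralizer_singleton_iff.1 x.2])⟩, ?_⟩
      rw [← hx]
      exact congrArg D.φ (Subtype.ext (f.symm_apply_apply _))
    φ_ker := fun x => (D.φ_ker ⟨f.symm x, hC x⟩).trans
      ⟨fun h => ⟨f.symm x, h, f.apply_symm_apply _⟩, by
        rintro ⟨q, hq, e⟩
        show f.symm x ∈ D.Q
        rw [← e]
        simpa using hq⟩
    neg_inv := by
      rintro x hx _ ⟨q, hq, rfl⟩
      obtain ⟨n, hn⟩ := mem_zpowers_iff.1 (D.neg_inv ⟨f.symm x, hC x⟩ hx q hq)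
      refine mem_zpowers_iff.2 ⟨n, ?_⟩
      show f D.z ^ n = (x : G) * f q * (x : G)⁻¹ * f q
      rw [← map_zpow, hn, map_mul, map_mul, map_mul, map_inv, f.apply_symm_apply] }

theorem conj_z (g : G) : (D.conj g).z = g * D.z * g⁻¹ := rfl

/-- The setting with the action composed with an automorphism of SL(2,3). -/
def twist (α : SL23 ≃* SL23) (hα : α (-1) = -1) : Setting G :=
  { D with
    φ := α.toMonoidHom.comp D.φ
    φ_surj := α.surjective.comp D.φ_surj
    φ_ker := fun x => (show α (D.φ x) = 1 ↔ D.φ x = 1 from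
      ⟨fun h => α.injective (by rw [h, map_one]), fun h => by rw [h, map_one]⟩).trans (D.φ_ker x)
    neg_inv := fun x hx => D.neg_inv x (α.injective ((show α (D.φ x) = -1 from hx).trans hα.symm)) }

end Setting

end CfsgLib.L43Rec
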