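import Cfsg.Agent.Lib.L43Rec.Local
import Cfsg.Agent.Lib.GoodTransfer

/-!
The centralizers of the elements of the core which lie in no plane.
-/

set_option autoImplicit false

namespace CfsgLib.L43Rec

open Subgroup Matrix
open scoped commutatorElement

universe u

/-- The determinant of coordinates. -/
def dt (v : V4) : ZMod 3 := v.1 * v.2.2.2 - v.2.1 * v.2.2.1

/-- The element of order three outside the planes. -/
def wel : Ph0 := cel 1 0 0 1 0 1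

theorem dt_facts : (∀ W : SL23, ∀ v : V4, dt v ≠ 0 → act W v = v → W = 1) ∧
    (∀ W : SL23, act W (0, -1, 1, 0) ≠ (0, 1, 2, 0) ∨ dt (0, 1, 2, 0) = 1) ∧
    (∀ v : V4, ∀ i : ZMod 3, v ≠ 0 → ∃ u : V4, om u v = i) := by
  refine ⟨?_, ?_, ?_⟩ <;> decide +kernel

theorem s0_wel : ∃ a1 a2 a3 c1 c2 : ZMod 3, (s0 * wel).1.1 = (cel a1 a2 a3 c1 c2 1 * s0).1.1 ∧
    dt (a2, -a1, c1, c2) = -1 := ⟨1, 0, 0, 2, 0, by decide +kernel⟩

theorem nonpure_orbit : ∀ v : V4, dt v ≠ 0 →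
    ∃ W : SL23, act W (0, -1, 1, 0) = v ∨ act W (0, 1, 1, 0) = v := by decide +kernel

/-- A permutation moving the centre to the plane. -/
def nel : Ph0 := mk0 ⟨!![1, 0, 0; 0, 0, 1; 0, 2, 0], by decide⟩ 0

/-- Its inverse. -/
def nel' : Ph0 := mk0 ⟨!![1, 0, 0; 0, 0, 2; 0, 1, 0], by decide⟩ 0

/-- The element outside the planes, moved by the permutation. -/
def wel2 : Ph0 := cel 1 0 0 0 0 (mU * mU)

theorem nel_facts : (nel * nel').1.1 = 1 ∧ (nel * e03).1.1 = (e02 * nel).1.1 ∧ (wel * nel).1.1 = (nel * wel2).1.1 := by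
  decide +kernel

theorem centX_key : ∀ W : SL23, W * mU = mU * W → ∀ a1 a2 a3 c1 c2 : ZMod 3,
    (cel a1 a2 a3 c1 c2 W).1.1 * wel2.1.1 = wel2.1.1 * (cel a1 a2 a3 c1 c2 W).1.1 →
    FixRow (nel * cel a1 a2 a3 c1 c2 W * nel').1 ∧ midBlock (nel * cel a1 a2 a3 c1 c2 W * nel').1 = 1 := by
  unfold FixRow
  decide +kernel

namespace Std

variable {G : Type u} [Group G] (S : Std G)

/-- Elements of the core in no plane. -/
def Nonpure (q : G) : Prop := q ∈ S.D.Q ∧ dt (S.F.cd q) ≠ 0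

theorem wel_cd : S.Φ wel ∈ S.D.Q ∧ S.F.cd (S.Φ wel) = (0, -1, 1, 0) := S.cel_Q 1 0 0 1 0

theorem comm_of_om {q r : G} (hq : q ∈ S.D.Q) (hr : r ∈ S.D.Q) (h : om (S.F.cd q) (S.F.cd r) = 0) :
    q * r = r * q := by
  have e := S.F.cd_cm q hq r hr
  rw [h, ZMod.val_zero, pow_zero] at e
  exact mul_inv_eq_iff_eq_mul.1 (mul_inv_eq_one.1 e)

/-- Centralizers of the two conjugates meet inside the core. -/
theorem centX_w {g : G} (hx : g * S.Φ e02 = S.Φ e02 * g) (hw : g * S.Φ wel = S.Φ wel * g) : g ∈ S.D.Q := by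
  obtain ⟨k1, k2, k3⟩ := nel_facts
  have n1 : S.Φ nel * S.Φ nel' = 1 := by
    rw [← map_mul, ← map_one S.Φ]; exact S.eq_of k1
  have n2 : S.Φ nel * S.D.z = S.Φ e02 * S.Φ nel := by
    rw [← S.Φ_z, ← map_mul, ← map_mul]; exact S.eq_of k2
  have n3 : S.Φ wel * S.Φ nel = S.Φ nel * S.Φ wel2 := by
    rw [← map_mul, ← map_mul]; exact S.eq_of k3
  set n := S.Φ nel
  have hn' : S.Φ nel' = n⁻¹ := eq_inv_of_mul_eq_one_right n1
  set c := n⁻¹ * g * n with hc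
  have hcC : c ∈ S.D.Ct := by
    rw [S.D.mem_Ct]
    calc c * S.D.z = n⁻¹ * g * (n * S.D.z) := by rw [hc]; group
      _ = n⁻¹ * (g * S.Φ e02) * n := by rw [n2]; group
      _ = n⁻¹ * (S.Φ e02 * n) * c := by rw [hx, hc]; group
      _ = _ := by rw [← n2]; group
  have hcw : c * S.Φ wel2 = S.Φ wel2 * c := by
    calc c * S.Φ wel2 = n⁻¹ * g * (n * S.Φ wel2) := by rw [hc]; group
      _ = n⁻¹ * (g * S.Φ wel) * n := by rw [← n3]; group
      _ = n⁻¹ * (S.Φ wel * n) * c := by rw [hw, hc]; group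
      _ = _ := by rw [n3]; group
  obtain ⟨a1, a2, a3, c1, c2, W, e, hW⟩ := S.exists_cel_of hcC
  have hW2 : S.D.φ ⟨S.Φ wel2, S.cel_Ct 1 0 0 0 0 (mU * mU)⟩ = mU * mU := S.cel_φ _ _ _ _ _ _
  have hcomm : W * (mU * mU) = (mU * mU) * W := by
    rw [← hW, ← hW2, ← map_mul, ← map_mul]
    exact congrArg S.D.φ (Subtype.ext hcw)
  have hcomm' : W * mU = mU * W := by
    have key : ∀ W : SL23, W * (mU * mU) = (mU * mU) * W → W * mU = mU * W := by decide +kernel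
    exact key W hcomm
  rw [← e, ← map_mul, ← map_mul] at hcw
  obtain ⟨hf, hm⟩ := centX_key W hcomm' a1 a2 a3 c1 c2 (by
    have h := congrArg (fun g : Ph0 => g.1.1) (S.inj hcw)
    simpa [Matrix.SpecialLinearGroup.coe_mul] using h)
  have hg : g = S.Φ (nel * cel a1 a2 a3 c1 c2 W * nel') := by
    rw [map_mul, map_mul, e, hn']
    show g = n * (n⁻¹ * g * n) * n⁻¹
    group
  rw [hg]
  exact (S.fix_cd _ hf hm).1

/-- Elements fixing or inverting the centre and centralizing the outside element lie in the core. -/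
theorem normalizer_w {h : G} (hh : h * S.D.z * h⁻¹ ∈ S.D.Zc) (hw : h * S.Φ wel = S.Φ wel * h) : h ∈ S.D.Q := by
  obtain ⟨hQ, hv⟩ := S.wel_cd
  obtain ⟨f1, f2, -⟩ := dt_facts
  obtain ⟨g, rfl, hg | hg⟩ := S.normalizer_mem hh
  · have hC := (S.fix_iff g).2 hg
    have e := S.F.cd_act ⟨_, hC⟩ _ hQ
    rw [show S.Φ g * S.Φ wel * (S.Φ g)⁻¹ = S.Φ wel by rw [hw, mul_inv_cancel_right]] at e
    exact (S.D.φ_ker ⟨_, hC⟩).1 (f1 _ _ (by rw [hv]; decide) e.symm)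
  · exfalso
    have hC := (S.fix_iff _).2 hg
    have e := S.F.cd_act ⟨_, hC⟩ _ hQ
    have e2 : S.Φ (s0 * g) * S.Φ wel * (S.Φ (s0 * g))⁻¹ = S.Φ s0 * S.Φ wel * (S.Φ s0)⁻¹ := by
      rw [map_mul, show S.Φ s0 * S.Φ g * S.Φ wel * (S.Φ s0 * S.Φ g)⁻¹ =
        S.Φ s0 * (S.Φ g * S.Φ wel * (S.Φ g)⁻¹) * (S.Φ s0)⁻¹ by group, hw, mul_inv_cancel_right]
    obtain ⟨a1, a2, a3, c1, c2, k1, k2⟩ := s0_wel
    have e3 : S.Φ s0 * S.Φ wel * (S.Φ s0)⁻¹ = S.Φ (cel a1 a2 a3 c1 c2 1) := by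
      rw [mul_inv_eq_iff_eq_mul, ← map_mul, ← map_mul]; exact S.eq_of k1
    rw [e2, e3, (S.cel_Q _ _ _ _ _).2, hv] at e
    rw [e] at k2
    have key : ∀ W : SL23, dt (act W (0, -1, 1, 0)) ≠ -1 := by decide +kernel
    exact key _ k2

/-- The centralizer of the standard element outside the planes. -/
theorem centW_std [Finite G]
    (hplane : ∀ g : G, g * S.D.z * g⁻¹ ∈ S.D.Q → g * S.D.z * g⁻¹ ∉ S.D.Zc →
      ∀ q ∈ S.D.Q, q ∈ (S.D.conj g).Q → dt (S.F.cd q) = 0) :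
    centralizer ({S.Φ wel} : Set G) ≤ S.D.Q := by
  classical
  obtain ⟨hwQ, hwv⟩ := S.wel_cd
  set w := S.Φ wel with hw
  set C := centralizer ({w} : Set G)
  set P : Subgroup C := S.D.Q.subgroupOf C with hP
  have hcomm : ∀ h : C, (h : G) * w = w * h := fun h => mem_centralizer_singleton_iff.1 h.2
  obtain ⟨hxQ, hxv⟩ : S.Φ e02 ∈ S.D.Q ∧ S.F.cd (S.Φ e02) = (1, 0, 0, 0) := by
    obtain ⟨h1, h2⟩ := S.cel_Q 0 1 0 0 0
    exact ⟨h1, h2.trans (by decide)⟩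
  set x := S.Φ e02 with hx
  obtain ⟨y, hy, hyv⟩ := S.F.cd_surj (0, 0, 0, 1)
  have hzC : S.D.z ∈ C := mem_centralizer_singleton_iff.2 (S.D.Q_z w hwQ).symm
  have hxC : x ∈ C := mem_centralizer_singleton_iff.2 (S.comm_of_om hxQ hwQ (by rw [hxv, hwv]; decide))
  have hyC : y ∈ C := mem_centralizer_singleton_iff.2 (S.comm_of_om hy hwQ (by rw [hyv, hwv]; decide))
  have pw3 : ∀ a : C, (a : G) ∈ S.D.Q → a ^ 3 = 1 := fun a ha => Subtype.ext (S.D.Q_exp _ ha)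
  have gz : CfsgLib.GoodTransfer.Good 3 P ⟨S.D.z, hzC⟩ := by
    refine ⟨S.D.z_Q, pw3 _ S.D.z_Q, fun h hh => ?_⟩
    have hh' : (h : G)⁻¹ * S.D.z * h ∈ S.D.Q := hh
    by_cases hz : (h : G)⁻¹ * S.D.z * h ∈ S.D.Zc
    · refine inv_mem_iff.1 (S.normalizer_w (h := (h : G)⁻¹) (by rwa [inv_inv]) ?_)
      exact ((show Commute (h : G) w from hcomm h).inv_left).eq
    · exfalso
      have := hplane (h : G)⁻¹ (by rwa [inv_inv]) (by rwa [inv_inv]) w hwQ ⟨w, hwQ, by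
        show (h : G)⁻¹ * w * (h : G)⁻¹⁻¹ = w
        rw [inv_inv, mul_assoc, ← hcomm h, inv_mul_cancel_left]⟩
      rw [hwv] at this
      exact absurd this (by decide)
  have gx : CfsgLib.GoodTransfer.Good 3 P ⟨x, hxC⟩ := by
    refine ⟨hxQ, pw3 _ hxQ, fun h hh => ?_⟩
    have hh' : (h : G)⁻¹ * x * h ∈ S.D.Q := hh
    have h1 : (h : G) * S.D.z * (h : G)⁻¹ * x = x * ((h : G) * S.D.z * (h : G)⁻¹) := by
      calc (h : G) * S.D.z * (h : G)⁻¹ * x = h * (S.D.z * ((h : G)⁻¹ * x * h)) * (h : G)⁻¹ := by group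
        _ = h * (((h : G)⁻¹ * x * h) * S.D.z) * (h : G)⁻¹ := by rw [S.D.Q_z _ hh']
        _ = _ := by group
    have h2 : (h : G) * S.D.z * (h : G)⁻¹ * w = w * ((h : G) * S.D.z * (h : G)⁻¹) :=
      ((((show Commute (h : G) w from hcomm h).mul_left (show Commute S.D.z w from (S.D.Q_z w hwQ).symm)).mul_left
        (show Commute (h : G) w from hcomm h).inv_left)).eq
    refine inv_mem_iff.1 (gz.2.2 h⁻¹ ?_)
    show (((h⁻¹)⁻¹ : C) : G) * S.D.z * ((h⁻¹ : C) : G) ∈ S.D.Q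
    rw [inv_inv]
    exact S.centX_w h1 h2
  have hPp : IsPGroup 3 P := S.D.Q_isP.comap_of_injective C.subtype C.subtype_injective
  set P1 : Subgroup C := { carrier := {q | (q : G) ∈ S.D.Q ∧ (S.F.cd q).2.2.2 = 0}
                           one_mem' := ⟨one_mem _, by rw [show ((1 : C) : G) = 1 from rfl, S.F.cd_one]; rfl⟩
                           mul_mem' := fun {a b} ha hb => ⟨mul_mem ha.1 hb.1, by
                             rw [Subgroup.coe_mul, S.F.cd_mul _ ha.1 _ hb.1]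
                             simp [ha.2, hb.2]⟩
                           inv_mem' := fun {a} ha => ⟨inv_mem ha.1, by
                             rw [Subgroup.coe_inv, S.F.cd_inv ha.1]; simp [ha.2]⟩ } with hP1
  have hzz : ∀ q ∈ S.D.Zc, ∀ hq : q ∈ C, ∃ i, (⟨q, hq⟩ : C) = (⟨S.D.z, hzC⟩ : C) ^ i := fun q hq hqC => by
    obtain ⟨i, -, e⟩ := S.D.mem_Zc.1 hq
    exact ⟨i, Subtype.ext e⟩
  have hperp : ∀ q : C, (q : G) ∈ S.D.Q → om (S.F.cd q) (0, -1, 1, 0) = 0 := fun q hq => by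
    rw [← hwv]; exact S.F.om_comm hq hwQ (hcomm q)
  have hgen : P1 ≤ closure {a : C | CfsgLib.GoodTransfer.Good 3 P a ∨
      (a ∈ P ∧ a ^ 3 = 1 ∧ ∀ h : C, h * a = a * h)} := by
    rintro q ⟨hq, hq4⟩
    have hv : ∃ i j : ZMod 3, S.F.cd q = (i, -j, j, 0) := by
      have key : ∀ v : V4, v.2.2.2 = 0 → om v (0, -1, 1, 0) = 0 → ∃ i j : ZMod 3, v = (i, -j, j, 0) := by
        decide +kernel
      exact key _ hq4 (hperp q hq)
    obtain ⟨i, j, hij⟩ := hv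
    set r : C := ⟨x, hxC⟩ ^ i.val * ⟨w, mem_centralizer_singleton_iff.2 rfl⟩ ^ j.val with hr
    have hrQ : (r : G) ∈ S.D.Q := mul_mem (pow_mem hxQ _) (pow_mem hwQ _)
    have hqr : ((q * r⁻¹ : C) : G) ∈ S.D.Zc := (S.F.cd_zero _ (mul_mem hq (inv_mem hrQ))).1 (by
      show S.F.cd ((q : G) * (x ^ i.val * w ^ j.val)⁻¹) = 0
      rw [S.F.cd_mul _ hq _ (inv_mem (mul_mem (pow_mem hxQ _) (pow_mem hwQ _))),
        S.F.cd_inv (mul_mem (pow_mem hxQ _) (pow_mem hwQ _)), S.F.cd_mul _ (pow_mem hxQ _) _ (pow_mem hwQ _),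
        S.F.cd_pow hxQ, S.F.cd_pow hwQ, ZMod.natCast_zmod_val, ZMod.natCast_zmod_val, hij, hxv, hwv]
      simp)
    obtain ⟨k, hk⟩ := hzz _ hqr (q * r⁻¹).2
    rw [show q = (q * r⁻¹) * r by rw [inv_mul_cancel_right], show q * r⁻¹ = _ from hk]
    refine mul_mem (pow_mem (subset_closure (by exact Or.inl gz)) _) (mul_mem
      (pow_mem (subset_closure (by exact Or.inl gx)) _) (pow_mem (subset_closure ?_) _))
    exact Or.inr ⟨hwQ, pw3 _ hwQ, fun h => Subtype.ext (hcomm h)⟩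
  have hPP : ∀ t ∈ ⁅P, P⁆, (t : G) ∈ S.D.Zc := by
    have hle : ⁅P, P⁆ ≤ S.D.Zc.subgroupOf C := commutator_le.2 fun a ha b hb => S.D.Q_comm _ ha _ hb
    exact fun t ht => hle ht
  have hzP : (⟨S.D.z, hzC⟩ : C) ∈ ⁅P, P⁆ := by
    have e := S.F.cd_cm x hxQ y hy
    rw [hxv, hyv, show om (1, 0, 0, 0) (0, 0, 0, 1) = 1 by decide, ZMod.val_one, pow_one] at e
    rw [show (⟨S.D.z, hzC⟩ : C) = ⁅(⟨x, hxC⟩ : C), (⟨y, hyC⟩ : C)⁆ from Subtype.ext e.symm]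
    exact commutator_mem_commutator hxQ hy
  have hab : ∀ T : Subgroup C, T ≤ P → (∀ t ∈ T, t ∈ P1 → t ∈ ⁅P, P⁆) → ∀ a ∈ T, ∀ b ∈ T, a * b = b * a := by
    intro T hT hT1 a ha b hb
    have hTQ : ∀ {t : C}, t ∈ T → (t : G) ∈ S.D.Q := fun h => hT h
    refine Subtype.ext (S.comm_of_om (hTQ ha) (hTQ hb) ?_)
    have hcz : ∀ t ∈ T, (S.F.cd t).2.2.2 = 0 → S.F.cd (t : G) = 0 := fun t ht h4 =>
      (S.F.cd_zero _ (hT ht)).2 (hPP t (hT1 t ht ⟨hT ht, h4⟩))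
    by_cases h4 : (S.F.cd a).2.2.2 = 0
    · rw [hcz a ha h4]; simp [om]
    · set k := (S.F.cd b).2.2.2 * (S.F.cd a).2.2.2 with hk
      have hbk : S.F.cd (b : G) = k • S.F.cd (a : G) := by
        have hc : S.F.cd ((b * (a ^ k.val)⁻¹ : C) : G) = 0 := by
          refine hcz _ (mul_mem hb (inv_mem (pow_mem ha _))) ?_
          rw [Subgroup.coe_mul, Subgroup.coe_inv, SubgroupClass.coe_pow, S.F.cd_mul _ (hTQ hb) _
            (inv_mem (pow_mem (hTQ ha) _)), S.F.cd_inv (pow_mem (hTQ ha) _), S.F.cd_pow (hTQ ha), ZMod.natCast_zmod_val, hk]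
          have key : ∀ p q : ZMod 3, p ≠ 0 → q + -(q * p * p) = 0 := by decide
          simpa using key _ (S.F.cd b).2.2.2 h4
        rw [Subgroup.coe_mul, Subgroup.coe_inv, SubgroupClass.coe_pow, S.F.cd_mul _ (hTQ hb) _
            (inv_mem (pow_mem (hTQ ha) _)), S.F.cd_inv (pow_mem (hTQ ha) _), S.F.cd_pow (hTQ ha), ZMod.natCast_zmod_val,
            add_neg_eq_zero] at hc
        exact hc
      rw [hbk]
      simp [om]; ring
  set W : Subgroup C := closure {(⟨S.D.z, hzC⟩ : C), (⟨x, hxC⟩ : C)} with hWdef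
  have hW1 : W ≤ P := by
    rw [hWdef, closure_le]
    rintro _ (rfl | rfl)
    exacts [S.D.z_Q, hxQ]
  haveI : IsMulCommutative W := isMulCommutative_closure (by
    intro a ha b hb
    simp only [Set.mem_insert_iff, Set.mem_singleton_iff] at ha hb
    rcases ha with rfl | rfl <;> rcases hb with rfl | rfl <;>
      first | rfl | exact Subtype.ext (S.D.Q_z x hxQ).symm | exact Subtype.ext (S.D.Q_z x hxQ))
  have hWform : ∀ a ∈ W, ∃ i j : ℕ, a = (⟨S.D.z, hzC⟩ : C) ^ i * (⟨x, hxC⟩ : C) ^ j := by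
    intro a ha
    have hWQ : ∀ {t : C}, t ∈ W → (t : G) ∈ S.D.Q := fun h => hW1 h
    have hWv : ∀ a ∈ W, (S.F.cd a).2.1 = 0 ∧ (S.F.cd a).2.2 = (0, 0) := by
      intro a ha
      induction ha using closure_induction with
      | mem a h =>
        rcases h with rfl | rfl
        · rw [(S.F.cd_zero _ S.D.z_Q).2 (mem_zpowers _)]; exact ⟨rfl, rfl⟩
        · rw [hxv]; exact ⟨rfl, rfl⟩
      | one => rw [show ((1 : C) : G) = 1 from rfl, S.F.cd_one]; exact ⟨rfl, rfl⟩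
      | mul a b ha hb iha ihb =>
        rw [Subgroup.coe_mul, S.F.cd_mul _ (hWQ ha) _ (hWQ hb), Prod.snd_add, Prod.fst_add, Prod.snd_add, iha.1,
          iha.2, ihb.1, ihb.2]
        exact ⟨rfl, rfl⟩
      | inv a ha iha =>
        rw [Subgroup.coe_inv, S.F.cd_inv (hWQ ha), Prod.snd_neg, Prod.fst_neg, Prod.snd_neg, iha.1, iha.2]
        exact ⟨rfl, rfl⟩
    obtain ⟨h2, h3⟩ := hWv a ha
    set j := (S.F.cd a).1.val
    have hz' : ((a * ((⟨x, hxC⟩ : C) ^ j)⁻¹ : C) : G) ∈ S.D.Zc :=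
      (S.F.cd_zero _ (mul_mem (hWQ ha) (inv_mem (pow_mem hxQ j)))).1 (by
        show S.F.cd ((a : G) * (x ^ j)⁻¹) = 0
        rw [S.F.cd_mul _ (hWQ ha) _ (inv_mem (pow_mem hxQ j)), S.F.cd_inv (pow_mem hxQ j), S.F.cd_pow hxQ,
          ZMod.natCast_zmod_val, hxv]
        refine Prod.ext (by simp) (Prod.ext (by simp [h2]) ?_)
        simp [h3])
    obtain ⟨i, hi⟩ := hzz _ hz' (a * ((⟨x, hxC⟩ : C) ^ j)⁻¹).2
    exact ⟨i, j, by rw [← hi]; exact (inv_mul_cancel_right _ _).symm⟩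
  have hWgood : ∀ a ∈ W, a ≠ 1 → CfsgLib.GoodTransfer.Good 3 P a := by
    intro a ha ha1
    obtain ⟨i, j, rfl⟩ := hWform a ha
    have hpow : ∀ (b : C), CfsgLib.GoodTransfer.Good 3 P b → ∀ n : ℕ, n % 3 ≠ 0 →
        CfsgLib.GoodTransfer.Good 3 P (b ^ n) := by
      intro b hb n hn
      refine ⟨pow_mem hb.1 n, by rw [← pow_mul, mul_comm, pow_mul, hb.2.1, one_pow], fun h hh => hb.2.2 h ?_⟩
      obtain ⟨m, hm⟩ : ∃ m, n * m % 3 = 1 := ⟨n % 3, by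
        rw [Nat.mul_mod]
        have : n % 3 = 1 ∨ n % 3 = 2 := by omega
        rcases this with e | e <;> simp [e]⟩
      have h2 := pow_mem hh m
      have e : h⁻¹ * b ^ n * h = h⁻¹ * b ^ n * (h⁻¹)⁻¹ := by rw [inv_inv]
      rw [e, conj_pow, inv_inv, ← pow_mul, pow_eq_pow_mod _ hb.2.1, hm, pow_one] at h2
      exact h2
    by_cases hj : j % 3 = 0
    · rw [pow_eq_pow_mod j (pw3 ⟨x, hxC⟩ hxQ), hj, pow_zero, mul_one] at ha1 ⊢
      exact hpow _ gz i fun e => ha1 (by rw [pow_eq_pow_mod i (pw3 ⟨S.D.z, hzC⟩ S.D.z_Q), e, pow_zero])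
    · have gxj := hpow _ gx j hj
      have e : (S.D.z) ^ i * x ^ j = (y ^ (2 * i * j)) * x ^ j * (y ^ (2 * i * j))⁻¹ := by
        have h := S.F.cd_cm _ (pow_mem hy (2 * i * j)) _ (pow_mem hxQ j)
        rw [S.F.cd_pow hy, S.F.cd_pow hxQ, hyv, hxv] at h
        have hom : om ((↑(2 * i * j) : ZMod 3) • (0, 0, 0, 1)) ((j : ZMod 3) • (1, 0, 0, 0)) =
            (i : ZMod 3) := by
          have key : ∀ a b : ZMod 3, b ≠ 0 → om ((2 * a * b) • (0, 0, 0, 1)) (b • (1, 0, 0, 0)) = a := by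
            decide +kernel
          push_cast
          exact key _ _ (by rw [Ne, ZMod.natCast_eq_zero_iff]; omega)
        rw [hom, ZMod.val_natCast, ← pow_eq_pow_mod _ S.D.z_cube] at h
        rw [← h]; group
      obtain ⟨g1, g2, g3⟩ := gxj
      set p : C := (⟨y, hyC⟩ : C) ^ (2 * i * j)
      have hp : p ∈ P := pow_mem (show (⟨y, hyC⟩ : C) ∈ P from hy) _
      rw [show (⟨S.D.z, hzC⟩ : C) ^ i * (⟨x, hxC⟩ : C) ^ j = p * (⟨x, hxC⟩ : C) ^ j * p⁻¹ from Subtype.ext e]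
      refine ⟨mul_mem (mul_mem hp g1) (inv_mem hp), by rw [conj_pow, g2]; group, fun h hh => ?_⟩
      have := g3 (p⁻¹ * h) (by
        rw [show (p⁻¹ * h)⁻¹ * (⟨x, hxC⟩ : C) ^ j * (p⁻¹ * h) = h⁻¹ * (p * (⟨x, hxC⟩ : C) ^ j * p⁻¹) * h by group]
        exact hh)
      have := mul_mem hp this
      rwa [mul_inv_cancel_left] at this
  have hWcyc : ¬ IsCyclic W := by
    intro hcyc
    obtain ⟨⟨g, hg⟩, hgg⟩ := hcyc.exists_generator
    obtain ⟨a, ha⟩ := mem_zpowers_iff.1 (hgg ⟨⟨S.D.z, hzC⟩, subset_closure (by simp)⟩)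
    obtain ⟨b, hb⟩ := mem_zpowers_iff.1 (hgg ⟨⟨x, hxC⟩, subset_closure (by simp)⟩)
    have hgQ : (g : G) ∈ S.D.Q := hW1 hg
    have hz1 : S.D.z = (g : G) ^ a := (congrArg (fun u : W => ((u : C) : G)) ha).symm.trans (by simp)
    have hx1 : x = (g : G) ^ b := (congrArg (fun u : W => ((u : C) : G)) hb).symm.trans (by simp)
    have hd : ¬ (3 : ℤ) ∣ a := by
      rintro ⟨c, rfl⟩
      refine S.D.z_ne (hz1.trans ?_)
      rw [_root_.zpow_mul, show ((g : G) ^ (3 : ℤ)) = 1 from (zpow_natCast (g : G) 3).trans (S.D.Q_exp _ hgQ), _root_.one_zpow]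
    obtain ⟨u, v, huv⟩ := (Int.prime_three).coprime_iff_not_dvd.2 hd
    have : (g : G) ∈ S.D.Zc := by
      rw [← zpow_one (g : G), ← huv, _root_.zpow_add, mul_comm u, _root_.zpow_mul, show ((g : G) ^ (3 : ℤ)) = 1 from (zpow_natCast (g : G) 3).trans (S.D.Q_exp _ hgQ),
        _root_.one_zpow, one_mul, mul_comm, _root_.zpow_mul, ← hz1]
      exact zpow_mem (mem_zpowers _) v
    have := (S.F.cd_zero _ hxQ).2 (hx1 ▸ zpow_mem this b)
    rw [hxv] at this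
    exact absurd this (by decide)
  haveI : Fact (Nat.Prime 3) := ⟨Nat.prime_three⟩
  have := CfsgLib.GoodTransfer.eq_top gz P1 (fun q hq => hq.1) hgen hab (Or.inl hzP) hPp W hW1 hWcyc hWgood
  intro g hg
  exact (this.ge (mem_top (⟨g, hg⟩ : C)))

/-- The centralizer of an element in no plane lies in the core. -/
theorem centW [Finite G]
    (hplane : ∀ g : G, g * S.D.z * g⁻¹ ∈ S.D.Q → g * S.D.z * g⁻¹ ∉ S.D.Zc →
      ∀ q ∈ S.D.Q, q ∈ (S.D.conj g).Q → dt (S.F.cd q) = 0)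
    {q : G} (hq : S.Nonpure q) : centralizer ({q} : Set G) ≤ S.D.Q := by
  obtain ⟨hqQ, hqd⟩ := hq
  obtain ⟨hwQ, hwv⟩ := S.wel_cd
  obtain ⟨W, hW⟩ := nonpure_orbit _ hqd
  -- a conjugating element in the normalizer of the centre with the right coordinates
  obtain ⟨m, hm, hmv⟩ : ∃ m : G, m * S.D.z * m⁻¹ ∈ S.D.Zc ∧ S.F.cd (m * S.Φ wel * m⁻¹) = S.F.cd q := by
    rcases hW with hW | hW
    · refine ⟨S.Φ (cel 0 0 0 0 0 W), ?_, ?_⟩
      · rw [S.D.mem_Ct.1 (S.cel_Ct _ _ _ _ _ _), mul_inv_cancel_right]; exact mem_zpowers _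
      · rw [S.F.cd_act ⟨_, S.cel_Ct 0 0 0 0 0 W⟩ _ hwQ, S.cel_φ, hwv, hW]
    · have hs : S.Φ s0 * S.D.z * (S.Φ s0)⁻¹ ∈ S.D.Zc := by rw [S.s0_z]; exact inv_mem (mem_zpowers _)
      have e0 : S.Φ s0 * S.Φ wel * (S.Φ s0)⁻¹ = S.Φ (cel 1 0 0 2 0 1) := by
        rw [mul_inv_eq_iff_eq_mul, ← map_mul, ← map_mul]; exact S.eq_of (by decide +kernel)
      refine ⟨S.Φ (cel 0 0 0 0 0 (W * -1)) * S.Φ s0, ?_, ?_⟩
      · rw [show ∀ a b : G, a * b * S.D.z * (a * b)⁻¹ = a * (b * S.D.z * b⁻¹) * a⁻¹ from fun a b => by group,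
          S.s0_z, S.D.conj_Zc (S.cel_Ct _ _ _ _ _ _) (inv_mem (mem_zpowers _))]
        exact inv_mem (mem_zpowers _)
      · rw [show ∀ a b : G, a * b * S.Φ wel * (a * b)⁻¹ = a * (b * S.Φ wel * b⁻¹) * a⁻¹ from fun a b => by group, e0,
          S.F.cd_act ⟨_, S.cel_Ct 0 0 0 0 0 (W * -1)⟩ _ (S.cel_Q _ _ _ _ _).1, S.cel_φ, (S.cel_Q _ _ _ _ _).2, act_mul,
          show act (-1 : SL23) ((0 : ZMod 3), -1, 2, 0) = (0, 1, 1, 0) by decide +kernel, hW]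
  set w' := m * S.Φ wel * m⁻¹ with hw'
  have hw'Q : w' ∈ S.D.Q := S.D.Q_of_normalizer hm hwQ
  obtain ⟨u, hu⟩ := dt_facts.2.2 (S.F.cd q) (S.D.expo (q * w'⁻¹)) (fun e => hqd (by rw [e]; decide))
  obtain ⟨p, hp, hpv⟩ := S.F.cd_surj u
  have hzq : q * w'⁻¹ ∈ S.D.Zc := (S.F.cd_zero _ (mul_mem hqQ (inv_mem hw'Q))).1 (by
    rw [S.F.cd_mul _ hqQ _ (inv_mem hw'Q), S.F.cd_inv hw'Q, hmv, add_neg_cancel])
  have hq' : q = (p * m) * S.Φ wel * (p * m)⁻¹ := by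
    rw [show (p * m) * S.Φ wel * (p * m)⁻¹ = (p * w' * p⁻¹ * w'⁻¹) * w' by rw [hw']; group,
      S.F.cd_cm p hp w' hw'Q, hpv, hmv, hu, S.D.pow_expo hzq, inv_mul_cancel_right]
  intro g hg
  rw [mem_centralizer_singleton_iff, hq'] at hg
  have h1 : (p * m)⁻¹ * g * (p * m) ∈ centralizer ({S.Φ wel} : Set G) := by
    rw [mem_centralizer_singleton_iff]
    calc (p * m)⁻¹ * g * (p * m) * S.Φ wel = (p * m)⁻¹ * (g * ((p * m) * S.Φ wel * (p * m)⁻¹)) * (p * m) := by group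
      _ = (p * m)⁻¹ * ((p * m) * S.Φ wel * (p * m)⁻¹ * g) * (p * m) := by rw [hg]
      _ = _ := by group
  have h2 := S.D.Q_of_normalizer (g := p * m) (by
    rw [show (p * m) * S.D.z * (p * m)⁻¹ = p * (m * S.D.z * m⁻¹) * p⁻¹ by group, S.D.conj_Zc (S.D.Q_le_Ct hp) hm]
    exact hm) (S.centW_std hplane h1)
  rwa [show p * m * ((p * m)⁻¹ * g * (p * m)) * (p * m)⁻¹ = g by group] at h2

end Std

end CfsgLib.L43Rec
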