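import Cfsg.Agent.Lib.L43Rec.PlaneAct
import Cfsg.Agent.Lib.SLCard
import Cfsg.Agent.S0051

/-!
A complement of the plane in its normalizer.
-/

set_option autoImplicit false

namespace CfsgLib.L43Rec

open Subgroup

universe u

namespace Frame

variable {G : Type u} [Group G] (K : Frame G)

theorem exists_R0 : ∃ R : Subgroup G, R ≤ K.D.Ct ∧ (∀ g ∈ R, g ∈ K.A → g = 1) ∧
    ∀ g : K.D.Ct, K.D.φ g ∈ zpowers mU → (g : G) ∈ K.A ⊔ R ∧ ∀ r ∈ R, ∃ h : r ∈ K.D.Ct, K.D.φ ⟨r, h⟩ ∈ zpowers mU := by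
  classical
  set D := K.D with hD
  set F := K.F with hF
  obtain ⟨k0, hk0, hk0v⟩ := F.cd_surj (0, 0, 1, 0)
  obtain ⟨y, hy, hyv⟩ := F.cd_surj (0, 0, 0, 1)
  have hfix : act mU (0, 0, 1, 0) = (0, 0, 1, 0) := f_fix.2.1
  obtain ⟨i, -, hi⟩ := D.mem_Zc.1 (show (K.c : G) * k0 * (K.c : G)⁻¹ * k0⁻¹ ∈ D.Zc from
    (F.cd_zero _ (mul_mem (D.conj_Q K.c.2 hk0) (inv_mem hk0))).1 (by
      rw [F.cd_mul _ (D.conj_Q K.c.2 hk0) _ (inv_mem hk0), F.cd_inv hk0, F.cd_act K.c k0 hk0, K.c_φ, hk0v, hfix,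
        add_neg_cancel]))
  obtain ⟨q, hq, hqv⟩ := F.cd_surj (0, (i : ZMod 3), 0, 0)
  have hqA : q ∈ K.A := ⟨hq, by rw [hqv]⟩
  set c : D.Ct := K.c * ⟨q, D.Q_le_Ct hq⟩ with hc
  have hcQ' : (c : G) ∈ (D.conj K.g).Q := mul_mem K.c_Q (K.A_le_Q' hqA)
  have hcφ : D.φ c = mU := by rw [hc, map_mul, (D.φ_ker ⟨q, _⟩).2 hq, mul_one, K.c_φ]
  have hc3 : (c : G) ^ 3 = 1 := (D.conj K.g).Q_exp _ hcQ'
  have hck0 : (c : G) * k0 * (c : G)⁻¹ = k0 := by
    have e := F.cd_cm q hq k0 hk0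
    rw [hqv, hk0v, show om (0, (i : ZMod 3), 0, 0) (0, 0, 1, 0) = -(i : ZMod 3) by simp [om]] at e
    have hz : (K.c : G) * (q * k0 * q⁻¹ * k0⁻¹) * (K.c : G)⁻¹ = q * k0 * q⁻¹ * k0⁻¹ :=
      D.conj_Zc K.c.2 (D.Q_comm q hq k0 hk0)
    calc (c : G) * k0 * (c : G)⁻¹ = (K.c : G) * q * k0 * ((K.c : G) * q)⁻¹ := rfl
      _ = ((K.c : G) * (q * k0 * q⁻¹ * k0⁻¹) * (K.c : G)⁻¹) * ((K.c : G) * k0 * (K.c : G)⁻¹ * k0⁻¹) * k0 := by group
      _ = D.z ^ (-(i : ZMod 3)).val * D.z ^ i * k0 := by rw [hz, e, hi]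
      _ = k0 := by
        rw [← pow_add, pow_eq_pow_mod _ D.z_cube, ← ZMod.val_natCast 3, Nat.cast_add, ZMod.natCast_zmod_val,
          neg_add_cancel, ZMod.val_zero, pow_zero, one_mul]
  set k := (c : G) * y * (c : G)⁻¹ * y⁻¹ with hk
  have hkQ : k ∈ D.Q := mul_mem (D.conj_Q c.2 hy) (inv_mem hy)
  have hkv : F.cd k = (0, 0, 1, 0) := by
    rw [hk, F.cd_mul _ (D.conj_Q c.2 hy) _ (inv_mem hy), F.cd_inv hy, F.cd_act c y hy, hcφ, hyv]
    decide +kernel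
  have hck : (c : G) * k * (c : G)⁻¹ = k := by
    have hz : k * k0⁻¹ ∈ D.Zc := (F.cd_zero _ (mul_mem hkQ (inv_mem hk0))).1 (by
      rw [F.cd_mul _ hkQ _ (inv_mem hk0), F.cd_inv hk0, hkv, hk0v, add_neg_cancel])
    calc (c : G) * k * (c : G)⁻¹ = ((c : G) * (k * k0⁻¹) * (c : G)⁻¹) * ((c : G) * k0 * (c : G)⁻¹) := by group
      _ = k := by rw [D.conj_Zc c.2 hz, hck0, inv_mul_cancel_right]
  have hky : k * y = y * k := by
    have e := F.cd_cm k hkQ y hy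
    rw [hkv, hyv, show om (0, 0, 1, 0) (0, 0, 0, 1) = 0 by decide, ZMod.val_zero, pow_zero] at e
    exact mul_inv_eq_iff_eq_mul.1 (mul_inv_eq_one.1 e)
  have h3 : ∀ p ∈ D.Q, p ^ 3 = 1 := D.Q_exp
  let f : Multiplicative (ZMod 3 × ZMod 3) →* G :=
    { toFun := fun p => y ^ p.toAdd.1.val * k ^ p.toAdd.2.val
      map_one' := by simp
      map_mul' := fun p r => by
        simp only [toAdd_mul, Prod.fst_add, Prod.snd_add, pow_val _ (h3 y hy), pow_val _ (h3 k hkQ)]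
        have hcm : k ^ p.toAdd.2.val * y ^ r.toAdd.1.val = y ^ r.toAdd.1.val * k ^ p.toAdd.2.val :=
          ((show Commute k y from hky).pow_pow _ _).eq
        rw [show y ^ p.toAdd.1.val * y ^ r.toAdd.1.val * (k ^ p.toAdd.2.val * k ^ r.toAdd.2.val) =
          y ^ p.toAdd.1.val * (y ^ r.toAdd.1.val * k ^ p.toAdd.2.val) * k ^ r.toAdd.2.val by group, ← hcm]
        group }
  have hfQ : f.range ≤ D.Q := by
    rintro _ ⟨p, rfl⟩; exact mul_mem (pow_mem hy _) (pow_mem hkQ _)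
  have hfc : ∀ w ∈ f.range, (c : G) * w * (c : G)⁻¹ ∈ f.range := by
    rintro _ ⟨p, rfl⟩
    refine ⟨Multiplicative.ofAdd (p.toAdd.1, p.toAdd.1 + p.toAdd.2), ?_⟩
    show y ^ p.toAdd.1.val * k ^ (p.toAdd.1 + p.toAdd.2).val = (c : G) * (y ^ p.toAdd.1.val * k ^ p.toAdd.2.val) * (c : G)⁻¹
    rw [show (c : G) * (y ^ p.toAdd.1.val * k ^ p.toAdd.2.val) * (c : G)⁻¹ =
      ((c : G) * y * (c : G)⁻¹) ^ p.toAdd.1.val * ((c : G) * k * (c : G)⁻¹) ^ p.toAdd.2.val by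
        rw [conj_pow, conj_pow]; group, hck, show (c : G) * y * (c : G)⁻¹ = y * k by rw [← hky, hk]; group,
      (show Commute y k from hky.symm).mul_pow, pow_val _ (h3 k hkQ), mul_assoc]
  have hnorm : zpowers (c : G) ≤ normalizer (f.range : Set G) := by
    rw [zpowers_le, mem_normalizer_iff]
    refine fun w => ⟨hfc w, fun hw => ?_⟩
    have := hfc _ (hfc _ hw)
    rwa [show (c : G) * ((c : G) * ((c : G) * w * (c : G)⁻¹) * (c : G)⁻¹) * (c : G)⁻¹ =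
      (c : G) ^ 3 * w * ((c : G) ^ 3)⁻¹ by rw [pow_three']; group, hc3, one_mul, inv_one, mul_one] at this
  refine ⟨f.range ⊔ zpowers (c : G), sup_le (hfQ.trans D.Q_le_Ct) (zpowers_le.2 c.2), ?_, ?_⟩
  · intro g hg hgA
    have hg' : g ∈ ((f.range ⊔ zpowers (c : G) : Subgroup G) : Set G) := hg
    rw [coe_mul_of_right_le_normalizer_left _ _ hnorm] at hg'
    obtain ⟨w, hw, d, hd, rfl⟩ := hg'
    obtain ⟨n, rfl⟩ := mem_zpowers_iff.1 hd
    have hcn : (c : G) ^ n ∈ D.Q := by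
      have := mul_mem (inv_mem (hfQ hw)) hgA.1
      rwa [inv_mul_cancel_left] at this
    have hn : mU ^ n = 1 := by
      rw [← hcφ, ← map_zpow]
      exact (D.φ_ker _).2 (by rwa [coe_zpow])
    have hcn1 : (c : G) ^ n = 1 := by
      have ho : orderOf mU = 3 := orderOf_eq_prime (by decide +kernel) (by decide +kernel)
      rw [← orderOf_dvd_iff_zpow_eq_one, ho] at hn
      obtain ⟨j, rfl⟩ := hn
      rw [zpow_mul, zpow_natCast, hc3, one_zpow]
    dsimp only at hgA ⊢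
    rw [hcn1, mul_one] at hgA ⊢
    obtain ⟨p, rfl⟩ := hw
    have hv : F.cd (f p) = (0, 0, p.toAdd.2, p.toAdd.1) := by
      show F.cd (y ^ p.toAdd.1.val * k ^ p.toAdd.2.val) = _
      rw [F.cd_mul _ (pow_mem hy _) _ (pow_mem hkQ _), F.cd_pow hy, F.cd_pow hkQ, hyv, hkv, ZMod.natCast_zmod_val,
        ZMod.natCast_zmod_val]
      simp
    have h2 := hgA.2
    rw [hv] at h2
    simp only [Prod.mk.injEq] at h2
    show y ^ p.toAdd.1.val * k ^ p.toAdd.2.val = 1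
    simp [h2.1, h2.2]
  · intro g hg
    refine ⟨?_, fun r hr => ⟨(sup_le (hfQ.trans D.Q_le_Ct) (zpowers_le.2 c.2)) hr, ?_⟩⟩
    · obtain ⟨n, hn⟩ := mem_zpowers_iff.1 hg
      set p : D.Ct := g * (c ^ n)⁻¹ with hp
      have hpQ : (p : G) ∈ D.Q := (D.φ_ker p).1 (by rw [hp, map_mul, map_inv, map_zpow, hcφ, hn, mul_inv_cancel])
      set w := f (Multiplicative.ofAdd ((F.cd p).2.2.2, (F.cd p).2.2.1)) with hw
      have hwR : w ∈ f.range := ⟨_, rfl⟩
      have hpw : (p : G) * w⁻¹ ∈ K.A := by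
        refine ⟨mul_mem hpQ (inv_mem (hfQ hwR)), ?_⟩
        rw [F.cd_mul _ hpQ _ (inv_mem (hfQ hwR)), F.cd_inv (hfQ hwR)]
        have hv : F.cd w = (0, 0, (F.cd p).2.2.1, (F.cd p).2.2.2) := by
          show F.cd (y ^ _ * k ^ _) = _
          rw [F.cd_mul _ (pow_mem hy _) _ (pow_mem hkQ _), F.cd_pow hy, F.cd_pow hkQ, hyv, hkv,
            ZMod.natCast_zmod_val, ZMod.natCast_zmod_val]
          simp
        rw [hv]; ext <;> simp
      rw [show (g : G) = ((p : G) * w⁻¹) * (w * (c : G) ^ n) by rw [hp]; simp [mul_assoc]]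
      exact mul_mem (mem_sup_left hpw) (mem_sup_right (mul_mem (mem_sup_left hwR) (mem_sup_right (zpow_mem (mem_zpowers _) _))))
    · have hle : f.range ⊔ zpowers (c : G) ≤ ((zpowers mU).comap D.φ).map D.Ct.subtype := sup_le
        (fun w hw => ⟨⟨w, D.Q_le_Ct (hfQ hw)⟩, by
          show D.φ ⟨w, _⟩ ∈ zpowers mU
          rw [(D.φ_ker ⟨w, _⟩).2 (hfQ hw)]; exact one_mem _, rfl⟩)
        (zpowers_le.2 ⟨c, by show D.φ c ∈ zpowers mU; rw [hcφ]; exact mem_zpowers _, rfl⟩)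
      obtain ⟨r', hr', rfl⟩ := hle hr
      exact hr'

theorem exists_section [Finite G] :
    ∃ σ : Matrix.SpecialLinearGroup (Fin 3) (ZMod 3) →* K.N, ∀ M, K.ν (σ M) = M := by
  classical
  obtain ⟨R, hRC, hRA, hR⟩ := K.exists_R0
  let U : Subgroup K.N := ((zpowers mU).comap K.D.φ).map K.D.Ct.subtype |>.subgroupOf K.N
  let A' : Subgroup K.N := K.A.subgroupOf K.N
  have hA'k : A' = K.ν.ker := by ext g; exact (K.ν_ker g).symm
  haveI : A'.Normal := hA'k ▸ inferInstance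
  haveI : IsMulCommutative A' := ⟨⟨fun a b => Subtype.ext (Subtype.ext (K.A_comm _ a.2 _ b.2))⟩⟩
  have hAU : A' ≤ U := fun g hg => ⟨⟨g, K.D.Q_le_Ct hg.1⟩, by
    show K.D.φ ⟨(g : G), _⟩ ∈ zpowers mU
    rw [(K.D.φ_ker ⟨(g : G), _⟩).2 hg.1]; exact one_mem _, rfl⟩
  have hRU : R.subgroupOf K.N ≤ U := fun g hg => by
    obtain ⟨h1, h2⟩ := (hR 1 (by rw [map_one]; exact one_mem _)).2 _ hg
    exact ⟨⟨_, h1⟩, h2, rfl⟩
  have hcard27 : Nat.card A' = 27 := by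
    rw [Nat.card_congr (subgroupOfEquivOfLe (fun q (hq : q ∈ K.A) => K.Ct_le_N (K.D.Q_le_Ct hq.1))).toEquiv,
      show Nat.card K.A = Nat.card (K.D.Q ⊓ (K.D.conj K.g).Q : Subgroup G) by rw [K.plane_eq], K.E_card]
  have hcardN : Nat.card K.N = 27 * 5616 := by
    haveI : Fact (Nat.Prime 3) := ⟨Nat.prime_three⟩
    have hSL : Nat.card (Matrix.SpecialLinearGroup (Fin 3) (ZMod 3)) = 5616 := by
      have h := CfsgLib.SLCard.card_units_mul_card_SL (F := ZMod 3) (n := 3) (by norm_num)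
      rw [Matrix.card_GL_field] at h
      simp [Fin.prod_univ_three, Nat.card_eq_fintype_card, ZMod.card, Fintype.card_units] at h
      rw [← Nat.card_eq_fintype_card] at h
      omega
    rw [← card_mul_index A', hcard27, hA'k, index_ker, MonoidHom.range_eq_top.2 K.ν_surj,
      Nat.card_congr topEquiv.toEquiv, hSL]
  have hcardU : Nat.card U = 729 := by
    rw [Nat.card_congr (subgroupOfEquivOfLe (((map_subtype_le _)).trans K.Ct_le_N)).toEquiv,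
      card_map_of_injective K.D.Ct.subtype_injective]
    let ψ : ((zpowers mU).comap K.D.φ) →* zpowers mU :=
      (K.D.φ.comp ((zpowers mU).comap K.D.φ).subtype).codRestrict _ fun g => g.2
    have hsurj : Function.Surjective ψ := fun m => by
      obtain ⟨g, hg⟩ := K.D.φ_surj m
      exact ⟨⟨g, by show K.D.φ g ∈ zpowers mU; rw [hg]; exact m.2⟩, Subtype.ext hg⟩
    rw [← card_mul_index ψ.ker, index_ker, MonoidHom.range_eq_top.2 hsurj, Nat.card_congr topEquiv.toEquiv,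
      Nat.card_zpowers, orderOf_eq_prime (p := 3) (x := mU) (by decide +kernel) (by decide +kernel)]
    have e : Nat.card ψ.ker = Nat.card K.D.Q := Nat.card_congr
      ⟨fun g => ⟨(g.1.1 : G), (K.D.φ_ker _).1 (congrArg Subtype.val g.2)⟩,
        fun q => ⟨⟨⟨q, K.D.Q_le_Ct q.2⟩, by show K.D.φ _ ∈ zpowers mU; rw [(K.D.φ_ker _).2 q.2]; exact one_mem _⟩,
          Subtype.ext ((K.D.φ_ker _).2 q.2)⟩, fun g => rfl, fun q => rfl⟩
    rw [e, K.D.Q_card]
  have hcop : (Nat.card A').Coprime U.index := by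
    have h := card_mul_index U
    rw [hcardU, hcardN] at h
    rw [hcard27, show U.index = 208 by omega]
    norm_num
  have hsup : A' ⊔ R.subgroupOf K.N = U := by
    refine le_antisymm (sup_le hAU hRU) fun g hg => ?_
    obtain ⟨g', hg', e⟩ := hg
    have h := (hR g' hg').1
    rw [show (g' : G) = (g : G) from e] at h
    show g ∈ A' ⊔ R.subgroupOf K.N
    rw [← subgroupOf_sup (fun q (hq : q ∈ K.A) => K.Ct_le_N (K.D.Q_le_Ct hq.1)) (hRC.trans K.Ct_le_N)]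
    exact h
  obtain ⟨H, hH⟩ := Cfsg.Agent.S0051.result A' U hAU hcop (R.subgroupOf K.N) hRU
    (by
      rw [eq_bot_iff]
      exact fun g hg => Subtype.ext (hRA _ hg.1 hg.2)) hsup
  let νH : H →* Matrix.SpecialLinearGroup (Fin 3) (ZMod 3) := K.ν.comp H.subtype
  have hinj : Function.Injective νH := by
    rw [injective_iff_map_eq_one]
    intro h hh
    exact Subtype.ext (mem_bot.1 (hH.disjoint.le_bot
      ⟨show (h : K.N) ∈ A' from hA'k.ge hh, h.2⟩))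
  have hsur : Function.Surjective νH := fun M => by
    obtain ⟨g, rfl⟩ := K.ν_surj M
    obtain ⟨⟨a, h⟩, e⟩ := hH.2 g
    refine ⟨h, ?_⟩
    show K.ν h = _
    rw [← show (a : K.N) * h = g from e, map_mul, (K.ν_ker a).2 a.2, one_mul]
  exact ⟨H.subtype.comp (MulEquiv.ofBijective νH ⟨hinj, hsur⟩).symm.toMonoidHom, fun M =>
    (MulEquiv.ofBijective νH ⟨hinj, hsur⟩).apply_symm_apply M⟩

end Frame

end CfsgLib.L43Rec
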