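import Cfsg.Agent.Lib.L43Rec.Form

/-!
Coordinates on the core modulo the centre adapted to a singular fixed vector.
-/

set_option autoImplicit false

namespace CfsgLib.L43Rec

open Subgroup

universe u

/-- Coordinates. -/
structure Coord {G : Type u} [Group G] (D : Setting G) where
  /-- the map -/
  cd : G → V4
  /-- additive on the core -/
  cd_mul : ∀ q ∈ D.Q, ∀ r ∈ D.Q, cd (q * r) = cd q + cd r
  /-- with kernel the centre -/
  cd_zero : ∀ q ∈ D.Q, cd q = 0 ↔ q ∈ zpowers D.z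
  /-- onto -/
  cd_surj : ∀ v : V4, ∃ q ∈ D.Q, cd q = v
  /-- compatible with the action -/
  cd_act : ∀ c : centralizer ({D.z} : Set G), ∀ q ∈ D.Q, cd ((c : G) * q * (c : G)⁻¹) = act (D.φ c) (cd q)
  /-- giving the commutators -/
  cd_cm : ∀ q ∈ D.Q, ∀ r ∈ D.Q, q * r * q⁻¹ * r⁻¹ = D.z ^ (om (cd q) (cd r)).val

theorem pick_partner : ∀ p q r s t : ZMod 3, p * r - q * q ≠ 0 → ¬ (s = 0 ∧ t = 0) →
    p * s * s + 2 * q * s * t + r * t * t = 0 →
    ∃ i j : ZMod 3, p * s * i + q * (s * j + t * i) + r * t * j = 1 ∧ p * i * i + 2 * q * i * j + r * j * j = 0 ∧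
      s * j - t * i ≠ 0 := by decide +kernel

namespace Setting

variable {G : Type u} [Group G] (D : Setting G)

theorem exists_coord {w w' : D.Mv} (hw : w ∈ D.W0) (hw' : w' ∈ D.W0)
    (hsp : ∀ m ∈ D.W0, ∃ i j : ZMod 3, m = i • w + j • w') (hind : ∀ i j : ZMod 3, i • w + j • w' = 0 → i = 0 ∧ j = 0)
    (h00 : D.β w w = 0) (h01 : D.β w w' = 1) (h11 : D.β w' w' = 0) :
    ∃ F : Coord D, ∀ q (hq : q ∈ D.Q) (i : ZMod 3), Additive.ofMul (D.pr ⟨q, hq⟩) = i • w → F.cd q = (i, 0, 0, 0) := by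
  classical
  let pt : V4 → D.Mv := fun v => (v.1 • w + v.2.2.1 • w') + D.ρs mI (v.2.1 • w + v.2.2.2 • w')
  have hW : ∀ i j : ZMod 3, i • w + j • w' ∈ D.W0 := fun i j => add_mem (D.W0.smul_mem i hw) (D.W0.smul_mem j hw')
  have padd : ∀ u v, pt (u + v) = pt u + pt v := fun u v => by
    simp only [pt, Prod.fst_add, Prod.snd_add, add_smul, map_add]; abel
  have pinj : Function.Injective pt := by
    rintro ⟨a, b, c, d⟩ ⟨a', b', c', d'⟩ e
    obtain ⟨e1, e2⟩ := D.unique (hW _ _) (hW _ _) (hW _ _) (hW _ _) e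
    obtain ⟨h1, h2⟩ := hind (a - a') (c - c') (by rw [sub_smul, sub_smul, ← sub_eq_zero.2 e1]; abel)
    obtain ⟨h3, h4⟩ := hind (b - b') (d - d') (by rw [sub_smul, sub_smul, ← sub_eq_zero.2 e2]; abel)
    rw [sub_eq_zero.1 h1, sub_eq_zero.1 h2, sub_eq_zero.1 h3, sub_eq_zero.1 h4]
  have psurj : Function.Surjective pt := by
    intro m
    obtain ⟨a, c, h1⟩ := hsp (D.Φ q0 m) ⟨m, rfl⟩
    obtain ⟨b, d, h2⟩ := hsp (D.Φ q0 (D.Φ (-qi) m)) ⟨_, rfl⟩
    refine ⟨(a, b, c, d), ?_⟩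
    conv_rhs => rw [D.decompose m, h1, h2]
  let e : V4 ≃ D.Mv := Equiv.ofBijective pt ⟨pinj, psurj⟩
  have pact : ∀ g : SL23, ∀ v, D.ρs g (pt v) = pt (act g v) := by
    intro g
    induction g using sl_induction with
    | h1 => intro v; rw [map_one, act_one]; rfl
    | hI g ih =>
      intro v
      rw [map_mul, Module.End.mul_apply, ih, act_mul]
      set u := act g v
      simp only [pt, map_add]
      rw [show ∀ m, D.ρs mI (D.ρs mI m) = (D.ρs mI * D.ρs mI) m from fun m => rfl,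
        show ∀ m, D.ρs mI (D.ρs mI m) = (D.ρs mI * D.ρs mI) m from fun m => rfl, D.rel.1]
      have e2 : ∀ (a : ZMod 3) (m : D.Mv), (2 * a) • m = -(a • m) := fun a m => by
        rw [← neg_smul, show 2 * a = -a by revert a; decide]
      simp only [act, mI, Matrix.of_apply, Matrix.cons_val', Matrix.cons_val_zero, Matrix.cons_val_one,
        Matrix.cons_val_fin_one, LinearMap.neg_apply, Module.End.one_apply, zero_mul, one_mul, zero_add, add_zero, e2,
        map_add, map_smul, smul_neg]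
      abel
    | hU g ih =>
      intro v
      rw [map_mul, Module.End.mul_apply, ih, act_mul]
      set u := act g v
      simp only [pt, D.U_parts (hW _ _) (hW _ _)]
      simp only [act, mU, Matrix.of_apply, Matrix.cons_val', Matrix.cons_val_zero, Matrix.cons_val_one,
        Matrix.cons_val_fin_one, zero_mul, one_mul, zero_add, add_smul]
      abel
  have pom : ∀ u v, D.ω (pt u) (pt v) = om u v := by
    intro u v
    simp only [pt]
    rw [D.ω_add_left (_ + _), D.ω_add_right (u.1 • w + u.2.2.1 • w') (_ + _), D.ω_add_right (D.ρs mI _) (_ + _), D.iso_W0 (hW _ _) (hW _ _), D.iso_IW0 (hW _ _) (hW _ _),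
      D.ω_swap (v.1 • w + v.2.2.1 • w') (D.ρs mI (u.2.1 • w + u.2.2.2 • w'))]
    show 0 + D.β (u.1 • w + u.2.2.1 • w') (v.2.1 • w + v.2.2.2 • w') +
      (-D.β (v.1 • w + v.2.2.1 • w') (u.2.1 • w + u.2.2.2 • w') + 0) = _
    simp only [β_add_left, β_add_right, β_smul_left, β_smul_right, D.β_symm w w', h00, h01, h11, om]
    ring
  let cd : G → V4 := fun q => if hq : q ∈ D.Q then e.symm (Additive.ofMul (D.pr ⟨q, hq⟩)) else 0
  have cde : ∀ q (hq : q ∈ D.Q), pt (cd q) = Additive.ofMul (D.pr ⟨q, hq⟩) := fun q hq => by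
    simp only [cd, dif_pos hq]; exact e.apply_symm_apply _
  have pzero : pt 0 = 0 := by simp [pt]
  refine ⟨⟨cd, fun q hq r hr => pinj ?_, fun q hq => ?_, fun v => ?_, fun c q hq => pinj ?_, fun q hq r hr => ?_⟩,
    fun q hq i hi => pinj ?_⟩
  · rw [padd, cde q hq, cde r hr, cde _ (mul_mem hq hr), ← ofMul_mul, ← map_mul]; rfl
  · show cd q = 0 ↔ _
    rw [← pinj.eq_iff, pzero, cde q hq, ofMul_eq_zero, D.pr_one]
  · obtain ⟨q, hq⟩ := D.pr_surj (pt v).toMul
    exact ⟨q, q.2, pinj (by rw [cde q q.2, hq]; rfl)⟩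
  · rw [cde _ (D.conj_Q c.2 hq), ← pact, cde q hq, ρs_φ]; rfl
  · have h := D.ω_pr ⟨q, hq⟩ ⟨r, hr⟩
    rw [← cde q hq, ← cde r hr, pom] at h
    rw [h]
    exact (D.pow_expo (D.cm_mem ⟨q, hq⟩ ⟨r, hr⟩)).symm
  · show pt (cd q) = _
    rw [cde q hq, hi]
    simp [pt]

/-- Coordinates from a fixed vector which is singular. -/
theorem exists_frame {x : G} (hx : x ∈ D.Q) (hxz : x ∉ D.Zc) {y : G} (hy : y ∈ D.Q) (hxy : x * y = y * x)
    {c : centralizer ({D.z} : Set G)} (hc : D.φ c = mU) (hcx : (c : G) * x * (c : G)⁻¹ * x⁻¹ ∈ D.Zc)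
    (hcy : ∃ k : ℕ, k % 3 ≠ 0 ∧ (c : G) * y * (c : G)⁻¹ * y⁻¹ * (x ^ k)⁻¹ ∈ D.Zc) :
    ∃ F : Coord D, F.cd x = (1, 0, 0, 0) := by
  set X := Additive.ofMul (D.pr ⟨x, hx⟩) with hX
  set Y := Additive.ofMul (D.pr ⟨y, hy⟩) with hY
  have hX0 : X ≠ 0 := fun e => hxz (by rw [hX, ofMul_eq_zero, D.pr_one] at e; exact e)
  have hcX : D.ρs mU X = X := by
    rw [← hc, ρs_φ]
    show Additive.ofMul (D.conjB c (D.pr ⟨x, hx⟩)) = _
    rw [conjB_mk, hX, Equiv.apply_eq_iff_eq, ← mul_inv_eq_one, ← map_inv, ← map_mul, D.pr_one]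
    exact hcx
  obtain ⟨k, hk, hcy⟩ := hcy
  have hcY : D.ρs mU Y = Y + (k : ZMod 3) • X := by
    rw [← hc, ρs_φ, Nat.cast_smul_eq_nsmul, add_comm, ← ofMul_pow, ← map_pow, ← ofMul_mul, ← map_mul]
    show Additive.ofMul (D.conjB c (D.pr ⟨y, hy⟩)) = _
    rw [conjB_mk, Equiv.apply_eq_iff_eq, ← mul_inv_eq_one, ← map_inv, ← map_mul, D.pr_one]
    show (c : G) * y * (c : G)⁻¹ * (x ^ k * y)⁻¹ ∈ D.Zc
    rw [mul_inv_rev, ← mul_assoc]
    exact hcy
  have parts : ∀ m : D.Mv, D.ρs mU m = m + D.Φ q0 (D.Φ (-qi) m) := fun m => by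
    conv_lhs => rw [D.decompose m, D.U_parts ⟨_, rfl⟩ ⟨_, rfl⟩]
    conv_rhs => arg 1; rw [D.decompose m]
    abel
  have hXW : X ∈ D.W0 := by
    have h1 := parts X
    rw [hcX, left_eq_add] at h1
    have h2 := D.decompose X
    rw [h1, map_zero, add_zero] at h2
    exact ⟨X, h2.symm⟩
  have hYq : D.Φ q0 (D.Φ (-qi) Y) = (k : ZMod 3) • X := by
    have h1 := parts Y
    rw [hcY] at h1
    exact (add_left_cancel h1).symm
  have hk0 : (k : ZMod 3) ≠ 0 := by
    rw [Ne, ZMod.natCast_eq_zero_iff]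
    omega
  have hXX : D.β X X = 0 := by
    have h1 : D.ω X Y = 0 := by
      rw [hX, hY, ω_pr, show cm x y = D.z ^ 0 by rw [cm, hxy]; simp, expo_pow, Nat.cast_zero]
    rw [D.decompose Y, ω_add_right, D.iso_W0 hXW ⟨_, rfl⟩, zero_add, hYq, show D.ω X (D.ρs mI ((k : ZMod 3) • X)) =
      D.β X ((k : ZMod 3) • X) from rfl, β_smul_right] at h1
    exact (mul_eq_zero.1 h1).resolve_left hk0
  obtain ⟨a, ha, b, hb, hsp, hind⟩ := D.exists_basis
  obtain ⟨s, t, hst⟩ := hsp X hXW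
  have hne : ¬ (s = 0 ∧ t = 0) := fun ⟨h1, h2⟩ => hX0 (by rw [hst, h1, h2]; simp)
  have hdet : D.β a a * D.β b b - D.β a b * D.β a b ≠ 0 := by
    intro e
    have key : ∀ p q r : ZMod 3, p * r - q * q = 0 → ∃ i j : ZMod 3, ¬(i = 0 ∧ j = 0) ∧ i * p + j * q = 0 ∧
        i * q + j * r = 0 := by decide
    obtain ⟨i, j, hne, h1, h2⟩ := key _ _ _ e
    refine hne (hind i j (D.β_nondeg (add_mem (D.W0.smul_mem i ha) (D.W0.smul_mem j hb)) fun q hq => ?_))
    obtain ⟨k, l, rfl⟩ := hsp q hq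
    simp only [β_add_left, β_add_right, β_smul_left, β_smul_right, D.β_symm a b]
    linear_combination k * h1 + l * h2
  rw [hst] at hXX
  simp only [β_add_left, β_add_right, β_smul_left, β_smul_right, D.β_symm a b] at hXX
  obtain ⟨i, j, g1, g2, g3⟩ := pick_partner _ _ _ s t hdet hne (by linear_combination hXX)
  have hW' : i • a + j • b ∈ D.W0 := add_mem (D.W0.smul_mem i ha) (D.W0.smul_mem j hb)
  have hspan : ∀ m ∈ D.W0, ∃ k l : ZMod 3, m = k • X + l • (i • a + j • b) := by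
    intro m hm
    obtain ⟨u, v, rfl⟩ := hsp m hm
    have key : ∀ s t i j u v : ZMod 3, s * j - t * i ≠ 0 → ∃ k l : ZMod 3, u = k * s + l * i ∧ v = k * t + l * j := by
      decide +kernel
    obtain ⟨k, l, rfl, rfl⟩ := key s t i j u v g3
    exact ⟨k, l, by rw [hst]; module⟩
  have hindep : ∀ u v : ZMod 3, u • X + v • (i • a + j • b) = 0 → u = 0 ∧ v = 0 := by
    intro u v e
    rw [hst] at e
    obtain ⟨h1, h2⟩ := hind (u * s + v * i) (u * t + v * j) (by rw [← e]; module)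
    have key : ∀ s t i j u v : ZMod 3, s * j - t * i ≠ 0 → u * s + v * i = 0 → u * t + v * j = 0 → u = 0 ∧ v = 0 := by
      decide +kernel
    exact key s t i j u v g3 h1 h2
  obtain ⟨F, hF⟩ := D.exists_coord hXW hW' hspan hindep
    (by rw [hst]; simp only [β_add_left, β_add_right, β_smul_left, β_smul_right, D.β_symm a b]; linear_combination hXX)
    (by rw [hst]; simp only [β_add_left, β_add_right, β_smul_left, β_smul_right, D.β_symm a b]; linear_combination g1)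
    (by simp only [β_add_left, β_add_right, β_smul_left, β_smul_right, D.β_symm a b]; linear_combination g2)
  exact ⟨F, hF x hx 1 (one_smul _ _).symm⟩

end Setting

end CfsgLib.L43Rec
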