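import Cfsg.Agent.Lib.L43Rec.OneModel

/-!
The duality of SL(4,3) exchanging the stabilizers of a vector and of a functional.
-/

set_option autoImplicit false

namespace CfsgLib.L43Rec

open Matrix

/-- The form of the duality. -/
def Jm : Matrix (Fin 4) (Fin 4) (ZMod 3) := !![0, 0, 0, -1; 0, 0, -1, 0; 0, 1, 0, 0; 1, 0, 0, 0]

theorem Jm_orth : Jmᵀ * Jm = 1 ∧ Jm * Jmᵀ = 1 := by decide +kernel

theorem Jm_det : Jm.det * Jmᵀ.det = 1 := by rw [← Matrix.det_mul, Jm_orth.2, Matrix.det_one]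

/-- The duality. -/
def dual : SL43 →* SL43 where
  toFun g := ⟨Jm * (g⁻¹).1ᵀ * Jmᵀ, by
    rw [Matrix.det_mul, Matrix.det_mul, Matrix.det_transpose g⁻¹.1, (g⁻¹).2, mul_one, Jm_det]⟩
  map_one' := by
    apply Subtype.ext
    show Jm * ((1 : SL43)⁻¹).1ᵀ * Jmᵀ = (1 : SL43).1
    rw [inv_one, Matrix.SpecialLinearGroup.coe_one, Matrix.transpose_one, mul_one, Jm_orth.2]
  map_mul' g h := by
    apply Subtype.ext
    show Jm * ((g * h)⁻¹).1ᵀ * Jmᵀ = Jm * (g⁻¹).1ᵀ * Jmᵀ * (Jm * (h⁻¹).1ᵀ * Jmᵀ)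
    rw [_root_.mul_inv_rev, Matrix.SpecialLinearGroup.coe_mul, Matrix.transpose_mul]
    calc Jm * ((g⁻¹).1ᵀ * (h⁻¹).1ᵀ) * Jmᵀ = Jm * (g⁻¹).1ᵀ * (Jmᵀ * Jm) * ((h⁻¹).1ᵀ * Jmᵀ) := by
          rw [Jm_orth.1, mul_one]; simp [mul_assoc]
      _ = _ := by simp [mul_assoc]

/-- The stabilizer of the last functional. -/
def Ph3 : Subgroup SL43 := Ph0.comap dual

theorem dual_eq {g g' : SL43} (h : SL43) (hi : g'.1 * g.1 = 1) (he : Jm * g'.1ᵀ * Jmᵀ = h.1) : dual g = h := by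
  have hg : g⁻¹ = g' := inv_eq_of_mul_eq_one_left (Subtype.ext (by rw [Matrix.SpecialLinearGroup.coe_mul]; exact hi))
  apply Subtype.ext
  show Jm * (g⁻¹).1ᵀ * Jmᵀ = h.1
  rw [hg, he]

theorem dual_W_key : ∀ W : SL23, (cel 0 0 0 0 0 W⁻¹).1.1 * (cel 0 0 0 0 0 W).1.1 = 1 ∧
    Jm * (cel 0 0 0 0 0 W⁻¹).1.1ᵀ * Jmᵀ = (cel 0 0 0 0 0 W).1.1 := by decide +kernel

theorem dual_A1_key : ∀ a1 a2 a3 : ZMod 3, (cel (-a1) (-a2) (-a3) 0 0 1).1.1 * (cel a1 a2 a3 0 0 1).1.1 = 1 ∧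
    Jm * (cel (-a1) (-a2) (-a3) 0 0 1).1.1ᵀ * Jmᵀ = (cel 0 0 a3 a2 (-a1) 1).1.1 := by decide +kernel

theorem dual_A2_key : ∀ c1 c2 : ZMod 3, (cel 0 0 0 (-c1) (-c2) 1).1.1 * (cel 0 0 0 c1 c2 1).1.1 = 1 ∧
    Jm * (cel 0 0 0 (-c1) (-c2) 1).1.1ᵀ * Jmᵀ = (cel (-c2) c1 0 0 0 1).1.1 := by decide +kernel

theorem dual_W (W : SL23) : dual (cel 0 0 0 0 0 W).1 = (cel 0 0 0 0 0 W).1 :=
  dual_eq _ (dual_W_key W).1 (dual_W_key W).2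

theorem dual_A1 (a1 a2 a3 : ZMod 3) : dual (cel a1 a2 a3 0 0 1).1 = (cel 0 0 a3 a2 (-a1) 1).1 :=
  dual_eq _ (dual_A1_key a1 a2 a3).1 (dual_A1_key a1 a2 a3).2

theorem dual_A2 (c1 c2 : ZMod 3) : dual (cel 0 0 0 c1 c2 1).1 = (cel (-c2) c1 0 0 0 1).1 :=
  dual_eq _ (dual_A2_key c1 c2).1 (dual_A2_key c1 c2).2

/-- The negative of the inverting diagonal element. -/
def ns0 : SL43 := ⟨!![-1, 0, 0, 0; 0, -1, 0, 0; 0, 0, 1, 0; 0, 0, 0, 1], by decide +kernel⟩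

theorem dual_ns0 : dual ns0 = s0.1 := dual_eq (g' := ns0) _ (by decide +kernel) (by decide +kernel)

theorem Ph3_mem : (∀ W : SL23, (cel 0 0 0 0 0 W).1 ∈ Ph3) ∧
    (∀ a1 a2 a3 : ZMod 3, (cel a1 a2 a3 0 0 1).1 ∈ Ph3) ∧ (∀ c1 c2 : ZMod 3, (cel 0 0 0 c1 c2 1).1 ∈ Ph3) ∧
    ns0 ∈ Ph3 :=
  ⟨fun W => Subgroup.mem_comap.2 ((dual_W W).symm ▸ (cel 0 0 0 0 0 W).2),
    fun a b c => Subgroup.mem_comap.2 ((dual_A1 a b c).symm ▸ (cel 0 0 c b (-a) 1).2),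
    fun a b => Subgroup.mem_comap.2 ((dual_A2 a b).symm ▸ (cel (-b) a 0 0 0 1).2),
    Subgroup.mem_comap.2 (dual_ns0.symm ▸ s0.2)⟩

attribute [local irreducible] dual

/-- The blocks in the stabilizer. -/
def w3 (W : SL23) : Ph3 := ⟨_, Ph3_mem.1 W⟩

theorem w3_val (W : SL23) : (w3 W).1 = (cel 0 0 0 0 0 W).1 := rfl

/-- The first plane in the stabilizer. -/
def p3 (a1 a2 a3 : ZMod 3) : Ph3 := ⟨_, Ph3_mem.2.1 a1 a2 a3⟩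

/-- The second plane in the stabilizer. -/
def q3 (c1 c2 : ZMod 3) : Ph3 := ⟨_, Ph3_mem.2.2.1 c1 c2⟩

/-- The inverting element in the stabilizer. -/
def n3 : Ph3 := ⟨_, Ph3_mem.2.2.2⟩

/-- The duality into the point stabilizer. -/
def dual3 : Ph3 →* Ph0 := (dual.comp Ph3.subtype).codRestrict Ph0 fun g => g.2

theorem dual3_w (W : SL23) : dual3 (w3 W) = cel 0 0 0 0 0 W := Subtype.ext (dual_W W)

theorem dual3_p (a1 a2 a3 : ZMod 3) : dual3 (p3 a1 a2 a3) = cel 0 0 a3 a2 (-a1) 1 := Subtype.ext (dual_A1 _ _ _)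

theorem dual3_q (c1 c2 : ZMod 3) : dual3 (q3 c1 c2) = cel (-c2) c1 0 0 0 1 := Subtype.ext (dual_A2 _ _)

theorem dual3_n : dual3 n3 = s0 := Subtype.ext dual_ns0

end CfsgLib.L43Rec
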