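import Cfsg.Agent.Lib.L43Rec.Module

/-!
The commutator form on the module, and the semisimplicity of the action.
-/

set_option autoImplicit false

namespace CfsgLib.L43Rec

open Subgroup

universe u

/-- The matrices preserving a nondegenerate symmetric form and of order dividing three are trivial. -/
theorem unip_trivial : ∀ p q r a b c d : ZMod 3, p * r - q * q ≠ 0 →
    p * a * a + 2 * q * a * c + r * c * c = p → p * a * b + q * (a * d + b * c) + r * c * d = q →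
    p * b * b + 2 * q * b * d + r * d * d = r →
    (a * a + b * c) * a + (a * b + b * d) * c = 1 → (c * a + d * c) * b + (c * b + d * d) * d = 1 →
    (a * a + b * c) * b + (a * b + b * d) * d = 0 → (c * a + d * c) * a + (c * b + d * d) * c = 0 →
    a = 1 ∧ b = 0 ∧ c = 0 ∧ d = 1 := by decide +kernel

namespace Setting

variable {G : Type u} [Group G] (D : Setting G)

open Classical in
/-- The exponent of an element of the centre. -/
noncomputable def expo (w : G) : ZMod 3 := if w = 1 then 0 else if w = D.z then 1 else 2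

theorem expo_pow (n : ℕ) : D.expo (D.z ^ n) = (n : ZMod 3) := by
  have hz2 : D.z ^ 2 ≠ 1 := fun e => D.z_ne (by
    calc D.z = D.z ^ 3 * (D.z ^ 2)⁻¹ := by group
      _ = 1 := by rw [e, D.z_cube, inv_one, one_mul])
  have hz21 : D.z ^ 2 ≠ D.z := fun e => D.z_ne (by rw [pow_two] at e; exact mul_eq_left.1 e)
  rw [pow_eq_pow_mod n D.z_cube, ← ZMod.natCast_mod n 3]
  obtain h | h | h : n % 3 = 0 ∨ n % 3 = 1 ∨ n % 3 = 2 := by omega
  · simp [expo, h]
  · simp [expo, h, D.z_ne]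
  · rw [h]; simp [expo, hz2, hz21]

theorem pow_expo {w : G} (h : w ∈ D.Zc) : D.z ^ (D.expo w).val = w := by
  obtain ⟨i, hi, rfl⟩ := D.mem_Zc.1 h
  rw [expo_pow, ZMod.val_natCast, Nat.mod_eq_of_lt hi]

theorem expo_mul {w w' : G} (h : w ∈ D.Zc) (h' : w' ∈ D.Zc) : D.expo (w * w') = D.expo w + D.expo w' := by
  obtain ⟨i, -, rfl⟩ := D.mem_Zc.1 h
  obtain ⟨j, -, rfl⟩ := D.mem_Zc.1 h'
  rw [← pow_add, expo_pow, expo_pow, expo_pow, Nat.cast_add]

theorem expo_inv {w : G} (h : w ∈ D.Zc) : D.expo w⁻¹ = -D.expo w := by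
  refine eq_neg_of_add_eq_zero_left ?_
  rw [← D.expo_mul (inv_mem h) h, inv_mul_cancel, ← pow_zero D.z, expo_pow, Nat.cast_zero]

/-- The commutator of two elements of the core. -/
def cm (a b : G) : G := a * b * a⁻¹ * b⁻¹

theorem cm_mem (a b : D.Q) : cm (a : G) b ∈ D.Zc := D.Q_comm a a.2 b b.2

theorem cm_mul_left (a a' b : D.Q) : cm ((a * a' : D.Q) : G) b = cm (a : G) b * cm (a' : G) b := by
  have h : cm ((a * a' : D.Q) : G) b = (a : G) * cm (a' : G) b * (a : G)⁻¹ * cm (a : G) b := by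
    simp only [cm, Subgroup.coe_mul]; group
  rw [h, D.conj_Zc (D.Q_le_Ct a.2) (D.cm_mem a' b), D.comm_Zc (D.mem_Ct.1 (D.Q_le_Ct (D.Zc_le_Q (D.cm_mem a' b))))
    (D.cm_mem a b)]

theorem cm_swap (a b : G) : cm b a = (cm a b)⁻¹ := by simp only [cm]; group

theorem cm_mul_right (a b b' : D.Q) : cm (a : G) ((b * b' : D.Q) : G) = cm (a : G) b * cm (a : G) b' := by
  rw [cm_swap, cm_mul_left, mul_inv_rev, ← cm_swap, ← cm_swap,
    D.comm_Zc (D.mem_Ct.1 (D.Q_le_Ct (D.Zc_le_Q (D.cm_mem a b')))) (D.cm_mem a b)]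

/-- A representative. -/
noncomputable def rep (m : D.Mv) : D.Q := Function.surjInv D.pr_surj m.toMul

theorem rep_spec (m : D.Mv) : Additive.ofMul (D.pr (D.rep m)) = m := by
  rw [rep, Function.surjInv_eq D.pr_surj]; rfl

/-- The form. -/
noncomputable def ω (m n : D.Mv) : ZMod 3 := D.expo (cm (D.rep m : G) (D.rep n))

theorem cm_central {c : D.Q} (hc : (c : G) ∈ D.Zc) (b : D.Q) : cm (c : G) b = 1 := by
  rw [cm, ← D.comm_Zc (D.mem_Ct.1 (D.Q_le_Ct b.2)) hc]; group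

theorem ω_pr (a b : D.Q) : D.ω (Additive.ofMul (D.pr a)) (Additive.ofMul (D.pr b)) = D.expo (cm (a : G) b) := by
  unfold ω
  set a' := D.rep (Additive.ofMul (D.pr a))
  set b' := D.rep (Additive.ofMul (D.pr b))
  have ha : ((a' * a⁻¹ : D.Q) : G) ∈ D.Zc := by
    rw [← D.pr_one, map_mul, map_inv, mul_inv_eq_one]; exact Additive.ofMul.injective (D.rep_spec _)
  have hb : ((b' * b⁻¹ : D.Q) : G) ∈ D.Zc := by
    rw [← D.pr_one, map_mul, map_inv, mul_inv_eq_one]; exact Additive.ofMul.injective (D.rep_spec _)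
  have e1 : cm (a' : G) b' = cm (a : G) b' := by
    conv_lhs => rw [← inv_mul_cancel_right a' a, cm_mul_left, D.cm_central ha, one_mul]
  have e2 : cm (b' : G) a = cm (b : G) a := by
    conv_lhs => rw [← inv_mul_cancel_right b' b, cm_mul_left, D.cm_central hb, one_mul]
  rw [e1, cm_swap, e2, ← cm_swap]

theorem ω_add_left (m m' n : D.Mv) : D.ω (m + m') n = D.ω m n + D.ω m' n := by
  rw [← D.rep_spec m, ← D.rep_spec m', ← D.rep_spec n, ← ofMul_mul, ← map_mul, ω_pr, ω_pr, ω_pr, cm_mul_left,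
    D.expo_mul (D.cm_mem _ _) (D.cm_mem _ _)]

theorem ω_swap (m n : D.Mv) : D.ω n m = -D.ω m n := by
  rw [ω, ω, cm_swap, D.expo_inv (D.cm_mem _ _)]

theorem ω_add_right (m n n' : D.Mv) : D.ω m (n + n') = D.ω m n + D.ω m n' := by
  rw [ω_swap, ω_add_left, D.ω_swap m n, D.ω_swap m n']; ring

theorem ω_zero_left (n : D.Mv) : D.ω 0 n = 0 := by
  have h := D.ω_add_left 0 0 n
  rw [add_zero] at h
  exact right_eq_add.1 h

theorem ω_smul_left (a : ZMod 3) (m n : D.Mv) : D.ω (a • m) n = a * D.ω m n := by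
  let f : D.Mv →+ ZMod 3 := AddMonoidHom.mk' (fun x => D.ω x n) fun x y => D.ω_add_left x y n
  exact ((f.toZModLinearMap 3).map_smul a m)

theorem ω_smul_right (a : ZMod 3) (m n : D.Mv) : D.ω m (a • n) = a * D.ω m n := by
  rw [ω_swap, ω_smul_left, D.ω_swap m n]; ring

theorem ω_self (m : D.Mv) : D.ω m m = 0 := by
  rw [ω, show cm (D.rep m : G) (D.rep m) = D.z ^ 0 by simp [cm], expo_pow, Nat.cast_zero]

theorem ω_nondeg {m : D.Mv} (h : ∀ n, D.ω m n = 0) : m = 0 := by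
  obtain ⟨q, hq⟩ := D.pr_surj m.toMul
  obtain rfl : m = Additive.ofMul (D.pr q) := by rw [hq]; rfl
  rw [ofMul_eq_zero, D.pr_one]
  refine D.Q_centre q q.2 fun x hx => ?_
  have h1 := h (Additive.ofMul (D.pr ⟨x, hx⟩))
  rw [ω_pr] at h1
  have h2 := D.pow_expo (D.cm_mem q ⟨x, hx⟩)
  rw [h1, ZMod.val_zero, pow_zero, cm] at h2
  exact mul_inv_eq_iff_eq_mul.1 (mul_inv_eq_one.1 h2.symm)

theorem ω_ρ (c : D.Ct) (m n : D.Mv) : D.ω (D.ρ c m) (D.ρ c n) = D.ω m n := by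
  rw [← D.rep_spec m, ← D.rep_spec n]
  show D.ω (Additive.ofMul (D.conjB c (D.pr _))) (Additive.ofMul (D.conjB c (D.pr _))) = _
  rw [conjB_mk, conjB_mk, ω_pr, ω_pr]
  congr 1
  conv_rhs => rw [← D.conj_Zc c.2 (D.cm_mem (D.rep m) (D.rep n))]
  show cm ((c : G) * (D.rep m : G) * (c : G)⁻¹) ((c : G) * (D.rep n : G) * (c : G)⁻¹) = _
  simp only [cm]; group

theorem ω_ρs (g : SL23) (m n : D.Mv) : D.ω (D.ρs g m) (D.ρs g n) = D.ω m n := by
  obtain ⟨c, rfl⟩ := D.φ_surj g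
  rw [ρs_φ, ω_ρ]

theorem skew {g : SL23} (hg : g * g = -1) (m n : D.Mv) : D.ω (D.ρs g m) n = -D.ω m (D.ρs g n) := by
  have h := D.ω_ρs g m (D.ρs g n)
  rw [show D.ρs g (D.ρs g n) = (D.ρs g * D.ρs g) n from rfl, ← map_mul, hg, ρs_neg] at h
  rw [← h, show ((-1 : D.EM) n) = -n from rfl, show -n = (-1 : ZMod 3) • n by simp, ω_smul_right]
  ring

theorem ω_Φ (x : T4) (m n : D.Mv) : D.ω (D.Φ x m) n = D.ω m (D.Φ (qbar x) n) := by
  obtain ⟨hi, hj, hk, -⟩ := sl_rels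
  simp only [Φ, qbar, LinearMap.add_apply, LinearMap.smul_apply, Module.End.one_apply, ω_add_left, ω_add_right,
    ω_smul_left, ω_smul_right, D.skew hi, D.skew hj, D.skew hk]
  ring

theorem iso_W0 {p q : D.Mv} (hp : p ∈ D.W0) (hq : q ∈ D.W0) : D.ω p q = 0 := by
  rw [← D.mem_W0.1 hp, ← D.mem_W0.1 hq, ω_Φ, Φ_apply_mul, q_facts.2.2.2.2.2.2.2.2, Φ_zero, LinearMap.zero_apply,
    ω_swap, ω_zero_left, neg_zero]

theorem iso_IW0 {p q : D.Mv} (hp : p ∈ D.W0) (hq : q ∈ D.W0) : D.ω (D.ρs mI p) (D.ρs mI q) = 0 := by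
  rw [ω_ρs, D.iso_W0 hp hq]

/-- The symmetric form on the first part. -/
noncomputable def β (p q : D.Mv) : ZMod 3 := D.ω p (D.ρs mI q)

theorem β_symm (p q : D.Mv) : D.β q p = D.β p q := by
  rw [β, β, ω_swap, D.skew sl_rels.1, neg_neg]

theorem β_add_left (p p' q : D.Mv) : D.β (p + p') q = D.β p q + D.β p' q := D.ω_add_left _ _ _

theorem β_smul_left (a : ZMod 3) (p q : D.Mv) : D.β (a • p) q = a * D.β p q := D.ω_smul_left _ _ _

theorem β_add_right (p q q' : D.Mv) : D.β p (q + q') = D.β p q + D.β p q' := by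
  rw [β, map_add, ω_add_right]; rfl

theorem β_smul_right (a : ZMod 3) (p q : D.Mv) : D.β p (a • q) = a * D.β p q := by
  rw [β, map_smul, ω_smul_right]; rfl

theorem β_nondeg {p : D.Mv} (hp : p ∈ D.W0) (h : ∀ q ∈ D.W0, D.β p q = 0) : p = 0 := by
  refine D.ω_nondeg fun m => ?_
  rw [D.decompose m, ω_add_right, D.iso_W0 hp ⟨_, rfl⟩, zero_add]
  exact h _ ⟨_, rfl⟩

/-- The part commuting with the quaternion elements. -/
noncomputable def vu : D.EM := D.ρs mU * D.Φ qv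

theorem vu_comm (x : T4) (hx : qm qv x = qm (qrot (qrot x)) qv) : D.vu * D.Φ x = D.Φ x * D.vu := by
  rw [vu, mul_assoc, Φ_mul, hx, ← Φ_mul, ← mul_assoc, U_Φ, mul_assoc,
    show qrot (qrot (qrot x)) = x from rfl]

theorem vu_I : D.vu * D.ρs mI = D.ρs mI * D.vu := by
  rw [← Φ_I]; exact D.vu_comm qi qv_facts.1

theorem vu_q0 : D.vu * D.Φ q0 = D.Φ q0 * D.vu := D.vu_comm q0 (by decide)

theorem vu_cube : D.vu * D.vu * D.vu = 1 := by
  have h : D.Φ qv * D.ρs mU = D.ρs mU * D.Φ qv := by rw [U_Φ, qrot_v]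
  rw [vu, show D.ρs mU * D.Φ qv * (D.ρs mU * D.Φ qv) * (D.ρs mU * D.Φ qv) =
    D.ρs mU * (D.Φ qv * D.ρs mU) * D.Φ qv * D.ρs mU * D.Φ qv by simp only [mul_assoc], h,
    show D.ρs mU * (D.ρs mU * D.Φ qv) * D.Φ qv * D.ρs mU * D.Φ qv =
    D.ρs mU * D.ρs mU * (D.Φ qv * D.Φ qv * D.ρs mU) * D.Φ qv by simp only [mul_assoc],
    mul_assoc (D.Φ qv), h, ← mul_assoc (D.Φ qv), h]
  calc D.ρs mU * D.ρs mU * (D.ρs mU * D.Φ qv * D.Φ qv) * D.Φ qv
      = (D.ρs mU * D.ρs mU * D.ρs mU) * (D.Φ qv * D.Φ qv * D.Φ qv) := by simp only [mul_assoc]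
    _ = 1 := by
        rw [← map_mul, ← map_mul, sl_rels.2.2.2.2.2.2.2.2.2.2.2.2, map_one, one_mul, Φ_mul, Φ_mul,
          qv_facts.2.2.2.1, Φ_one]

theorem vu_pres (p q : D.Mv) : D.β (D.vu p) (D.vu q) = D.β p q := by
  rw [β, show D.ρs mI (D.vu q) = (D.ρs mI * D.vu) q from rfl, ← vu_I]
  show D.ω (D.ρs mU (D.Φ qv p)) (D.ρs mU (D.Φ qv (D.ρs mI q))) = _
  rw [ω_ρs, ω_Φ, Φ_apply_mul, q_facts.2.2.2.2.2.2.2.1, Φ_one]
  rfl

theorem vu_one : D.vu = 1 := by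
  obtain ⟨a, ha, b, hb, hsp, hind⟩ := D.exists_basis
  have hW : ∀ p ∈ D.W0, D.vu p ∈ D.W0 := fun p hp => by
    rw [mem_W0, show D.Φ q0 (D.vu p) = (D.Φ q0 * D.vu) p from rfl, ← vu_q0]
    show D.vu (D.Φ q0 p) = _
    rw [D.mem_W0.1 hp]
  obtain ⟨x, y, hxy⟩ := hsp _ (hW a ha)
  obtain ⟨r, s, hrs⟩ := hsp _ (hW b hb)
  have coe : ∀ i j i' j' : ZMod 3, i • a + j • b = i' • a + j' • b → i = i' ∧ j = j' := fun i j i' j' e => by
    obtain ⟨h1, h2⟩ := hind (i - i') (j - j') (by rw [sub_smul, sub_smul, ← sub_eq_zero.2 e]; abel)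
    exact ⟨sub_eq_zero.1 h1, sub_eq_zero.1 h2⟩
  have hdet : D.β a a * D.β b b - D.β a b * D.β a b ≠ 0 := by
    intro e
    have key : ∀ p q r : ZMod 3, p * r - q * q = 0 → ∃ i j : ZMod 3, ¬(i = 0 ∧ j = 0) ∧ i * p + j * q = 0 ∧
        i * q + j * r = 0 := by decide
    obtain ⟨i, j, hne, h1, h2⟩ := key _ _ _ e
    refine hne (hind i j (D.β_nondeg (add_mem (D.W0.smul_mem i ha) (D.W0.smul_mem j hb)) fun q hq => ?_))
    obtain ⟨k, l, rfl⟩ := hsp q hq
    simp only [β_add_left, β_add_right, β_smul_left, β_smul_right, D.β_symm a b]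
    linear_combination k * h1 + l * h2
  have e1 := D.vu_pres a a; have e2 := D.vu_pres a b; have e3 := D.vu_pres b b
  rw [hxy] at e1 e2; rw [hrs] at e2 e3
  simp only [β_add_left, β_add_right, β_smul_left, β_smul_right, D.β_symm a b] at e1 e2 e3
  have hva : ∀ i j : ZMod 3, D.vu (i • a + j • b) = (x * i + r * j) • a + (y * i + s * j) • b := fun i j => by
    rw [map_add, map_smul, map_smul, hxy, hrs]; module
  have c1 : D.vu (D.vu (D.vu a)) = a := congrArg (fun f : D.EM => f a) D.vu_cube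
  have c2 : D.vu (D.vu (D.vu b)) = b := congrArg (fun f : D.EM => f b) D.vu_cube
  rw [hxy, hva, hva, show a = (1 : ZMod 3) • a + (0 : ZMod 3) • b by simp] at c1
  rw [hrs, hva, hva] at c2
  obtain ⟨f1, f2⟩ := coe _ _ 1 0 (by simpa using c1)
  obtain ⟨f3, f4⟩ := coe _ _ 0 1 (by simpa using c2)
  obtain ⟨rfl, rfl, rfl, rfl⟩ := unip_trivial (D.β a a) (D.β a b) (D.β b b) x r y s hdet
    (by linear_combination e1) (by linear_combination e2) (by linear_combination e3)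
    (by linear_combination f1) (by linear_combination f4) (by linear_combination f3) (by linear_combination f2)
  have hid : ∀ p ∈ D.W0, D.vu p = p := fun p hp => by
    obtain ⟨i, j, rfl⟩ := hsp p hp
    rw [hva]; simp
  refine LinearMap.ext fun m => ?_
  rw [D.decompose m, map_add, show D.vu (D.ρs mI (D.Φ q0 (D.Φ (-qi) m))) =
    (D.vu * D.ρs mI) (D.Φ q0 (D.Φ (-qi) m)) from rfl, vu_I]
  show _ + D.ρs mI (D.vu _) = _
  rw [hid _ ⟨_, rfl⟩, hid _ ⟨_, rfl⟩]; rfl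

theorem U_eq : D.ρs mU = 1 + D.Φ qn := by
  calc D.ρs mU = D.ρs mU * (D.Φ qv * D.Φ (1, 1, 1, 1)) := by rw [Φ_mul, qv_facts.2.2.2.2.2, Φ_one, mul_one]
    _ = D.Φ (1, 1, 1, 1) := by rw [← mul_assoc, ← vu, vu_one, one_mul]
    _ = _ := by rw [← Φ_one, ← Φ_add]; rfl

theorem U_parts {p q : D.Mv} (hp : p ∈ D.W0) (hq : q ∈ D.W0) :
    D.ρs mU (p + D.ρs mI q) = p + q + D.ρs mI q := by
  rw [U_eq, LinearMap.add_apply, map_add (D.Φ qn), (D.n_W0 hp).1, (D.n_W0 hq).2, zero_add, Module.End.one_apply]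
  abel

end Setting

end CfsgLib.L43Rec
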