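import Cfsg.Agent.Lib.L43Rec.Basic

/-!
The central involution inverts a nontrivial irreducible factor of order nine.
-/

set_option autoImplicit false

namespace CfsgLib.L43Rec

open Subgroup

universe u

/-- The fixed subgroup of an automorphism. -/
def fixedAut {W : Type u} [Group W] (f : MulAut W) : Subgroup W := MonoidHom.eqLocus f.toMonoidHom (MonoidHom.id W)

theorem mem_fixedAut {W : Type u} [Group W] {f : MulAut W} {w : W} : w ∈ fixedAut f ↔ f w = w := Iff.rfl

theorem irr_nine {W : Type u} [CommGroup W] [Finite W] (hcard : Nat.card W = 9) (ψ : SL23 →* MulAut W)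
    (hirr : ∀ B : Subgroup W, Nat.card B = 3 → ∃ g, ∃ b ∈ B, ψ g b ∉ B) : ∀ w, ψ (-1) w = w⁻¹ := by
  haveI : Fact (Nat.Prime 3) := ⟨Nat.prime_three⟩
  obtain ⟨rI, rJ, -, rIJ, rJI, rJK, rKJ, rKI, rIK, rUI, rUJ, rUK, rU3⟩ := sl_rels
  have mul : ∀ g h : SL23, ∀ w, ψ (g * h) w = ψ g (ψ h w) := fun g h w => by rw [map_mul]; rfl
  have h139 : ∀ B : Subgroup W, Nat.card B = 1 ∨ Nat.card B = 3 ∨ Nat.card B = 9 := fun B => by
    have h : Nat.card B ∣ 3 ^ 2 := by
      have h' := B.card_subgroup_dvd_card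
      rw [hcard] at h'
      norm_num
      exact h'
    obtain ⟨k, hk, e⟩ := (Nat.dvd_prime_pow Nat.prime_three).1 h
    rcases (by omega : k = 0 ∨ k = 1 ∨ k = 2) with rfl | rfl | rfl
    · exact Or.inl e
    · exact Or.inr (Or.inl e)
    · exact Or.inr (Or.inr e)
  have top9 : ∀ B : Subgroup W, Nat.card B = 9 → ∀ w, w ∈ B := fun B h w => by
    rw [B.eq_top_of_card_eq (h.trans hcard.symm)]; exact mem_top w
  have one1 : ∀ B : Subgroup W, Nat.card B = 1 → ∀ w ∈ B, w = 1 := fun B h w hw => by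
    rw [card_eq_one.1 h, mem_bot] at hw; exact hw
  have hcube : ∀ w : W, w * w = 1 → w = 1 := fun w h => by
    have h9 : w ^ 9 = 1 := hcard ▸ pow_card_eq_one'
    calc w = w ^ 9 * ((w * w) ^ 4)⁻¹ := by rw [show (w * w) ^ 4 = w ^ 8 by rw [← pow_two, ← pow_mul]]; group
      _ = 1 := by rw [h9, h, one_pow, inv_one, one_mul]
  rcases h139 (fixedAut (ψ (-1))) with h1 | h3 | h9
  · intro w
    refine eq_inv_of_mul_eq_one_left (one1 _ h1 _ ?_)
    rw [mem_fixedAut, map_mul, ← mul, show (-1 : SL23) * -1 = 1 by decide +kernel, map_one, MulAut.one_apply]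
    exact mul_comm _ _
  · exfalso
    obtain ⟨g, b, hb, hgb⟩ := hirr _ h3
    refine hgb ?_
    rw [mem_fixedAut] at hb ⊢
    rw [← mul, (neg_one_mul g).trans (mul_neg_one g).symm, mul, hb]
  exfalso
  have hneg : ∀ w, ψ (-1) w = w := fun w => top9 _ h9 w
  set FI := fixedAut (ψ mI) with hFI
  set FJ := fixedAut (ψ mJ) with hFJ
  set FK := fixedAut (ψ mK) with hFK
  have eK : ∀ w, ψ mK w = ψ mI (ψ mJ w) := fun w => by rw [← mul, rIJ]
  have eK' : ∀ w, ψ mK w = ψ mJ (ψ mI w) := fun w => by rw [← mul, rJI, mul, hneg]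
  have sqI : ∀ w, ψ mI (ψ mI w) = w := fun w => by rw [← mul, rI, hneg]
  have sqJ : ∀ w, ψ mJ (ψ mJ w) = w := fun w => by rw [← mul, rJ, hneg]
  have move : ∀ g h : SL23, mU * g = h * mU → fixedAut (ψ h) = (fixedAut (ψ g)).map (ψ mU).toMonoidHom := fun g h e => by
    refine le_antisymm ?_ ?_
    case refine_1 =>
      intro w hw
      refine ⟨(ψ mU).symm w, ?_, (ψ mU).apply_symm_apply w⟩
      show ψ g ((ψ mU).symm w) = (ψ mU).symm w
      apply (ψ mU).injective
      rw [← mul, e, mul, (ψ mU).apply_symm_apply]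
      exact hw
    · rintro _ ⟨v, hv, rfl⟩
      show ψ h (ψ mU v) = ψ mU v
      rw [← mul, ← e, mul, show ψ g v = v from hv]
  have cJ : Nat.card FJ = Nat.card FI := by
    rw [hFJ, move mI mJ rUI, card_map_of_injective (f := (ψ mU).toMonoidHom) (ψ mU).injective]
  have cK : Nat.card FK = Nat.card FI := by
    rw [hFK, move mJ mK rUJ, card_map_of_injective (f := (ψ mU).toMonoidHom) (ψ mU).injective, ← hFJ, cJ]
  rcases h139 (FI ⊓ FJ) with e1 | e3 | e9
  · rcases h139 FI with f1 | f3 | f9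
    · have inv : ∀ (m : SL23), (∀ w, ψ m (ψ m w) = w) → Nat.card (fixedAut (ψ m)) = 1 → ∀ w, ψ m w = w⁻¹ :=
        fun m hs hm w => eq_inv_of_mul_eq_one_left (one1 _ hm _ (by
          rw [mem_fixedAut, map_mul, hs]; exact mul_comm _ _))
      have hI := inv mI sqI f1
      have hJ := inv mJ sqJ (cJ.trans f1)
      have : ∀ w, w ∈ FK := fun w => by
        show ψ mK w = w
        rw [eK, hJ, hI, inv_inv]
      have : Nat.card FK = 9 := by
        rw [show FK = ⊤ from eq_top_iff.2 fun w _ => this w, card_top, hcard]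
      omega
    · let f : FI × FJ → W := fun p => p.1 * p.2
      have hf : Function.Injective f := by
        rintro ⟨⟨a, ha⟩, ⟨b, hb⟩⟩ ⟨⟨a', ha'⟩, ⟨b', hb'⟩⟩ e
        have e' : a'⁻¹ * a = b' * b⁻¹ := by
          rw [inv_mul_eq_iff_eq_mul, ← mul_assoc, eq_mul_inv_iff_mul_eq]
          exact e
        have hone : a'⁻¹ * a = 1 :=
          one1 _ e1 _ ⟨FI.mul_mem (FI.inv_mem ha') ha, show a'⁻¹ * a ∈ FJ by rw [e']; exact FJ.mul_mem hb' (FJ.inv_mem hb)⟩
        obtain rfl : a' = a := inv_mul_eq_one.1 hone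
        obtain rfl : b = b' := by
          have : a' * b = a' * b' := e
          exact mul_left_cancel this
        rfl
      have hb : Function.Bijective f := by
        rw [Nat.bijective_iff_injective_and_card]
        exact ⟨hf, by rw [Nat.card_prod, cJ, f3, hcard]⟩
      have h1 : ∀ c ∈ FK, c = 1 := by
        intro c hc
        obtain ⟨⟨⟨a, ha⟩, ⟨b, hb'⟩⟩, e⟩ := hb.2 c
        have ha' : ψ mI a = a := ha
        have hb'' : ψ mJ b = b := hb'
        have hJa : ψ mJ a = a⁻¹ := eq_inv_of_mul_eq_one_left (one1 _ e1 _ (by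
          refine ⟨?_, ?_⟩
          · refine mem_fixedAut.2 ?_
            rw [map_mul, ha', ← eK a, eK', ha']
          · refine mem_fixedAut.2 ?_
            rw [map_mul, sqJ, mul_comm]))
        have hIb : ψ mI b = b⁻¹ := eq_inv_of_mul_eq_one_left (one1 _ e1 _ (by
          refine ⟨?_, ?_⟩
          · refine mem_fixedAut.2 ?_
            rw [map_mul, sqI, mul_comm]
          · refine mem_fixedAut.2 ?_
            rw [map_mul, hb'', ← eK' b, eK, hb'']))
        have hc' : ψ mK c = c := hc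
        have e2 : c = a * b := e.symm
        rw [eK, e2, map_mul, hJa, hb'', map_mul, map_inv, ha', hIb, ← mul_inv] at hc'
        rw [e2]
        exact hcube _ (inv_eq_iff_mul_eq_one.1 hc')
      have : Nat.card FK = 1 := card_eq_one.2 ((eq_bot_iff_forall _).2 h1)
      omega
    · have : Nat.card (FI ⊓ FJ : Subgroup W) = 9 := by
        rw [FI.eq_top_of_card_eq (f9.trans hcard.symm), top_inf_eq, cJ, f9]
      omega
  · obtain ⟨g, b, hb, hgb⟩ := hirr _ e3
    refine hgb ?_
    clear hgb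
    induction g using sl_induction generalizing b with
    | h1 => rw [map_one]; exact hb
    | hI g ih =>
      rw [mul]
      obtain ⟨h1, h2⟩ := ih _ hb
      rw [show ψ mI (ψ g b) = ψ g b from h1]
      exact ⟨h1, h2⟩
    | hU g ih =>
      rw [mul]
      obtain ⟨h1, h2⟩ := ih _ hb
      have h1' : ψ mI (ψ g b) = ψ g b := h1
      have h2' : ψ mJ (ψ g b) = ψ g b := h2
      refine ⟨?_, ?_⟩
      · refine mem_fixedAut.2 ?_
        rw [← mul, ← rUK, mul, eK, h2', h1']
      · refine mem_fixedAut.2 ?_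
        rw [← mul, ← rUI, mul, h1']
  · have hall : ∀ w, ψ mI w = w := fun w => (top9 _ e9 w).1
    have hUfix : ∃ w, ψ mU w = w ∧ w ≠ 1 := by
      have hp : IsPGroup 3 (zpowers (ψ mU)) := fun k => ⟨1, Subtype.ext (by
        obtain ⟨n, hn⟩ := mem_zpowers_iff.1 k.2
        rw [pow_one, SubgroupClass.coe_pow, ← hn, ← zpow_natCast, ← _root_.zpow_mul, mul_comm, _root_.zpow_mul,
          zpow_natCast, ← map_pow, show mU ^ 3 = 1 by rw [pow_three']; exact rU3, map_one, _root_.one_zpow]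
        rfl)⟩
      obtain ⟨w, hw, hw1⟩ := hp.exists_fixed_point_of_prime_dvd_card_of_fixed_point W (by rw [hcard]; norm_num)
        (a := 1) (fun k => map_one (k : MulAut W))
      exact ⟨w, hw ⟨ψ mU, mem_zpowers _⟩, fun e => hw1 e.symm⟩
    obtain ⟨w, hw, hw1⟩ := hUfix
    obtain ⟨v, hv3, hvfix⟩ : ∃ v : W, orderOf v = 3 ∧ ψ mU v = v := by
      have hd : 3 ∣ Nat.card (fixedAut (ψ mU)) := by
        rcases h139 (fixedAut (ψ mU)) with h | h | h
        · exact absurd (one1 _ h w hw) hw1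
        · rw [h]
        · rw [h]; norm_num
      obtain ⟨v, hv⟩ := exists_prime_orderOf_dvd_card' 3 hd
      exact ⟨v, by rw [orderOf_coe, hv], v.2⟩
    obtain ⟨g, b, hb, hgb⟩ := hirr (zpowers v) (by rw [Nat.card_zpowers, hv3])
    refine hgb ?_
    have : ψ g b = b := by
      obtain ⟨n, rfl⟩ := mem_zpowers_iff.1 hb
      clear hgb hb
      induction g using sl_induction with
      | h1 => rw [map_one]; rfl
      | hI g ih => rw [mul, ih, hall]
      | hU g ih => rw [mul, ih, map_zpow, hvfix]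
    rw [this]; exact hb

/-- The inversion on a factor of order nine inside the core. -/
theorem layer_inv {G : Type u} [Group G] [Finite G] {C Q Zc A B : Subgroup G} (hQC : Q ≤ C)
    (hZA : Zc ≤ A) (hAB : A ≤ B) (hBQ : B ≤ Q) (hcm : ∀ a ∈ Q, ∀ b ∈ Q, a * b * a⁻¹ * b⁻¹ ∈ Zc)
    (φ : C →* SL23) (hφs : Function.Surjective φ) (hφk : ∀ x : C, φ x = 1 → (x : G) ∈ Q)
    (hA : ∀ c ∈ C, ∀ a ∈ A, c * a * c⁻¹ ∈ A) (hB : ∀ c ∈ C, ∀ b ∈ B, c * b * c⁻¹ ∈ B)
    (hcard : A.relIndex B = 9) (hmax : ∀ B' : Subgroup G, A < B' → B' < B → ∃ c ∈ C, ∃ b ∈ B', c * b * c⁻¹ ∉ B')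
    {x : C} (hx : φ x = -1) {q : G} (hq : q ∈ B) : (x : G) * q * (x : G)⁻¹ * q ∈ A := by
  let N : Subgroup B := A.subgroupOf B
  haveI hN : N.Normal := ⟨fun n hn g => by
    rw [mem_subgroupOf] at hn ⊢
    exact hA _ (hQC (hBQ g.2)) _ hn⟩
  letI : CommGroup (B ⧸ N) :=
    { (inferInstance : Group (B ⧸ N)) with
      mul_comm := fun a b => by
        obtain ⟨a, rfl⟩ := QuotientGroup.mk'_surjective N a
        obtain ⟨b, rfl⟩ := QuotientGroup.mk'_surjective N b
        rw [← map_mul, ← map_mul]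
        refine (QuotientGroup.mk'_eq_mk' N).2 ⟨(a * b)⁻¹ * (b * a), ?_, by rw [mul_inv_cancel_left]⟩
        rw [mem_subgroupOf]
        refine hZA ?_
        have := hcm _ (hBQ (inv_mem b.2)) _ (hBQ (inv_mem a.2))
        simpa [mul_assoc] using this }
  let cb : C → (B →* B) := fun c =>
    { toFun := fun b => ⟨(c : G) * b * (c : G)⁻¹, hB c c.2 b b.2⟩
      map_one' := Subtype.ext (by simp)
      map_mul' := fun a b => Subtype.ext (by simp [mul_assoc]) }
  let fm : C → (B ⧸ N →* B ⧸ N) := fun c => QuotientGroup.map N N (cb c) fun b hb => by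
    rw [mem_comap, mem_subgroupOf]
    exact hA c c.2 _ (mem_subgroupOf.1 hb)
  have fmk : ∀ c b, fm c (QuotientGroup.mk' N b) = QuotientGroup.mk' N (cb c b) := fun c b => rfl
  have fmul : ∀ c d w, fm (c * d) w = fm c (fm d w) := fun c d w => by
    obtain ⟨b, rfl⟩ := QuotientGroup.mk'_surjective N w
    rw [fmk, fmk, fmk]
    exact congrArg _ (Subtype.ext (by simp [cb, mul_assoc]))
  have fone : ∀ w, fm 1 w = w := fun w => by
    obtain ⟨b, rfl⟩ := QuotientGroup.mk'_surjective N w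
    rw [fmk]
    exact congrArg _ (Subtype.ext (by simp [cb]))
  let ψ0 : C →* MulAut (B ⧸ N) :=
    { toFun := fun c =>
        { toFun := fm c
          invFun := fm c⁻¹
          left_inv := fun w => by rw [← fmul, inv_mul_cancel, fone]
          right_inv := fun w => by rw [← fmul, mul_inv_cancel, fone]
          map_mul' := map_mul _ }
      map_one' := MulEquiv.ext fone
      map_mul' := fun c d => MulEquiv.ext (fmul c d) }
  have hker : φ.ker ≤ ψ0.ker := fun c hc => MulEquiv.ext fun w => by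
    obtain ⟨b, rfl⟩ := QuotientGroup.mk'_surjective N w
    show fm c (QuotientGroup.mk' N b) = QuotientGroup.mk' N b
    rw [fmk]
    refine (QuotientGroup.mk'_eq_mk' N).2 ⟨(cb c b)⁻¹ * b, ?_, by rw [mul_inv_cancel_left]⟩
    rw [mem_subgroupOf]
    refine hZA ?_
    have := hcm _ (hφk c hc) _ (inv_mem (hBQ b.2))
    simpa [cb, mul_assoc] using this
  set ψ := φ.liftOfSurjective hφs ⟨ψ0, hker⟩ with hψ
  have ψφ : ∀ c, ψ (φ c) = ψ0 c := fun c => MonoidHom.liftOfRightInverse_comp_apply _ _ _ _ c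
  have h := irr_nine (W := B ⧸ N) hcard ψ (fun B0 hB0 => by
    set B' : Subgroup G := (B0.comap (QuotientGroup.mk' N)).map B.subtype with hB'
    have hmem : ∀ b : B, (b : G) ∈ B' ↔ QuotientGroup.mk' N b ∈ B0 := fun b => by
      constructor
      · rintro ⟨b', hb', e⟩
        have e' : b' = b := Subtype.ext e
        subst e'
        exact hb'
      · intro h; exact ⟨b, h, rfl⟩
    have hAle : A ≤ B' := fun a ha => by
      refine (hmem ⟨a, hAB ha⟩).2 ?_
      rw [QuotientGroup.mk'_apply, (QuotientGroup.eq_one_iff (N := N) _).2 (mem_subgroupOf.2 ha)]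
      exact one_mem _
    have h1 : A < B' := by
      refine lt_of_le_of_ne hAle fun e => ?_
      have : B0 = ⊥ := (eq_bot_iff_forall _).2 fun w hw => by
        obtain ⟨b, rfl⟩ := QuotientGroup.mk'_surjective N w
        rw [QuotientGroup.mk'_apply, QuotientGroup.eq_one_iff, mem_subgroupOf, e]
        exact (hmem b).2 hw
      rw [this, card_bot] at hB0
      omega
    have h2 : B' < B := by
      refine lt_of_le_of_ne (map_subtype_le _) fun e => ?_
      have : B0 = ⊤ := eq_top_iff.2 fun w _ => by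
        obtain ⟨b, rfl⟩ := QuotientGroup.mk'_surjective N w
        exact (hmem b).1 (by rw [e]; exact b.2)
      have h9 : Nat.card B0 = 9 := by rw [this, card_top]; exact hcard
      omega
    obtain ⟨c, hc, b, hb, hcb⟩ := hmax B' h1 h2
    have hbB : b ∈ B := map_subtype_le _ hb
    refine ⟨φ ⟨c, hc⟩, QuotientGroup.mk' N ⟨b, hbB⟩, (hmem ⟨b, hbB⟩).1 hb, fun h => hcb ?_⟩
    rw [ψφ] at h
    exact (hmem ⟨c * b * c⁻¹, hB c hc b hbB⟩).2 h) (QuotientGroup.mk' N ⟨q, hq⟩)
  rw [← hx, ψφ] at h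
  have h' : QuotientGroup.mk' N (cb x ⟨q, hq⟩ * ⟨q, hq⟩) = 1 := by
    rw [map_mul]
    exact mul_eq_one_iff_eq_inv.2 h
  exact mem_subgroupOf.1 ((QuotientGroup.eq_one_iff (N := N) _).1 h')

end CfsgLib.L43Rec
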