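import Cfsg.Agent.Lib.L43Rec.Section

/-!
Facts local to the plane: the elements centralizing the centre, the conjugates of the centre in the core.
-/

set_option autoImplicit false

namespace CfsgLib.L43Rec

open Subgroup Matrix

universe u

/-- The elements fixing the last row. -/
def cel (a1 a2 a3 c1 c2 : ZMod 3) (W : SL23) : Ph0 := mk0 (blk W c1 c2) ![a1, a2, a3]

/-- The diagonal element inverting the centre. -/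
def s0 : Ph0 := mk0 ⟨!![1, 0, 0; 0, 2, 0; 0, 0, 2], by decide⟩ 0

/-- The transvection conjugate to the centre in the plane. -/
def e02 : Ph0 := cel 0 1 0 0 0 1

theorem cel_FixRow (a1 a2 a3 c1 c2 : ZMod 3) (W : SL23) : FixRow (cel a1 a2 a3 c1 c2 W).1 := ⟨rfl, rfl, rfl⟩

theorem midBlock_cel (a1 a2 a3 c1 c2 : ZMod 3) (W : SL23) : midBlock (cel a1 a2 a3 c1 c2 W).1 = W.1 :=
  (Matrix.eta_fin_two _).symm

theorem exists_cel {g : Ph0} (hg : FixRow g.1) :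
    ∃ W : SL23, W.1 = midBlock g.1 ∧ g = cel (g.1.1 0 1) (g.1.1 0 2) (g.1.1 0 3) (g.1.1 1 3) (g.1.1 2 3) W := by
  obtain ⟨a, b, c⟩ := hg
  have hd : (midBlock g.1).det = 1 := by
    have h := pMm_det g.2
    rw [Matrix.det_fin_three] at h
    simp only [pMm, show ((2 : Fin 3).succ : Fin 4) = 3 from rfl, show ((1 : Fin 3).succ : Fin 4) = 2 from rfl,
      show ((0 : Fin 3).succ : Fin 4) = 1 from rfl, a, b, c] at h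
    rw [midBlock, Matrix.det_fin_two]
    simpa using h
  refine ⟨⟨_, hd⟩, rfl, Ph0_ext (Subtype.ext ?_) ?_⟩
  · unfold cel; rw [pM_mk0]
    ext i j
    fin_cases i <;> fin_cases j <;> first | rfl | exact a | exact b | exact c
  · unfold cel; rw [pa_mk0]
    funext j
    fin_cases j <;> rfl

theorem transitive_plane : ∀ a1 a2 a3 : ZMod 3, ¬(a1 = 0 ∧ a2 = 0) → ∃ m : Ph0,
    FixRow m.1 ∧ (m * e02).1.1 = (cel a1 a2 a3 0 0 1 * m).1.1 := by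
  have key : ∀ a1 a2 a3 : ZMod 3, ¬(a1 = 0 ∧ a2 = 0) → ∃ W : SL23, ∃ c : ZMod 3 × ZMod 3,
      (cel 0 0 0 c.1 c.2 W * e02).1.1 = (cel a1 a2 a3 0 0 1 * cel 0 0 0 c.1 c.2 W).1.1 := by decide +kernel
  intro a1 a2 a3 h
  obtain ⟨W, c, e⟩ := key a1 a2 a3 h
  exact ⟨_, cel_FixRow _ _ _ _ _ _, e⟩

theorem e02_conj : ∃ M : Ph0, (M * e03).1.1 = (e02 * M).1.1 :=
  ⟨mk0 ⟨!![1, 0, 0; 0, 0, 1; 0, 2, 0], by decide⟩ 0, by decide +kernel⟩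

theorem pure_key' : ∀ g : SL23, g ≠ 1 → ∀ v : V4, v ≠ 0 → act g v = v → ∀ w : V4, om v w = 0 →
    (act g w - w = v ∨ act g w - w = -v) → (v.2.2 = (0, 0) ∨ (v.1 = 0 ∧ v.2.1 = 0)) := by
  set_option synthInstance.maxSize 2048 in decide +kernel

theorem pure_key (g : SL23) (hg : g ≠ 1) (v : V4) (hv : v ≠ 0) (h : act g v = v) (w : V4) (ho : om v w = 0)
    (hk : ∃ k : ZMod 3, k ≠ 0 ∧ act g w - w = k • v) : v.2.2 = (0, 0) ∨ (v.1 = 0 ∧ v.2.1 = 0) := by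
  obtain ⟨k, hk0, e⟩ := hk
  have key : ∀ k : ZMod 3, k ≠ 0 → k = 1 ∨ k = -1 := by decide
  refine pure_key' g hg v hv h w ho ?_
  rcases key k hk0 with rfl | rfl
  · exact Or.inl (e.trans (one_smul _ v))
  · exact Or.inr (e.trans (neg_one_smul _ v))

namespace Std

variable {G : Type u} [Group G] (S : Std G)

theorem eq_of {g h : Ph0} (e : g.1.1 = h.1.1) : S.Φ g = S.Φ h := congrArg S.Φ (Subtype.ext (Subtype.ext e))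

theorem exists_cel_of {x : G} (hx : x ∈ S.D.Ct) : ∃ a1 a2 a3 c1 c2 : ZMod 3, ∃ W : SL23,
    S.Φ (cel a1 a2 a3 c1 c2 W) = x ∧ S.D.φ ⟨x, hx⟩ = W := by
  obtain ⟨g, rfl⟩ := S.Ct_le hx
  obtain ⟨W, hW, e⟩ := exists_cel ((S.fix_iff g).1 hx)
  refine ⟨_, _, _, _, _, W, by rw [← e], Subtype.ext ?_⟩
  rw [S.fix_φ g hx, hW]

theorem cel_Ct (a1 a2 a3 c1 c2 : ZMod 3) (W : SL23) : S.Φ (cel a1 a2 a3 c1 c2 W) ∈ S.D.Ct :=
  (S.fix_iff _).2 (cel_FixRow _ _ _ _ _ _)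

theorem cel_φ (a1 a2 a3 c1 c2 : ZMod 3) (W : SL23) :
    S.D.φ ⟨S.Φ (cel a1 a2 a3 c1 c2 W), S.cel_Ct _ _ _ _ _ _⟩ = W :=
  Subtype.ext ((S.fix_φ _ _).trans (midBlock_cel _ _ _ _ _ _))

theorem cel_Q (a1 a2 a3 c1 c2 : ZMod 3) :
    S.Φ (cel a1 a2 a3 c1 c2 1) ∈ S.D.Q ∧ S.F.cd (S.Φ (cel a1 a2 a3 c1 c2 1)) = (a2, -a1, c1, c2) := by
  obtain ⟨h1, h2⟩ := S.fix_cd (cel a1 a2 a3 c1 c2 1) (cel_FixRow _ _ _ _ _ _) (midBlock_cel _ _ _ _ _ _)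
  exact ⟨h1, h2⟩

theorem exists_of_Q {q : G} (hq : q ∈ S.D.Q) : ∃ a1 a2 a3 c1 c2 : ZMod 3,
    S.Φ (cel a1 a2 a3 c1 c2 1) = q ∧ S.F.cd q = (a2, -a1, c1, c2) := by
  obtain ⟨a1, a2, a3, c1, c2, W, e, hW⟩ := S.exists_cel_of (S.D.Q_le_Ct hq)
  rw [(S.D.φ_ker ⟨q, _⟩).2 hq] at hW
  subst hW
  exact ⟨a1, a2, a3, c1, c2, e, e ▸ (S.cel_Q a1 a2 a3 c1 c2).2⟩

theorem exists_of_plane {q : G} (hq : q ∈ S.F.plane) : ∃ a1 a2 a3 : ZMod 3, S.Φ (cel a1 a2 a3 0 0 1) = q ∧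
    S.F.cd q = (a2, -a1, 0, 0) := by
  obtain ⟨a1, a2, a3, c1, c2, e, hv⟩ := S.exists_of_Q hq.1
  have h := hq.2
  rw [hv] at h
  obtain ⟨rfl, rfl⟩ : c1 = 0 ∧ c2 = 0 := Prod.mk.inj h
  exact ⟨a1, a2, a3, e, hv⟩

theorem s0_z : S.Φ s0 * S.D.z * (S.Φ s0)⁻¹ = S.D.z⁻¹ := by
  rw [mul_inv_eq_iff_eq_mul, eq_inv_mul_iff_mul_eq, ← S.Φ_z, ← map_mul, ← map_mul]
  exact S.eq_of (by decide +kernel)

/-- The normalizer of the centre lies in the image. -/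
theorem normalizer_mem {h : G} (hh : h * S.D.z * h⁻¹ ∈ S.D.Zc) :
    ∃ g : Ph0, S.Φ g = h ∧ (FixRow g.1 ∨ FixRow (s0 * g : Ph0).1) := by
  obtain ⟨i, hi, e⟩ := S.D.mem_Zc.1 hh
  interval_cases i
  · exact absurd (conj_eq_one_iff.1 (e.trans (pow_zero _))) S.D.z_ne
  · obtain ⟨g, hg⟩ := S.Ct_le (S.D.mem_Ct.2 (mul_inv_eq_iff_eq_mul.1 (e.trans (pow_one _))))
    exact ⟨g, hg, Or.inl ((S.fix_iff g).1 (hg ▸ S.D.mem_Ct.2 (mul_inv_eq_iff_eq_mul.1 (e.trans (pow_one _)))))⟩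
  · have hC : S.Φ s0 * h ∈ S.D.Ct := by
      rw [S.D.mem_Ct]
      have e' : h * S.D.z * h⁻¹ = S.D.z⁻¹ := e.trans (eq_inv_of_mul_eq_one_left (by
        rw [← pow_succ]; exact S.D.z_cube))
      calc S.Φ s0 * h * S.D.z = S.Φ s0 * (h * S.D.z * h⁻¹) * (S.Φ s0)⁻¹ * (S.Φ s0 * h) := by group
        _ = (S.Φ s0 * S.D.z * (S.Φ s0)⁻¹)⁻¹ * (S.Φ s0 * h) := by rw [e']; group
        _ = S.D.z * (S.Φ s0 * h) := by rw [S.s0_z, inv_inv]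
    obtain ⟨g, hg⟩ := S.Ct_le hC
    refine ⟨s0⁻¹ * g, by rw [map_mul, map_inv, hg, inv_mul_cancel_left], Or.inr ?_⟩
    rw [mul_inv_cancel_left]
    exact (S.fix_iff g).1 (hg ▸ hC)

theorem e02_isConj : IsConj S.D.z (S.Φ e02) := by
  obtain ⟨M, hM⟩ := e02_conj
  refine isConj_iff.2 ⟨S.Φ M, ?_⟩
  rw [mul_inv_eq_iff_eq_mul, ← S.Φ_z, ← map_mul, ← map_mul]
  exact S.eq_of hM

/-- The plane elements are conjugate to the centre within the image. -/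
theorem plane_conj {e : G} (he : e ∈ S.F.plane) (hez : e ∉ S.D.Zc) : ∃ n : Ph0, S.Φ n * S.D.z * (S.Φ n)⁻¹ = e := by
  obtain ⟨a1, a2, a3, rfl, hv⟩ := S.exists_of_plane he
  obtain ⟨m, -, hm⟩ := transitive_plane a1 a2 a3 (fun ⟨h1, h2⟩ => hez ((S.F.cd_zero _ he.1).1 (by
    rw [hv, h1, h2, neg_zero]; rfl)))
  obtain ⟨M, hM⟩ := e02_conj
  refine ⟨m * M, ?_⟩
  rw [mul_inv_eq_iff_eq_mul, ← S.Φ_z, ← map_mul, ← map_mul]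
  refine congrArg S.Φ ?_
  have h1 : M * e03 = e02 * M := Subtype.ext (Subtype.ext hM)
  have h2 : m * e02 = cel a1 a2 a3 0 0 1 * m := Subtype.ext (Subtype.ext hm)
  rw [mul_assoc, h1, ← mul_assoc, h2, mul_assoc]

/-- The core at a plane element contains the plane. -/
theorem plane_le_conj {e g : G} (he : e ∈ S.F.plane) (hez : e ∉ S.D.Zc) (hg : g * S.D.z * g⁻¹ = e) :
    S.F.plane ≤ (S.D.conj g).Q := by
  obtain ⟨n, hn⟩ := S.plane_conj he hez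
  intro q hq
  have hN : S.Φ n ∈ normalizer (S.F.plane : Set G) := S.range_eq.le ⟨n, rfl⟩
  have h1 : (S.Φ n)⁻¹ * q * S.Φ n ∈ S.F.plane := (mem_normalizer_iff''.1 hN q).1 hq
  have hC : g⁻¹ * S.Φ n ∈ S.D.Ct := by
    rw [S.D.mem_Ct]
    calc g⁻¹ * S.Φ n * S.D.z = g⁻¹ * (S.Φ n * S.D.z * (S.Φ n)⁻¹) * S.Φ n := by group
      _ = g⁻¹ * (g * S.D.z * g⁻¹) * S.Φ n := by rw [hn, hg]
      _ = _ := by group
  refine ⟨g⁻¹ * q * g, ?_, by simp [mul_assoc]⟩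
  rw [show g⁻¹ * q * g = (g⁻¹ * S.Φ n) * ((S.Φ n)⁻¹ * q * S.Φ n) * (g⁻¹ * S.Φ n)⁻¹ by group]
  exact S.D.conj_Q hC h1.1

/-- Conjugates of the centre in the core lie in one of the two planes. -/
theorem conj_in_Q [Finite G] {x : G} (hx : x ∈ S.D.Q) (hxz : x ∉ S.D.Zc) (hc : IsConj S.D.z x) :
    (S.F.cd x).2.2 = (0, 0) ∨ ((S.F.cd x).1 = 0 ∧ (S.F.cd x).2.1 = 0) := by
  obtain ⟨g, rfl⟩ := isConj_iff.1 hc
  obtain ⟨K, hKz, hKQ, hKg⟩ := S.D.exists_Frame hx hxz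
  obtain ⟨y, hy, hy2⟩ := K.E_move
  have hxK : K.g * K.D.z * K.g⁻¹ = g * S.D.z * g⁻¹ := by rw [hKz, hKg]
  have hyQ : y ∈ S.D.Q := hKQ ▸ hy.1
  have hCK : K.D.Ct = S.D.Ct := by rw [Setting.Ct, Setting.Ct, hKz]
  have hcC : (K.c : G) ∈ S.D.Ct := hCK ▸ K.c.2
  set k : ZMod 3 := (K.F.cd y).2.1 with hk
  set r := g * S.D.z * g⁻¹
  have hrK : K.g * K.D.z * K.g⁻¹ ∈ K.D.Q := K.x_Q
  have e1 : (K.c : G) * r * (K.c : G)⁻¹ * r⁻¹ ∈ S.D.Zc := by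
    rw [← hxK]
    rw [show S.D.Zc = K.D.Zc by rw [Setting.Zc, Setting.Zc, hKz]]
    refine (K.F.cd_zero _ (mul_mem (K.D.conj_Q K.c.2 hrK) (inv_mem hrK))).1 ?_
    rw [K.F.cd_mul _ (K.D.conj_Q K.c.2 hrK) _ (inv_mem hrK), K.F.cd_inv hrK, K.F.cd_act K.c _ hrK, K.c_φ, K.x_cd,
      show act mU (1, 0, 0, 0) = (1, 0, 0, 0) by decide +kernel, add_neg_cancel]
  have e2 : (K.c : G) * y * (K.c : G)⁻¹ * y⁻¹ * (r ^ k.val)⁻¹ ∈ S.D.Zc := by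
    rw [← hxK, show S.D.Zc = K.D.Zc by rw [Setting.Zc, Setting.Zc, hKz]]
    have h4 : (K.F.cd y).2.2 = (0, 0) := (K.plane_eq.le hy).2
    refine (K.F.cd_zero _ (mul_mem (mul_mem (K.D.conj_Q K.c.2 hy.1) (inv_mem hy.1)) (inv_mem (pow_mem hrK _)))).1 ?_
    rw [K.F.cd_mul _ (mul_mem (K.D.conj_Q K.c.2 hy.1) (inv_mem hy.1)) _ (inv_mem (pow_mem hrK _)),
      K.F.cd_mul _ (K.D.conj_Q K.c.2 hy.1) _ (inv_mem hy.1), K.F.cd_inv hy.1, K.F.cd_inv (pow_mem hrK _),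
      K.F.cd_pow hrK, K.F.cd_act K.c _ hy.1, K.c_φ, K.x_cd, ZMod.natCast_zmod_val, hk]
    generalize K.F.cd y = v at h4
    revert v
    decide +kernel
  have hyr : r * y = y * r := by rw [← hxK]; exact K.E_comm _ (K.plane_eq.ge K.x_A) _ hy
  refine pure_key (S.D.φ ⟨_, hcC⟩) (fun h => ?_) _ (fun h => hxz ((S.F.cd_zero _ hx).1 h)) ?_ (S.F.cd y)
    (S.F.om_comm hx hyQ hyr) ⟨k, hy2, ?_⟩
  · have h1 : (K.c : G) ∈ K.D.Q := hKQ.symm ▸ (S.D.φ_ker ⟨_, hcC⟩).1 h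
    have h2 := (K.D.φ_ker K.c).2 h1
    rw [K.c_φ] at h2
    exact absurd h2 (by decide +kernel)
  · rw [← S.F.cd_act ⟨_, hcC⟩ _ hx, ← sub_eq_zero, sub_eq_add_neg, ← S.F.cd_inv hx,
      ← S.F.cd_mul _ (S.D.conj_Q hcC hx) _ (inv_mem hx)]
    exact (S.F.cd_zero _ (mul_mem (S.D.conj_Q hcC hx) (inv_mem hx))).2 e1
  · rw [← S.F.cd_act ⟨_, hcC⟩ _ hyQ, ← sub_eq_zero, sub_eq_add_neg, sub_eq_add_neg, ← S.F.cd_inv hyQ,
      ← S.F.cd_mul _ (S.D.conj_Q hcC hyQ) _ (inv_mem hyQ),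
      show k • S.F.cd r = S.F.cd (r ^ k.val) by rw [S.F.cd_pow hx, ZMod.natCast_zmod_val],
      ← S.F.cd_inv (pow_mem hx _), ← S.F.cd_mul _ (mul_mem (S.D.conj_Q hcC hyQ) (inv_mem hyQ)) _ (inv_mem (pow_mem hx _))]
    exact (S.F.cd_zero _ (mul_mem (mul_mem (S.D.conj_Q hcC hyQ) (inv_mem hyQ)) (inv_mem (pow_mem hx _)))).2 e2

end Std

end CfsgLib.L43Rec
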