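import Cfsg.Agent.Lib.L43Rec.Basic
import Mathlib.Algebra.Algebra.Basic
import Mathlib.LinearAlgebra.Quotient.Basic

/-!
The core modulo the centre as a module for SL(2,3): quaternion elements and idempotents.
-/

set_option autoImplicit false

namespace CfsgLib.L43Rec

open Subgroup

universe u

/-- Quaternion coordinates. -/
abbrev T4 := ZMod 3 × ZMod 3 × ZMod 3 × ZMod 3

/-- Multiplication of quaternion coordinates. -/
def qm {R : Type*} [CommRing R] (x y : R × R × R × R) : R × R × R × R :=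
  (x.1 * y.1 - x.2.1 * y.2.1 - x.2.2.1 * y.2.2.1 - x.2.2.2 * y.2.2.2,
    x.1 * y.2.1 + x.2.1 * y.1 + x.2.2.1 * y.2.2.2 - x.2.2.2 * y.2.2.1,
    x.1 * y.2.2.1 - x.2.1 * y.2.2.2 + x.2.2.1 * y.1 + x.2.2.2 * y.2.1,
    x.1 * y.2.2.2 + x.2.1 * y.2.2.1 - x.2.2.1 * y.2.1 + x.2.2.2 * y.1)

/-- Conjugate coordinates. -/
def qbar (x : T4) : T4 := (x.1, -x.2.1, -x.2.2.1, -x.2.2.2)

/-- The coordinates of the idempotent. -/
def q0 : T4 := (2, 0, 1, 2)

/-- The coordinates of the element of order four. -/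
def qi : T4 := (0, 1, 0, 0)

/-- The coordinates of the nilpotent element. -/
def qn : T4 := (0, 1, 1, 1)

/-- The coordinates of the inverse of `1 + n`. -/
def qv : T4 := (1, 2, 2, 2)

theorem q_facts : qm q0 q0 = q0 ∧ qm qn q0 = 0 ∧ qm (qm qn qi) q0 = q0 ∧
    q0 + qm (qm qi q0) (-qi) = ((1, 0, 0, 0) : T4) ∧ qm q0 (qm qi q0) = 0 ∧
    qm (qm qn qn) (1, 0, 0, 0) = 0 ∧ qm qi qi = ((2, 0, 0, 0) : T4) ∧ qm (qbar qv) qv = ((1, 0, 0, 0) : T4) ∧
    qm (qbar q0) q0 = 0 := by decide +kernel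

theorem qv_facts : qm qv qi = qm (0, 0, 0, 1) qv ∧ qm qv (0, 0, 1, 0) = qm (0, 1, 0, 0) qv ∧
    qm qv (0, 0, 0, 1) = qm (0, 0, 1, 0) qv ∧ qm (qm qv qv) qv = ((1, 0, 0, 0) : T4) ∧
    qm (1, 1, 1, 1) qv = ((1, 0, 0, 0) : T4) ∧ qm qv (1, 1, 1, 1) = ((1, 0, 0, 0) : T4) := by decide +kernel

/-- The permutation of the coordinates by the element of order three. -/
def qrot (x : T4) : T4 := (x.1, x.2.2.2, x.2.1, x.2.2.1)

theorem qrot_v : qrot qv = qv := by decide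

namespace Setting

variable {G : Type u} [Group G] (D : Setting G)

/-- The centre inside the core. -/
abbrev Zq : Subgroup D.Q := D.Zc.subgroupOf D.Q

instance Zq_normal : D.Zq.Normal :=
  ⟨fun n hn g => by
    rw [mem_subgroupOf] at hn ⊢
    simpa [D.conj_Zc (D.Q_le_Ct g.2) hn] using hn⟩

/-- The quotient. -/
def Qb : Type u := D.Q ⧸ D.Zq

instance : Group D.Qb := inferInstanceAs (Group (D.Q ⧸ D.Zq))

/-- The projection. -/
def pr : D.Q →* D.Qb := QuotientGroup.mk' D.Zq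

theorem pr_surj : Function.Surjective D.pr := QuotientGroup.mk'_surjective _

theorem pr_one {q : D.Q} : D.pr q = 1 ↔ (q : G) ∈ D.Zc := QuotientGroup.eq_one_iff q

instance : CommGroup D.Qb :=
  { (inferInstance : Group D.Qb) with
    mul_comm := fun a b => by
      obtain ⟨a, rfl⟩ := D.pr_surj a
      obtain ⟨b, rfl⟩ := D.pr_surj b
      have h : D.pr (a * b * a⁻¹ * b⁻¹) = 1 := D.pr_one.2 (D.Q_comm a a.2 b b.2)
      rw [map_mul, map_mul, map_mul, map_inv, map_inv, mul_inv_eq_one, mul_inv_eq_iff_eq_mul] at h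
      exact h }

/-- The module. -/
abbrev Mv : Type u := Additive D.Qb

theorem three_zero (m : D.Mv) : 3 • m = 0 := by
  obtain ⟨q, hq⟩ := D.pr_surj m.toMul
  apply Additive.toMul.injective
  rw [toMul_nsmul, ← hq, ← map_pow, toMul_zero]
  exact (congrArg D.pr (Subtype.ext (D.Q_exp q q.2) : q ^ 3 = 1)).trans (map_one _)

noncomputable instance : Module (ZMod 3) D.Mv := AddCommGroup.zmodModule D.three_zero

/-- The endomorphisms. -/
abbrev EM : Type u := Module.End (ZMod 3) D.Mv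

/-- Conjugation on the core. -/
def conjQ (c : D.Ct) : D.Q →* D.Q where
  toFun q := ⟨c * q * (c : G)⁻¹, D.conj_Q c.2 q.2⟩
  map_one' := Subtype.ext (by simp)
  map_mul' a b := Subtype.ext (by simp [mul_assoc])

/-- Conjugation on the quotient. -/
def conjB (c : D.Ct) : D.Qb →* D.Qb :=
  QuotientGroup.map _ _ (D.conjQ c) fun q hq => by
    rw [mem_comap, mem_subgroupOf]
    show (c : G) * q * (c : G)⁻¹ ∈ D.Zc
    rw [mem_subgroupOf] at hq
    rw [D.conj_Zc c.2 hq]; exact hq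

theorem conjB_mk (c : D.Ct) (q : D.Q) : D.conjB c (D.pr q) = D.pr (D.conjQ c q) := rfl

/-- Conjugation as a linear map. -/
noncomputable def ρ : D.Ct →* D.EM where
  toFun c := (MonoidHom.toAdditive (D.conjB c)).toZModLinearMap 3
  map_one' := LinearMap.ext fun m => by
    obtain ⟨q, hq⟩ := D.pr_surj m.toMul
    obtain rfl : m = Additive.ofMul (D.pr q) := by rw [hq]; rfl
    show Additive.ofMul (D.conjB 1 (D.pr q)) = _
    rw [conjB_mk, show D.conjQ 1 q = q from Subtype.ext (by simp [conjQ])]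
    rfl
  map_mul' a b := LinearMap.ext fun m => by
    obtain ⟨q, hq⟩ := D.pr_surj m.toMul
    obtain rfl : m = Additive.ofMul (D.pr q) := by rw [hq]; rfl
    show Additive.ofMul (D.conjB (a * b) (D.pr q)) = Additive.ofMul (D.conjB a (D.conjB b (D.pr q)))
    rw [conjB_mk, conjB_mk, conjB_mk]
    exact congrArg _ (congrArg D.pr (Subtype.ext (by simp [conjQ, mul_assoc])))

theorem ρ_ker {c : D.Ct} (hc : D.φ c = 1) : D.ρ c = 1 := by
  refine LinearMap.ext fun m => ?_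
  obtain ⟨q, hq⟩ := D.pr_surj m.toMul
  obtain rfl : m = Additive.ofMul (D.pr q) := by rw [hq]; rfl
  show Additive.ofMul (D.conjB c (D.pr q)) = Additive.ofMul (D.pr q)
  rw [conjB_mk, Equiv.apply_eq_iff_eq, ← mul_inv_eq_one, ← map_inv, ← map_mul, D.pr_one]
  exact D.Q_comm _ ((D.φ_ker c).1 hc) q q.2

/-- The action of SL(2,3). -/
noncomputable def ρs : SL23 →* D.EM where
  toFun g := D.ρ (Function.surjInv D.φ_surj g)
  map_one' := D.ρ_ker (Function.surjInv_eq D.φ_surj 1)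
  map_mul' a b := by
    set c := Function.surjInv D.φ_surj (a * b)
    set c' := Function.surjInv D.φ_surj a * Function.surjInv D.φ_surj b
    rw [← map_mul, show D.ρ c = D.ρ (c * c'⁻¹) * D.ρ c' by rw [← map_mul, inv_mul_cancel_right], D.ρ_ker (by
      simp only [c, c', map_mul, map_inv, Function.surjInv_eq D.φ_surj, mul_inv_cancel]),
      one_mul]

theorem ρs_φ (c : D.Ct) : D.ρs (D.φ c) = D.ρ c := by
  set c' := Function.surjInv D.φ_surj (D.φ c)
  show D.ρ c' = D.ρ c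
  rw [show D.ρ c' = D.ρ (c' * c⁻¹) * D.ρ c by rw [← map_mul, inv_mul_cancel_right],
    D.ρ_ker (by simp only [c', map_mul, map_inv, Function.surjInv_eq D.φ_surj, mul_inv_cancel]), one_mul]

theorem ρs_neg : D.ρs (-1) = -1 := by
  obtain ⟨c, hc⟩ := D.φ_surj (-1)
  rw [← hc, D.ρs_φ]
  refine LinearMap.ext fun m => ?_
  obtain ⟨q, hq⟩ := D.pr_surj m.toMul
  obtain rfl : m = Additive.ofMul (D.pr q) := by rw [hq]; rfl
  show Additive.ofMul (D.conjB c (D.pr q)) = -Additive.ofMul (D.pr q)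
  rw [conjB_mk, eq_neg_iff_add_eq_zero, ← ofMul_mul, ← map_mul, ofMul_eq_zero, D.pr_one]
  exact D.neg_inv c hc q q.2

/-- The image of quaternion coordinates. -/
noncomputable def Φ (x : T4) : D.EM :=
  x.1 • 1 + x.2.1 • D.ρs mI + x.2.2.1 • D.ρs mJ + x.2.2.2 • D.ρs mK

theorem Φ_add (x y : T4) : D.Φ (x + y) = D.Φ x + D.Φ y := by
  simp only [Φ, Prod.fst_add, Prod.snd_add]; module

theorem Φ_zero : D.Φ 0 = 0 := by simp [Φ]

theorem Φ_one : D.Φ (1, 0, 0, 0) = 1 := by simp [Φ]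

theorem Φ_neg (x : T4) : D.Φ (-x) = -D.Φ x := by
  simp only [Φ, Prod.fst_neg, Prod.snd_neg]; module

theorem Φ_smul (a : ZMod 3) : D.Φ (a, 0, 0, 0) = a • 1 := by simp [Φ]

theorem rel : D.ρs mI * D.ρs mI = -1 ∧ D.ρs mJ * D.ρs mJ = -1 ∧ D.ρs mK * D.ρs mK = -1 ∧
    D.ρs mI * D.ρs mJ = D.ρs mK ∧ D.ρs mJ * D.ρs mI = -D.ρs mK ∧ D.ρs mJ * D.ρs mK = D.ρs mI ∧
    D.ρs mK * D.ρs mJ = -D.ρs mI ∧ D.ρs mK * D.ρs mI = D.ρs mJ ∧ D.ρs mI * D.ρs mK = -D.ρs mJ := by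
  obtain ⟨h1, h2, h3, h4, h5, h6, h7, h8, h9, -⟩ := sl_rels
  have hn : ∀ g : SL23, D.ρs (-1 * g) = -D.ρs g := fun g => by rw [map_mul, ρs_neg, neg_one_mul]
  simp only [← map_mul, h1, h2, h3, h4, h5, h6, h7, h8, h9, hn, ρs_neg, and_self]

theorem Φ_mul (x y : T4) : D.Φ x * D.Φ y = D.Φ (qm x y) := by
  obtain ⟨h1, h2, h3, h4, h5, h6, h7, h8, h9⟩ := D.rel
  simp only [Φ, qm, mul_add, add_mul, smul_mul_assoc, mul_smul_comm, one_mul, mul_one, h1, h2, h3, h4, h5, h6, h7, h8,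
    h9, smul_add, smul_neg, smul_smul]
  module

theorem Φ_apply_mul (x y : T4) (m : D.Mv) : D.Φ x (D.Φ y m) = D.Φ (qm x y) m := by rw [← D.Φ_mul]; rfl

theorem Φ_I : D.Φ qi = D.ρs mI := by simp [Φ, qi]

theorem U_Φ (x : T4) : D.ρs mU * D.Φ x = D.Φ (qrot x) * D.ρs mU := by
  obtain ⟨-, -, -, -, -, -, -, -, -, h1, h2, h3, -⟩ := sl_rels
  have e1 := congrArg D.ρs h1; have e2 := congrArg D.ρs h2; have e3 := congrArg D.ρs h3
  rw [map_mul, map_mul] at e1 e2 e3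
  simp only [Φ, qrot, mul_add, add_mul, smul_mul_assoc, mul_smul_comm, one_mul, mul_one, e1, e2, e3]
  module

theorem card_Mv : Nat.card D.Mv = 81 := by
  have h1 : Nat.card D.Zq = 3 := (Nat.card_congr (subgroupOfEquivOfLe D.Zc_le_Q).toEquiv).trans D.card_Zc
  have h2 := card_mul_index D.Zq
  rw [h1, D.Q_card] at h2
  show D.Zq.index = 81
  omega

/-- The first part. -/
noncomputable def W0 : Submodule (ZMod 3) D.Mv := LinearMap.range (D.Φ q0)

theorem mem_W0 {m : D.Mv} : m ∈ D.W0 ↔ D.Φ q0 m = m :=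
  ⟨fun ⟨n, hn⟩ => by rw [← hn, Φ_apply_mul, q_facts.1], fun h => ⟨m, h⟩⟩

theorem decompose (m : D.Mv) : m = D.Φ q0 m + D.ρs mI (D.Φ q0 (D.Φ (-qi) m)) := by
  conv_lhs => rw [show m = (1 : D.EM) m from rfl, ← Φ_one, ← q_facts.2.2.2.1, Φ_add]
  rw [LinearMap.add_apply, ← Φ_I, Φ_apply_mul, Φ_apply_mul]

theorem n_W0 {p : D.Mv} (hp : p ∈ D.W0) : D.Φ qn p = 0 ∧ D.Φ qn (D.ρs mI p) = p := by
  rw [mem_W0] at hp
  constructor
  · rw [← hp, Φ_apply_mul, q_facts.2.1, Φ_zero]; rfl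
  · conv_lhs => rw [← hp, ← Φ_I, Φ_apply_mul, Φ_apply_mul]
    rw [q_facts.2.2.1, hp]

theorem unique {p q p' q' : D.Mv} (hp : p ∈ D.W0) (hq : q ∈ D.W0) (hp' : p' ∈ D.W0) (hq' : q' ∈ D.W0)
    (e : p + D.ρs mI q = p' + D.ρs mI q') : p = p' ∧ q = q' := by
  have h1 := congrArg (D.Φ qn) e
  rw [map_add, map_add, (D.n_W0 hp).1, (D.n_W0 hp').1, (D.n_W0 hq).2, (D.n_W0 hq').2, zero_add, zero_add] at h1
  subst h1
  exact ⟨add_right_cancel e, rfl⟩

theorem card_W0 : Nat.card D.W0 = 9 := by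
  have e : D.Mv ≃ D.W0 × D.W0 :=
    { toFun := fun m => (⟨D.Φ q0 m, ⟨m, rfl⟩⟩, ⟨D.Φ q0 (D.Φ (-qi) m), ⟨_, rfl⟩⟩)
      invFun := fun p => (p.1 : D.Mv) + D.ρs mI p.2
      left_inv := fun m => (D.decompose m).symm
      right_inv := fun p => by
        obtain ⟨h1, h2⟩ := D.unique ⟨_, rfl⟩ ⟨_, rfl⟩ p.1.2 p.2.2 (D.decompose ((p.1 : D.Mv) + D.ρs mI p.2)).symm
        exact Prod.ext (Subtype.ext h1) (Subtype.ext h2) }
  have h := Nat.card_congr e
  rw [D.card_Mv, Nat.card_prod] at h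
  nlinarith

theorem exists_basis : ∃ a ∈ D.W0, ∃ b ∈ D.W0, (∀ m ∈ D.W0, ∃ i j : ZMod 3, m = i • a + j • b) ∧
    ∀ i j : ZMod 3, i • a + j • b = 0 → i = 0 ∧ j = 0 := by
  haveI : Fact (Nat.Prime 3) := ⟨Nat.prime_three⟩
  haveI : Finite D.Mv := Nat.finite_of_card_ne_zero (by rw [D.card_Mv]; norm_num)
  have hr : Module.finrank (ZMod 3) D.W0 = 2 := by
    have h := Module.natCard_eq_pow_finrank (K := ZMod 3) (V := D.W0)
    rw [D.card_W0, Nat.card_zmod] at h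
    exact (Nat.pow_right_injective (by norm_num : 2 ≤ 3) (show (3:ℕ) ^ 2 = 3 ^ Module.finrank (ZMod 3) D.W0 by linarith)).symm
  obtain bas := Module.finBasisOfFinrankEq (ZMod 3) D.W0 hr
  refine ⟨bas 0, (bas 0).2, bas 1, (bas 1).2, fun m hm => ⟨bas.repr ⟨m, hm⟩ 0, bas.repr ⟨m, hm⟩ 1, ?_⟩, fun i j e => ?_⟩
  · have := congrArg Subtype.val (bas.sum_repr ⟨m, hm⟩)
    rw [Fin.sum_univ_two] at this
    simpa using this.symm
  · have h := Fintype.linearIndependent_iff.1 bas.linearIndependent ![i, j] (by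
      refine Subtype.ext ?_
      rw [Fin.sum_univ_two]
      simpa using e)
    exact ⟨h 0, h 1⟩

end Setting

end CfsgLib.L43Rec
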