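import Cfsg.Agent.Lib.L43Rec.CentW
import Cfsg.Agent.Lib.GoodPairs

/-!
When the conjugates of the centre in the core lie in one plane: the plane is strongly closed.
-/

set_option autoImplicit false

namespace CfsgLib.L43Rec

open Subgroup Matrix CfsgLib.GoodPairs

universe u

/-- The transvection in the second plane. -/
def e13 : Ph0 := cel 0 0 0 1 0 1

/-- A regular unipotent element of the complement. -/
def vel : Ph0 := cel 0 0 0 0 1 mU

theorem col_orbit : ∀ c1 c2 : ZMod 3, ¬(c1 = 0 ∧ c2 = 0) →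
    ∃ W : SL23, W.1 0 0 = c1 ∧ W.1 1 0 = c2 := by decide +kernel

/-- A permutation taking a transvection of the complement into the core. -/
def hel (c : ZMod 3) : Ph0 := mk0 ⟨!![1, 0, 0; 0, 0, -1; 0, 1, c], by rw [Matrix.det_fin_three]; simp⟩ 0

theorem transvection_into : ∀ a2 a3 c1 : ZMod 3, ∃ b1 b2 b3 : ZMod 3,
    (hel c1 * cel 0 a2 a3 c1 0 mU).1.1 = (cel b1 b2 b3 1 0 1 * hel c1).1.1 := by decide +kernel

theorem transvection_into' : ∀ a1 a2 a3 c1 : ZMod 3, a1 ≠ 0 → ∃ b1 b2 b3 : ZMod 3,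
    (hel c1 * cel a1 a2 a3 c1 0 mU).1.1 = (cel b1 b2 b3 1 0 1 * hel c1).1.1 := by decide +kernel

theorem regular_order : ∀ a1 a2 a3 c1 c2 : ZMod 3, c2 ≠ 0 →
    (cel a1 a2 a3 c1 c2 mU).1.1 * (cel a1 a2 a3 c1 c2 mU).1.1 * (cel a1 a2 a3 c1 c2 mU).1.1 = 1 → a1 = 0 := by
  decide +kernel

theorem regular_conj : ∀ a2 a3 c1 c2 : ZMod 3, c2 ≠ 0 → ∃ p q r : ZMod 3,
    (cel p q 0 0 r 1 * cel 0 a2 a3 c1 c2 mU).1.1 = (cel 0 0 0 0 c2 mU * cel p q 0 0 r 1).1.1 := by decide +kernel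

theorem regular_shift : ∀ c2 i j : ZMod 3, c2 ≠ 0 → ∃ p q r : ZMod 3,
    (cel p q 0 0 r 1 * cel 0 0 0 0 c2 mU).1.1 = (cel 0 0 0 0 c2 mU * cel 0 0 i j 0 1 * cel p q 0 0 r 1).1.1 := by
  decide +kernel

theorem regular_comm : ∀ c2 : ZMod 3, (cel 0 0 0 0 c2 mU).1.1 * e13.1.1 = e13.1.1 * (cel 0 0 0 0 c2 mU).1.1 := by
  decide +kernel

namespace Std

variable {G : Type u} [Group G] (S : Std G)

/-- All conjugates of the centre in the core lie in the plane. -/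
def CaseOne : Prop := ∀ x ∈ S.D.Q, x ∉ S.D.Zc → IsConj S.D.z x → x ∈ S.F.plane

/-- The image. -/
abbrev P : Subgroup G := S.Φ.range

theorem isConj_inv : IsConj S.D.z S.D.z⁻¹ := isConj_iff.2 ⟨_, S.s0_z⟩

theorem conj_pow_eq {i : ℕ} (hi : i % 3 ≠ 0) : IsConj S.D.z (S.D.z ^ i) := by
  rw [pow_eq_pow_mod i S.D.z_cube]
  have : i % 3 = 1 ∨ i % 3 = 2 := by omega
  rcases this with e | e
  · rw [e, pow_one]
  · rw [e, show S.D.z ^ 2 = S.D.z⁻¹ from eq_inv_of_mul_eq_one_left (by rw [← pow_succ]; exact S.D.z_cube)]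
    exact S.isConj_inv

theorem conj_of_plane {e : G} (he : e ∈ S.F.plane) (he1 : e ≠ 1) : IsConj S.D.z e := by
  by_cases hz : e ∈ S.D.Zc
  · obtain ⟨i, hi, rfl⟩ := S.D.mem_Zc.1 hz
    exact S.conj_pow_eq fun h => he1 (by rw [pow_eq_pow_mod i S.D.z_cube, h, pow_zero])
  · obtain ⟨n, hn⟩ := S.plane_conj he hz
    exact isConj_iff.2 ⟨_, hn⟩

theorem normal_plane {n : G} (hn : n ∈ S.P) {q : G} (hq : q ∈ S.F.plane) : n * q * n⁻¹ ∈ S.F.plane :=
  (mem_normalizer_iff.1 (S.range_eq.le hn) q).1 hq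

theorem card_plane : Nat.card S.F.plane = 27 := by
  let f : ZMod 3 × ZMod 3 × ZMod 3 → S.F.plane := fun a => ⟨S.Φ (cel a.1 a.2.1 a.2.2 0 0 1), by
    obtain ⟨h1, h2⟩ := S.cel_Q a.1 a.2.1 a.2.2 0 0
    exact ⟨h1, by rw [h2]⟩⟩
  have hf : Function.Bijective f := by
    constructor
    · intro a b e
      have h := congrArg (fun g : Ph0 => pa g) (S.inj (congrArg Subtype.val e))
      simp only [cel, pa_mk0] at h
      exact Prod.ext (congrFun h 0) (Prod.ext (congrFun h 1) (congrFun h 2))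
    · rintro ⟨q, hq⟩
      obtain ⟨a1, a2, a3, e, -⟩ := S.exists_of_plane hq
      exact ⟨(a1, a2, a3), Subtype.ext e⟩
  rw [← Nat.card_eq_of_bijective f hf, Nat.card_prod, Nat.card_prod, Nat.card_zmod]

/-- The cores at two points of the plane meet in the plane. -/
theorem inter_cores [Finite G] {g : G} (he : g * S.D.z * g⁻¹ ∈ S.F.plane) (hez : g * S.D.z * g⁻¹ ∉ S.D.Zc) :
    S.D.Q ⊓ (S.D.conj g).Q = S.F.plane := by
  obtain ⟨K, hKz, hKQ, hKg⟩ := S.D.exists_Frame he.1 hez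
  have hc : Nat.card (S.D.Q ⊓ (S.D.conj g).Q : Subgroup G) = 27 := by
    have h := K.E_card
    rwa [hKQ, show (K.D.conj K.g).Q = (S.D.conj g).Q by
      show Subgroup.map (MulAut.conj K.g).toMonoidHom K.D.Q = _
      rw [hKQ, hKg]; rfl] at h
  refine (eq_of_le_of_card_ge (le_inf (fun q (hq : q ∈ S.F.plane) => hq.1) (S.plane_le_conj he hez rfl)) ?_).symm
  rw [hc, S.card_plane]

theorem exists_fixed [Finite G] {e : G} (he : ∀ a ∈ S.F.plane, e * a * e⁻¹ ∈ S.F.plane) (he3 : e ^ 3 = 1) :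
    ∃ a ∈ S.F.plane, a ≠ 1 ∧ e * a = a * e := by
  classical
  haveI : Fact (Nat.Prime 3) := ⟨Nat.prime_three⟩
  have hpow : ∀ n : ℕ, ∀ a ∈ S.F.plane, e ^ n * a * (e ^ n)⁻¹ ∈ S.F.plane := by
    intro n
    induction n with
    | zero => intro a ha; simpa using ha
    | succ n ih =>
      intro a ha
      rw [show e ^ (n + 1) * a * (e ^ (n + 1))⁻¹ = e * (e ^ n * a * (e ^ n)⁻¹) * e⁻¹ by rw [pow_succ']; group]
      exact he _ (ih a ha)
  have hz : ∀ g ∈ zpowers e, ∃ n : ℕ, e ^ n = g := fun g hg => by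
    obtain ⟨k, hk⟩ := (mem_zpowers_iff.1 hg)
    exact ⟨(k % 3).toNat, by
      rw [← hk, ← zpow_natCast, Int.toNat_of_nonneg (Int.emod_nonneg _ (by norm_num))]
      conv_rhs => rw [← Int.emod_add_mul_ediv k 3, _root_.zpow_add, _root_.zpow_mul, show e ^ (3 : ℤ) = 1 from
        (zpow_natCast e 3).trans he3, _root_.one_zpow, mul_one]⟩
  letI : MulAction (zpowers e) S.F.plane :=
    { smul := fun g a => ⟨(g : G) * a * (g : G)⁻¹, by obtain ⟨n, hn⟩ := hz g g.2; rw [← hn]; exact hpow n a a.2⟩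
      one_smul := fun a => Subtype.ext (by show ((1 : zpowers e) : G) * _ * _ = _; simp)
      mul_smul := fun g h a => Subtype.ext (by
        show ((g * h : zpowers e) : G) * _ * _ = (g : G) * ((h : G) * _ * _) * _
        rw [Subgroup.coe_mul]; group) }
  have hp : IsPGroup 3 (zpowers e) := fun g => ⟨1, Subtype.ext (by
    obtain ⟨n, hn⟩ := hz g g.2
    rw [pow_one, SubgroupClass.coe_pow, ← hn, ← pow_mul, mul_comm, pow_mul, he3, one_pow]; rfl)⟩
  obtain ⟨a, ha, ha1⟩ := hp.exists_fixed_point_of_prime_dvd_card_of_fixed_point S.F.plane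
    (by rw [S.card_plane]; norm_num) (a := (1 : S.F.plane)) (fun g => Subtype.ext (by
      show (g : G) * ((1 : S.F.plane) : G) * (g : G)⁻¹ = _; simp))
  exact ⟨a, a.2, fun h => ha1 (Subtype.ext h.symm),
    mul_inv_eq_iff_eq_mul.1 (congrArg Subtype.val (ha ⟨e, mem_zpowers e⟩))⟩

variable (hI : S.CaseOne)
include hI

theorem conj_Q_plane {x : G} (hx : x ∈ S.D.Q) (hc : IsConj S.D.z x) : x ∈ S.F.plane := by
  by_cases hz : x ∈ S.D.Zc
  · obtain ⟨i, -, rfl⟩ := S.D.mem_Zc.1 hz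
    exact pow_mem (show S.D.z ∈ S.F.plane from ⟨S.D.z_Q, by rw [(S.F.cd_zero _ S.D.z_Q).2 (mem_zpowers _)]; rfl⟩) _
  · exact hI x hx hz hc

theorem hplane [Finite G] : ∀ g : G, g * S.D.z * g⁻¹ ∈ S.D.Q → g * S.D.z * g⁻¹ ∉ S.D.Zc →
    ∀ q ∈ S.D.Q, q ∈ (S.D.conj g).Q → dt (S.F.cd q) = 0 := by
  intro g h1 h2 q hq hq'
  have h := (S.inter_cores (S.conj_Q_plane hI h1 (isConj_iff.2 ⟨g, rfl⟩)) h2).le ⟨hq, hq'⟩
  have h3 := h.2
  generalize S.F.cd q = v at h3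
  obtain ⟨a, b, c, d⟩ := v
  obtain ⟨rfl, rfl⟩ : c = 0 ∧ d = 0 := Prod.mk.inj h3
  simp [dt]

theorem nonpure_le [Finite G] {q : G} (hq : S.Nonpure q) : centralizer ({q} : Set G) ≤ S.P :=
  (S.centW (S.hplane hI) hq).trans (S.D.Q_le_Ct.trans S.Ct_le)

theorem cel_conj_plane {a1 a2 a3 c1 c2 : ZMod 3} (hc : IsConj S.D.z (S.Φ (cel a1 a2 a3 c1 c2 1))) :
    c1 = 0 ∧ c2 = 0 := by
  obtain ⟨hQ, hv⟩ := S.cel_Q a1 a2 a3 c1 c2
  have h := (S.conj_Q_plane hI hQ hc).2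
  rw [hv] at h
  exact Prod.mk.inj h

theorem conj_mU {a1 a2 a3 c1 c2 : ZMod 3} (he3 : S.Φ (cel a1 a2 a3 c1 c2 mU) ^ 3 = 1)
    (hc : IsConj S.D.z (S.Φ (cel a1 a2 a3 c1 c2 mU))) : False := by
  set e := S.Φ (cel a1 a2 a3 c1 c2 mU) with he
  have push : ∀ {n m : Ph0} {p : G}, (n * cel a1 a2 a3 c1 c2 mU).1.1 = (m * n).1.1 → S.Φ m = p → IsConj S.D.z p := by
    intro n m p h hm
    refine hc.trans (isConj_iff.2 ⟨S.Φ n, ?_⟩)
    rw [← hm, mul_inv_eq_iff_eq_mul, he, ← map_mul, ← map_mul]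
    exact S.eq_of h
  by_cases h2 : c2 = 0
  · subst h2
    obtain ⟨b1, b2, b3, h⟩ : ∃ b1 b2 b3 : ZMod 3,
        (hel c1 * cel a1 a2 a3 c1 0 mU).1.1 = (cel b1 b2 b3 1 0 1 * hel c1).1.1 := by
      by_cases h1 : a1 = 0
      · subst h1; exact transvection_into a2 a3 c1
      · exact transvection_into' a1 a2 a3 c1 h1
    exact absurd (S.cel_conj_plane hI (push h rfl)).1 (by decide)
  · have ha1 : a1 = 0 := regular_order a1 a2 a3 c1 c2 h2 (by
      have h := congrArg (fun g : Ph0 => g.1.1)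
        (S.inj (show S.Φ (cel a1 a2 a3 c1 c2 mU ^ 3) = S.Φ 1 by rw [map_pow, map_one, ← he, he3]))
      simpa [pow_succ, Matrix.SpecialLinearGroup.coe_mul] using h)
    subst ha1
    obtain ⟨p, q, r, h⟩ := regular_conj a2 a3 c1 c2 h2
    obtain ⟨g, hg⟩ := isConj_iff.1 (push h rfl)
    set v := S.Φ (cel 0 0 0 0 c2 mU) with hv
    set D' := S.D.conj g with hD'
    have hD'z : D'.z = v := hg
    have hcom : ∀ i : ZMod 3, S.Φ (cel 0 0 i 1 0 1) * v = v * S.Φ (cel 0 0 i 1 0 1) := by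
      intro i
      rw [hv, ← map_mul, ← map_mul]
      refine congrArg S.Φ (Subtype.ext (Subtype.ext ?_))
      revert i
      revert h2
      generalize c2 = c
      revert c
      decide +kernel
    have hzv : S.D.z * v = v * S.D.z := (S.D.mem_Ct.1 (S.cel_Ct 0 0 0 0 c2 mU)).symm
    have hzC : S.D.z ∈ D'.Ct := by rw [D'.mem_Ct, hD'z]; exact hzv
    have huC : ∀ i, S.Φ (cel 0 0 i 1 0 1) ∈ D'.Ct := fun i => by rw [D'.mem_Ct, hD'z]; exact hcom i
    obtain ⟨i, j, hij, hQ⟩ : ∃ i j : ZMod 3, j ≠ 0 ∧ S.Φ (cel 0 0 i j 0 1) ∈ D'.Q := by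
      have key : ∀ A B : SL23, A * B = B * A → A * A * A = 1 → B * B * B = 1 →
          A ≠ 1 → (B = 1 ∨ B * A = 1 ∨ B * (A * A) = 1) := by decide +kernel
      by_cases hzQ : S.D.z ∈ D'.Q
      · exfalso
        have hzc : IsConj D'.z S.D.z := by rw [hD'z]; exact (push h rfl).symm
        by_cases hzZ : S.D.z ∈ D'.Zc
        · have hvQ : v ∈ S.D.Q := by
            obtain ⟨k, -, hk⟩ := D'.mem_Zc.1 hzZ
            rw [hD'z] at hk
            have hk0 : k % 3 ≠ 0 := fun h => S.D.z_ne (by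
              rw [hk, pow_eq_pow_mod k (show v ^ 3 = 1 by rw [← hD'z]; exact D'.z_cube), h, pow_zero])
            refine S.D.Zc_le_Q ?_
            obtain ⟨m, hm⟩ : ∃ m, k * m % 3 = 1 := ⟨k % 3, by
              rw [Nat.mul_mod]
              have : k % 3 = 1 ∨ k % 3 = 2 := by omega
              rcases this with e | e <;> simp [e]⟩
            have : v = S.D.z ^ m := by
              rw [hk, ← pow_mul, pow_eq_pow_mod _ (show v ^ 3 = 1 by rw [← hD'z]; exact D'.z_cube), hm, pow_one]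
            rw [this]; exact pow_mem (mem_zpowers _) _
          have := (S.D.φ_ker ⟨v, S.cel_Ct 0 0 0 0 c2 mU⟩).2 hvQ
          rw [S.cel_φ] at this
          exact absurd this (by decide +kernel)
        · have hz' : g⁻¹ * S.D.z * g ∈ S.D.Q := by
            obtain ⟨q', hq', e'⟩ := hzQ
            rw [show g⁻¹ * S.D.z * g = q' by rw [← e']; simp [mul_assoc]]
            exact hq'
          have hz'c : IsConj S.D.z (g⁻¹ * S.D.z * g) := isConj_iff.2 ⟨g⁻¹, by rw [inv_inv]⟩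
          have hpl := S.conj_Q_plane hI hz' hz'c
          have hne : g⁻¹ * S.D.z * g ∉ S.D.Zc := fun hh => hzZ (by
            obtain ⟨k, -, hk⟩ := S.D.mem_Zc.1 hh
            refine D'.mem_Zc.2 ⟨k % 3, Nat.mod_lt _ (by norm_num), ?_⟩
            rw [← pow_eq_pow_mod k D'.z_cube, S.D.conj_z, conj_pow, ← hk]
            group)
          have hvpl : g⁻¹ * S.D.z * g ∈ S.F.plane ∧ S.D.z ∈ S.F.plane :=
            ⟨hpl, ⟨S.D.z_Q, by rw [(S.F.cd_zero _ S.D.z_Q).2 (mem_zpowers _)]; rfl⟩⟩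
          obtain ⟨n, hn⟩ := S.plane_conj hpl hne
          have hC : g * S.Φ n ∈ S.D.Ct := by
            rw [S.D.mem_Ct]
            calc g * S.Φ n * S.D.z = g * (S.Φ n * S.D.z * (S.Φ n)⁻¹) * S.Φ n := by group
              _ = _ := by rw [hn]; group
          have hgP : g ∈ S.P := by
            have := mul_mem (S.Ct_le hC) (inv_mem (⟨n, rfl⟩ : S.Φ n ∈ S.P))
            rwa [mul_inv_cancel_right] at this
          have h' := S.normal_plane hgP hvpl.2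
          rw [hg] at h'
          have := (S.D.φ_ker ⟨v, S.cel_Ct 0 0 0 0 c2 mU⟩).2 h'.1
          rw [S.cel_φ] at this
          exact absurd this (by decide +kernel)
      have hcube : ∀ a : D'.Ct, (a : G) ^ 3 = 1 → D'.φ a * D'.φ a * D'.φ a = 1 := fun a ha => by
        rw [← map_mul, ← map_mul, show a * a * a = 1 from Subtype.ext (by
          show (a : G) * a * a = 1; rw [← pow_three']; exact ha), map_one]
      have hu3 : S.Φ (cel 0 0 0 1 0 1) ^ 3 = 1 := S.D.Q_exp _ (S.cel_Q _ _ _ _ _).1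
      rcases key (D'.φ ⟨_, hzC⟩) (D'.φ ⟨_, huC 0⟩) (by
          rw [← map_mul, ← map_mul]
          exact congrArg D'.φ (Subtype.ext (S.D.Q_z _ (S.cel_Q 0 0 0 1 0).1).symm))
          (hcube _ S.D.z_cube) (hcube _ hu3) (fun hh => hzQ ((D'.φ_ker _).1 hh)) with k | k | k
      · exact ⟨0, 1, by decide, (D'.φ_ker _).1 k⟩
      · rw [← map_mul] at k
        refine ⟨1, 1, by decide, ?_⟩
        have := (D'.φ_ker _).1 k
        rwa [Subgroup.coe_mul, show (S.Φ (cel 0 0 0 1 0 1)) * S.D.z = S.Φ (cel 0 0 1 1 0 1) by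
          rw [← S.Φ_z, ← map_mul]; exact S.eq_of (by decide +kernel)] at this
      · rw [← map_mul, ← map_mul] at k
        refine ⟨2, 1, by decide, ?_⟩
        have := (D'.φ_ker _).1 k
        rwa [Subgroup.coe_mul, Subgroup.coe_mul,
          show (S.Φ (cel 0 0 0 1 0 1)) * (S.D.z * S.D.z) = S.Φ (cel 0 0 2 1 0 1) by
            rw [← S.Φ_z, ← map_mul, ← map_mul]; exact S.eq_of (by decide +kernel)] at this
    obtain ⟨p', q', r', h'⟩ := regular_shift c2 i j h2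
    set u := S.Φ (cel 0 0 i j 0 1) with hu
    have hvu : IsConj v (v * u) := isConj_iff.2 ⟨S.Φ (cel p' q' 0 0 r' 1), by
      rw [mul_inv_eq_iff_eq_mul, hv, hu, ← map_mul, ← map_mul, ← map_mul]
      exact S.eq_of h'⟩
    obtain ⟨uq, huq, hue⟩ := hQ
    have hue' : g * uq * g⁻¹ = u := hue
    have hvu' : S.D.z * uq = g⁻¹ * (v * u) * g := by rw [← hue', ← hg]; group
    have hmem := S.conj_Q_plane hI (mul_mem S.D.z_Q huq) (by
      rw [hvu']
      exact ((push h rfl).trans hvu).trans (isConj_iff.2 ⟨g⁻¹, by rw [inv_inv]⟩))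
    have hz : S.D.z ∈ S.F.plane := ⟨S.D.z_Q, by rw [(S.F.cd_zero _ S.D.z_Q).2 (mem_zpowers _)]; rfl⟩
    have huqp : uq ∈ S.F.plane := by
      have := mul_mem (inv_mem hz) hmem
      rwa [inv_mul_cancel_left] at this
    have huq1 : uq ≠ 1 := fun e => hij (by
      have : u = 1 := by rw [← hue', e]; group
      have h := congrArg (fun g : Ph0 => g.1.1 1 3) (S.inj (this.trans (map_one S.Φ).symm))
      have key : ∀ i j : ZMod 3, (cel 0 0 i j 0 1).1.1 1 3 = (1 : Ph0).1.1 1 3 → j = 0 := by decide +kernel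
      exact key i j h)
    exact hij (S.cel_conj_plane hI ((S.conj_of_plane huqp huq1).trans (isConj_iff.2 ⟨g, hue'⟩))).1

/-- The conjugates of the centre commuting with it lie in the plane. -/
theorem conj_Ct [Finite G] {e : G} (he : e ∈ S.D.Ct) (hc : IsConj S.D.z e) : e ∈ S.F.plane := by
  have he3 : e ^ 3 = 1 := by
    obtain ⟨g, rfl⟩ := isConj_iff.1 hc
    rw [conj_pow, S.D.z_cube]; group
  by_cases hQ : e ∈ S.D.Q
  · exact S.conj_Q_plane hI hQ hc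
  exfalso
  have key : ∀ A : SL23, A * A * A = 1 → A ≠ 1 → ∃ W : SL23, W * A = mU * W ∨ W * A = mU * mU * W := by
    decide +kernel
  obtain ⟨W, hW⟩ := key (S.D.φ ⟨e, he⟩) (by
    rw [← map_mul, ← map_mul, show (⟨e, he⟩ : S.D.Ct) * ⟨e, he⟩ * ⟨e, he⟩ = 1 from Subtype.ext (by
      show e * e * e = 1; rw [← pow_three']; exact he3), map_one]) (fun h => hQ ((S.D.φ_ker _).1 h))
  set m : S.D.Ct := ⟨S.Φ (cel 0 0 0 0 0 W), S.cel_Ct _ _ _ _ _ _⟩
  have hm : S.D.φ m = W := S.cel_φ _ _ _ _ _ _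
  rcases hW with hW | hW
  · obtain ⟨a1, a2, a3, c1, c2, W', e', hW'⟩ := S.exists_cel_of (m * ⟨e, he⟩ * m⁻¹).2
    rw [show (⟨((m * ⟨e, he⟩ * m⁻¹ : S.D.Ct) : G), (m * ⟨e, he⟩ * m⁻¹).2⟩ : S.D.Ct) = m * ⟨e, he⟩ * m⁻¹ from rfl,
      map_mul, map_mul, map_inv, hm, hW, mul_inv_cancel_right] at hW'
    subst hW'
    refine S.conj_mU hI (a1 := a1) (a2 := a2) (a3 := a3) (c1 := c1) (c2 := c2) ?_ ?_
    · rw [e', Subgroup.coe_mul, Subgroup.coe_mul, Subgroup.coe_inv, conj_pow, he3]; group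
    · rw [e']; exact hc.trans (isConj_iff.2 ⟨m, rfl⟩)
  · have hc' : IsConj S.D.z e⁻¹ := by
      obtain ⟨g, hg⟩ := isConj_iff.1 hc
      exact S.isConj_inv.trans (isConj_iff.2 ⟨g, by rw [← hg]; group⟩)
    obtain ⟨a1, a2, a3, c1, c2, W', e', hW'⟩ := S.exists_cel_of (m * ⟨e, he⟩⁻¹ * m⁻¹).2
    rw [show (⟨((m * ⟨e, he⟩⁻¹ * m⁻¹ : S.D.Ct) : G), (m * ⟨e, he⟩⁻¹ * m⁻¹).2⟩ : S.D.Ct) = m * ⟨e, he⟩⁻¹ * m⁻¹ from rfl,
      map_mul, map_mul, map_inv, map_inv, hm,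
      show W * (S.D.φ ⟨e, he⟩)⁻¹ * W⁻¹ = (W * S.D.φ ⟨e, he⟩ * W⁻¹)⁻¹ by group, hW, mul_inv_cancel_right,
      show (mU * mU)⁻¹ = mU from inv_eq_of_mul_eq_one_left (by decide +kernel)] at hW'
    subst hW'
    refine S.conj_mU hI (a1 := a1) (a2 := a2) (a3 := a3) (c1 := c1) (c2 := c2) ?_ ?_
    · rw [e', Subgroup.coe_mul, Subgroup.coe_mul, Subgroup.coe_inv, Subgroup.coe_inv, conj_pow, inv_pow, he3]; group
    · rw [e']; exact hc'.trans (isConj_iff.2 ⟨m, rfl⟩)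

/-- The plane is strongly closed. -/
theorem conj_P [Finite G] {e : G} (he : e ∈ S.P) (hc : IsConj S.D.z e) : e ∈ S.F.plane := by
  have he3 : e ^ 3 = 1 := by
    obtain ⟨g, rfl⟩ := isConj_iff.1 hc
    rw [conj_pow, S.D.z_cube]; group
  obtain ⟨a, ha, ha1, hae⟩ := S.exists_fixed (fun a ha => S.normal_plane he ha) he3
  obtain ⟨m, hm, hme⟩ : ∃ m ∈ S.P, m * S.D.z * m⁻¹ = a := by
    by_cases hz : a ∈ S.D.Zc
    · obtain ⟨i, hi, rfl⟩ := S.D.mem_Zc.1 hz
      interval_cases i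
      · simp at ha1
      · exact ⟨1, one_mem _, by simp⟩
      · exact ⟨_, ⟨s0, rfl⟩, S.s0_z.trans (inv_eq_of_mul_eq_one_left (by rw [← pow_succ]; exact S.D.z_cube))⟩
    · obtain ⟨n, hn⟩ := S.plane_conj ha hz
      exact ⟨_, ⟨n, rfl⟩, hn⟩
  have he' : m⁻¹ * e * m ∈ S.D.Ct := by
    rw [S.D.mem_Ct]
    calc m⁻¹ * e * m * S.D.z = m⁻¹ * (e * (m * S.D.z * m⁻¹)) * m := by group
      _ = m⁻¹ * (m * S.D.z * m⁻¹ * e) * m := by rw [hme, hae]
      _ = _ := by group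
  have h := S.conj_Ct hI he' (hc.trans (isConj_iff.2 ⟨m⁻¹, by rw [inv_inv]⟩))
  have := S.normal_plane hm h
  rwa [show m * (m⁻¹ * e * m) * m⁻¹ = e by group] at this

/-- A conjugate of a plane element lying in the image comes from the image. -/
theorem plane_good [Finite G] {a : G} (ha : a ∈ S.F.plane) (ha1 : a ≠ 1) : GoodIn S.P a := by
  have hle : S.F.plane ≤ S.P := fun q hq => S.range_eq.ge (le_normalizer hq)
  refine ⟨hle ha, fun g hg => ?_⟩
  have hc : IsConj S.D.z (g⁻¹ * a * g) :=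
    (S.conj_of_plane ha ha1).trans (isConj_iff.2 ⟨g⁻¹, by rw [inv_inv]⟩)
  have hb := S.conj_P hI hg hc
  have conjP : ∀ b ∈ S.F.plane, b ≠ 1 → ∃ m ∈ S.P, m * S.D.z * m⁻¹ = b := by
    intro b hb hb1
    by_cases hz : b ∈ S.D.Zc
    · obtain ⟨i, hi, rfl⟩ := S.D.mem_Zc.1 hz
      interval_cases i
      · simp at hb1
      · exact ⟨1, one_mem _, by simp⟩
      · exact ⟨_, ⟨s0, rfl⟩, S.s0_z.trans (inv_eq_of_mul_eq_one_left (by rw [← pow_succ]; exact S.D.z_cube))⟩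
    · obtain ⟨n, hn⟩ := S.plane_conj hb hz
      exact ⟨_, ⟨n, rfl⟩, hn⟩
  obtain ⟨m, hm, hme⟩ := conjP a ha ha1
  obtain ⟨n, hn, hne⟩ := conjP _ hb (fun h => ha1 (by
    calc a = g * (g⁻¹ * a * g) * g⁻¹ := by group
      _ = 1 := by rw [h]; group))
  have hC : m⁻¹ * g * n ∈ S.D.Ct := by
    rw [S.D.mem_Ct]
    calc m⁻¹ * g * n * S.D.z = m⁻¹ * (g * (n * S.D.z * n⁻¹)) * n := by group
      _ = m⁻¹ * (a * g) * n := by rw [hne]; group
      _ = m⁻¹ * (m * S.D.z * m⁻¹ * g) * n := by rw [hme]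
      _ = _ := by group
  have := mul_mem (mul_mem hm (S.Ct_le hC)) (inv_mem hn)
  rwa [show m * (m⁻¹ * g * n) * n⁻¹ = g by group] at this

/-- An element of order three whose centralizer lies in the image. -/
theorem good_of_cent [Finite G] {e : G} (he : e ∈ S.P) (he3 : e ^ 3 = 1) (hC : centralizer ({e} : Set G) ≤ S.P) :
    GoodIn S.P e := by
  refine ⟨he, fun g hg => ?_⟩
  obtain ⟨a, ha, ha1, hae⟩ := S.exists_fixed (fun a ha => S.normal_plane hg ha) (by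
    have := conj_pow (i := 3) (a := g⁻¹) (b := e)
    rw [inv_inv] at this
    rw [this, he3]; group)
  have h1 : g * a * g⁻¹ ∈ centralizer ({e} : Set G) := by
    rw [mem_centralizer_singleton_iff]
    calc g * a * g⁻¹ * e = g * (a * (g⁻¹ * e * g)) * g⁻¹ := by group
      _ = g * ((g⁻¹ * e * g) * a) * g⁻¹ := by rw [hae]
      _ = _ := by group
  have h2 := S.conj_P hI (hC h1) ((S.conj_of_plane ha ha1).trans (isConj_iff.2 ⟨g, rfl⟩))
  exact (S.plane_good hI h2 (fun h => ha1 (conj_eq_one_iff.1 h))).2 g (by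
    rw [show g⁻¹ * (g * a * g⁻¹) * g = a by group]
    exact S.range_eq.ge (le_normalizer ha))

end Std

end CfsgLib.L43Rec
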