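import Cfsg.Agent.Lib.L43Rec.OneQuot

/-!
When the plane is strongly closed: the centralizers of the elements of the plane pair.
-/

set_option autoImplicit false

namespace CfsgLib.L43Rec

open Subgroup Matrix CfsgLib.GoodPairs CfsgLib.PositiveBound

universe u

namespace Par

variable (p : Par)

theorem cm_eqs {α q r s b c d e f : ZMod 3} (h : p.Cm (α, q, 0, r, s) (b, c, d, e, f)) :
    ∃ i : ZMod 3, c * α = q * b + p.θ * i ∧ p.η * p.θ * b * q = p.η * p.θ * α * c + p.η * i ∧
      e * α = p.η * p.θ * α * d + r * b + p.η * i * (α + b) := by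
  obtain ⟨i, hi⟩ := h
  simp only [tm, tb, Prod.mk.injEq] at hi
  obtain ⟨-, -, h3, h4, h5⟩ := hi
  refine ⟨i, ?_, ?_, ?_⟩
  · linear_combination h3
  · linear_combination h4
  · linear_combination h5 + p.η * i * (α + b) * p.θ_sq

theorem shift_zero : ∀ x a : ZMod 3, a ≠ 0 → x = 0 ∨ x + a = 0 ∨ x + a + a = 0 := by decide

set_option synthInstance.maxSize 4096 in
theorem B_eqs : ∀ η θ q r b c i e : ZMod 3, (η = 0 ∨ η = 1) → (θ = 1 ∨ θ = -1) → q ≠ 0 →
    c * 0 = q * b + θ * i → η * θ * b * q = η * θ * 0 * c + η * i → e * 0 = r * b + η * i * (0 + b) →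
    η * b = 0 ∧ r * b = 0 := by decide +kernel

theorem x_eqs : ∀ θ b c d i e : ZMod 3, (θ = 1 ∨ θ = -1) →
    c * 1 = 0 * b + θ * i → 1 * θ * b * 0 = 1 * θ * 1 * c + 1 * i → e * 1 = 1 * θ * 1 * d + 1 * b + 1 * i * (1 + b) →
    c = 0 ∧ e - 1 * θ * d = b := by decide +kernel

end Par

namespace Std

variable {G : Type u} [Group G] (S : Std G) (p : Par)

theorem U_plane (r s : ZMod 3) : p.U (0, 0, 0, r, s) = cel 0 r s 0 0 1 := by
  refine Par.ph_ext ?_
  rw [p.U_val]
  ext i j
  fin_cases i <;> fin_cases j <;> simp <;> rfl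

theorem U_core (b d e f : ZMod 3) : p.U (b, 0, d, e, f) = cel (p.η * p.θ * b) e f d b 1 := by
  refine Par.ph_ext ?_
  rw [p.U_val]
  ext i j
  fin_cases i <;> fin_cases j <;> simp <;> rfl

theorem rho_ne_one {t : T5} (ht : S.rho p t ≠ 1) :
    ¬(t.1 = 0 ∧ t.2.1 = 0 ∧ (p.red t).2.2.2.1 = 0 ∧ (p.red t).2.2.2.2 = 0) := by
  rintro ⟨h1, h2, h3, h4⟩
  refine ht ?_
  rw [← S.rho_red p t, ← S.rho_one p]
  congr 1
  exact Prod.ext h1 (Prod.ext h2 (Prod.ext rfl (Prod.ext h3 h4)))

variable [Finite G] (hI : S.CaseOne)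
include hI

theorem good_plane {r s : ZMod 3} (h : ¬(r = 0 ∧ s = 0)) : GoodIn (S.Mq p) (S.rho p (0, 0, 0, r, s)) := by
  obtain ⟨h1, h2⟩ := S.cel_Q 0 r s 0 0
  refine S.good_lift p (S.plane_good hI ?_ ?_)
  · rw [U_plane]; exact ⟨h1, by rw [h2]⟩
  · intro e
    rw [← map_one S.Φ, ← p.U_zero] at e
    have := p.U_inj (S.inj e)
    simp only [Prod.mk.injEq] at this
    exact h ⟨this.2.2.2.1, this.2.2.2.2⟩

theorem good_tz : GoodIn (S.Mq p) (S.rho p (Par.tz 1)) := S.good_plane p hI (by simp)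

theorem good_nonpure {b d e f : ZMod 3} (h : e * b + p.η * p.θ * b * d ≠ 0) :
    GoodIn (S.Mq p) (S.rho p (b, 0, d, e, f)) := by
  obtain ⟨h1, h2⟩ := S.cel_Q (p.η * p.θ * b) e f d b
  refine S.good_lift p ?_
  rw [U_core]
  refine S.good_of_cent hI ⟨_, rfl⟩ (S.D.Q_exp _ h1) (S.nonpure_le hI ⟨h1, ?_⟩)
  rw [h2, dt]
  intro hh
  exact h (by linear_combination hh)

theorem cube_of {t : T5} (h : t.1 = 0 ∨ t.2.1 = 0) : p.η * p.θ * t.1 * t.2.1 * t.1 = 0 := by
  rcases h with h | h <;> rw [h] <;> ring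

omit [Finite G] hI in
theorem gs_step {e t : T5} (h : S.rho p (p.tm t e) ∈ S.Gs p e) : S.rho p t ∈ S.Gs p e := by
  rw [← S.rho_mul] at h
  have := mul_mem h (inv_mem (subset_closure (Or.inl rfl) : S.rho p e ∈ S.Gs p e))
  rwa [mul_inv_cancel_right] at this

omit [Finite G] hI in
include S in
theorem cm_step {e t : T5} (h : p.Cm e t) : p.Cm e (p.tm t e) := S.cm_of_comm p (by
  rw [← S.rho_mul, mul_assoc, ← mul_assoc (S.rho p e) (S.rho p t), ← S.comm_of_cm p h, mul_assoc])

theorem gs_of {e t : T5} (hc : p.Cm e t) (h3 : t.1 = 0 ∨ t.2.1 = 0)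
    (hg : GoodIn (S.Mq p) (S.rho p t) ∨ S.rho p t = 1) : S.rho p t ∈ S.Gs p e := by
  rcases hg with hg | hg
  · exact subset_closure (Or.inr ⟨hg, S.rho_cube_one p (cube_of S p hI h3), S.comm_of_cm p hc⟩)
  · rw [hg]; exact one_mem _

theorem plane_or_one (r s : ZMod 3) :
    GoodIn (S.Mq p) (S.rho p (0, 0, 0, r, s)) ∨ S.rho p (0, 0, 0, r, s) = 1 := by
  by_cases h : r = 0 ∧ s = 0
  · rw [h.1, h.2]; exact Or.inr (S.rho_one p)
  · exact Or.inl (S.good_plane p hI h)

/-- The elements of the pair of planes. -/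
theorem good_B {q r s : ZMod 3} (hq : q ≠ 0) : GoodIn (S.Mq p) (S.rho p (0, q, 0, r, s)) := by
  set e : T5 := (0, q, 0, r, s) with he
  refine S.good_rel p hI (cube_of S p hI (Or.inl rfl)) ?_
  have hpl : ∀ x y, p.Cm e (0, 0, 0, x, y) := fun x y => ⟨0, by
    simp only [he, Par.tm, Par.tb, Prod.mk.injEq]
    refine ⟨?_, ?_, ?_, ?_, ?_⟩ <;> ring⟩
  have heq : ∀ b c d x y, p.Cm e (b, c, d, x, y) → p.η * b = 0 ∧ r * b = 0 := by
    intro b c d x y h
    obtain ⟨i, h1, h2, h3⟩ := p.cm_eqs h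
    exact Par.B_eqs p.η p.θ q r b c i x p.hη p.hθ hq h1 h2 (by linear_combination h3)
  refine S.cent_le p (Or.inr hq) (cube_of S p hI (Or.inl rfl)) (S.good_tz p hI) ?_ ?_
    (fun j k => (0, 0, 0, k, j)) ?_ ?_ (fun j k => hpl k j) (fun j k h => S.good_plane p hI fun hh => h ⟨hh.2, hh.1⟩)
  · intro t ht
    have main : ∀ t, t.2.1 = 0 → p.Cm e t → S.rho p t ∈ S.Gs p e := by
      rintro ⟨b, c, d, x, y⟩ (hc : c = 0) ht
      subst hc
      by_cases hb : b = 0
      · subst hb
        have hr := S.rho_red p (0, 0, d, x, y)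
        rw [← hr]
        refine S.gs_of p hI (hpl _ _) (Or.inl rfl) ?_
        exact S.plane_or_one p hI _ _
      · obtain ⟨k1, k2⟩ := heq b 0 d x y ht
        have hη : p.η = 0 := (mul_eq_zero.1 k1).resolve_right hb
        have hr : r = 0 := (mul_eq_zero.1 k2).resolve_right hb
        have hw : p.Cm e (b, 0, 0, b, 0) := ⟨-(p.θ * q * b), by
          simp only [he, hr, hη, Par.tm, Par.tb, Prod.mk.injEq]
          refine ⟨?_, ?_, ?_, ?_, ?_⟩ <;> try ring
          linear_combination (q * b) * p.θ_sq⟩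
        have hwm : S.rho p (b, 0, 0, b, 0) ∈ S.Gs p e := S.gs_of p hI hw (Or.inr rfl) (Or.inl
          (S.good_nonpure p hI (by rw [hη]; simpa using hb)))
        have hpm : S.rho p (0, 0, 0, x - b, y - (x - b) * b) ∈ S.Gs p e :=
          S.gs_of p hI (hpl _ _) (Or.inl rfl) (S.plane_or_one p hI _ _)
        have := mul_mem hpm hwm
        rw [S.rho_mul, ← S.rho_red p (p.tm _ _)] at this
        rw [← S.rho_red p (b, 0, d, x, y)]
        convert this using 2
        simp only [hη, Par.tm, Par.red, Prod.mk.injEq]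
        refine ⟨?_, ?_, trivial, ?_, ?_⟩ <;> ring
    obtain ⟨b, c, d, x, y⟩ := t
    rcases Par.shift_zero c q hq with h | h | h
    · exact main _ h ht
    · exact S.gs_step p (main _ h (S.cm_step p ht))
    · exact S.gs_step p (S.gs_step p (main _ h (S.cm_step p (S.cm_step p ht))))
  · rintro ⟨b, c, d, x, y⟩ ⟨b', c', d', x', y'⟩ hg hh
    obtain ⟨k1, -⟩ := heq _ _ _ _ _ hg
    obtain ⟨k2, -⟩ := heq _ _ _ _ _ hh
    refine ⟨p.θ * (c * b' - c' * b), x * b' - x' * b, ?_⟩
    simp only [Par.tm, Par.tb, Par.tz, Prod.mk.injEq]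
    refine ⟨?_, ?_, ?_, ?_, ?_⟩
    · ring
    · ring
    · linear_combination (-(c * b' - c' * b)) * p.θ_sq
    · linear_combination (2 * p.θ * c') * k1 + (-2 * p.θ * c) * k2
    · linear_combination (p.θ * d' - (c * b' - c' * b) * p.θ * p.θ * p.θ) * k1 + (-p.θ * d - (c * b' - c' * b) * p.θ * p.θ * p.θ) * k2
  · intro j k j' k'
    refine ⟨0, ?_⟩
    simp only [Par.tm, Par.tb, Prod.mk.injEq]
    refine ⟨?_, ?_, ?_, ?_, ?_⟩ <;> first | trivial | ring
  · intro j k i h
    simp only [Par.tb, Prod.mk.injEq] at h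
    obtain ⟨-, -, h1, h2, h3⟩ := h
    have hi : i = 0 := (mul_eq_zero.1 h1.symm).resolve_left p.θ_ne
    exact ⟨h3, by rw [h2, hi, mul_zero]⟩

/-- The other elements, when the central element lies in the second plane. -/
theorem good_u (hη : p.η = 0) {α q r s : ZMod 3} (hα : α ≠ 0) :
    GoodIn (S.Mq p) (S.rho p (α, q, 0, r, s)) := by
  set e : T5 := (α, q, 0, r, s) with he
  by_cases hqr : q = 0 ∧ r ≠ 0
  · rw [he, hqr.1]
    exact S.good_nonpure p hI (by rw [hη]; simpa using mul_ne_zero hqr.2 hα)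
  have hα2 : α * α = 1 := by
    have : ∀ x : ZMod 3, x ≠ 0 → x * x = 1 := by decide
    exact this α hα
  have he3 : p.η * p.θ * e.1 * e.2.1 * e.1 = 0 := by rw [hη]; ring
  refine S.good_rel p hI he3 ?_
  have hx : ∀ b c d x y, p.Cm e (b, c, d, x, y) → x = α * r * b := by
    intro b c d x y h
    obtain ⟨i, -, -, h3⟩ := p.cm_eqs h
    rw [hη] at h3
    linear_combination α * h3 - x * hα2
  have hcm : ∀ b c y, p.Cm e (b, c, 0, α * r * b, y) := fun b c y => ⟨p.θ * (c * α - q * b), by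
    simp only [he, hη, Par.tm, Par.tb, Prod.mk.injEq]
    refine ⟨?_, ?_, ?_, ?_, ?_⟩ <;> try ring
    · linear_combination (-(c * α - q * b)) * p.θ_sq
    · linear_combination (r * b) * hα2⟩
  have hcomm : ∀ g h, p.Cm e g → p.Cm e h → ∃ i j, p.tm g h = p.tm (p.tm h g) (p.tm (p.tb i) (Par.tz j)) := by
    rintro ⟨b, c, d, x, y⟩ ⟨b', c', d', x', y'⟩ hg hh
    rw [hx _ _ _ _ _ hg, hx _ _ _ _ _ hh]
    refine ⟨p.θ * (c * b' - c' * b), 0, ?_⟩
    simp only [hη, Par.tm, Par.tb, Par.tz, Prod.mk.injEq]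
    refine ⟨?_, ?_, ?_, ?_, ?_⟩ <;> try ring
    linear_combination (-(c * b' - c' * b)) * p.θ_sq
  by_cases hr : r = 0
  · refine S.cent_le p (Or.inl hα) he3 (S.good_tz p hI) ?_ hcomm (fun j k => (0, k, 0, 0, j)) ?_ ?_ ?_ ?_
    · intro t ht
      have main : ∀ t, t.1 = 0 → p.Cm e t → S.rho p t ∈ S.Gs p e := by
        rintro ⟨b, c, d, x, y⟩ (hb : b = 0) ht
        subst hb
        have := hx _ _ _ _ _ ht
        rw [mul_zero] at this
        subst this
        rw [← S.rho_red p (0, c, d, 0, y)]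
        refine S.gs_of p hI ?_ (Or.inl rfl) ?_
        · simp only [Par.red, hη]
          simpa using hcm 0 c y
        · simp only [Par.red, hη]
          by_cases hc : c = 0
          · subst hc; simpa using S.plane_or_one p hI 0 y
          · exact Or.inl (by simpa using S.good_B p hI (r := 0) (s := y) hc)
      obtain ⟨b, c, d, x, y⟩ := t
      rcases Par.shift_zero b α hα with h | h | h
      · exact main _ h ht
      · exact S.gs_step p (main _ h (S.cm_step p ht))
      · exact S.gs_step p (S.gs_step p (main _ h (S.cm_step p (S.cm_step p ht))))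
    · intro j k j' k'
      refine ⟨0, ?_⟩
      simp only [hη, Par.tm, Par.tb, Prod.mk.injEq]
      refine ⟨?_, ?_, ?_, ?_, ?_⟩ <;> first | trivial | ring
    · intro j k i h
      simp only [hη, Par.tb, Prod.mk.injEq] at h
      exact ⟨h.2.2.2.2, h.2.1⟩
    · intro j k
      simpa [hr] using hcm 0 k j
    · intro j k h
      by_cases hk : k = 0
      · subst hk; exact S.good_plane p hI fun hh => h ⟨hh.2, rfl⟩
      · exact S.good_B p hI hk
  · have hq : q ≠ 0 := fun h => hqr ⟨h, hr⟩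
    have hm : ∀ k : ZMod 3, k ≠ 0 → α * r * k * k ≠ 0 := fun k hk =>
      mul_ne_zero (mul_ne_zero (mul_ne_zero hα hr) hk) hk
    have good_k : ∀ k y, k ≠ 0 → GoodIn (S.Mq p) (S.rho p (k, 0, 0, α * r * k, y)) := fun k y hk =>
      S.good_nonpure p hI (by rw [hη]; simpa using hm k hk)
    refine S.cent_le p (Or.inl hα) he3 (S.good_tz p hI) ?_ hcomm
      (fun j k => (k, 0, 0, α * r * k, j + 2 * (α * r) * k * k)) ?_ ?_ ?_ ?_
    · intro t ht
      have main : ∀ t, t.2.1 = 0 → p.Cm e t → S.rho p t ∈ S.Gs p e := by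
        rintro ⟨b, c, d, x, y⟩ (hc : c = 0) ht
        subst hc
        have := hx _ _ _ _ _ ht
        subst this
        rw [← S.rho_red p (b, 0, d, _, y)]
        refine S.gs_of p hI ?_ (Or.inr rfl) ?_
        · simp only [Par.red, hη]
          simpa using hcm b 0 y
        · simp only [Par.red, hη]
          by_cases hb : b = 0
          · subst hb; simpa using S.plane_or_one p hI 0 y
          · exact Or.inl (by simpa using good_k b y hb)
      obtain ⟨b, c, d, x, y⟩ := t
      rcases Par.shift_zero c q hq with h | h | h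
      · exact main _ h ht
      · exact S.gs_step p (main _ h (S.cm_step p ht))
      · exact S.gs_step p (S.gs_step p (main _ h (S.cm_step p (S.cm_step p ht))))
    · intro j k j' k'
      have h3 : (3 : ZMod 3) = 0 := by decide
      refine ⟨0, ?_⟩
      simp only [hη, Par.tm, Par.tb, Prod.mk.injEq]
      refine ⟨?_, ?_, ?_, ?_, ?_⟩ <;> first | trivial | ring1 | linear_combination (-(α * r * k * k')) * h3
    · intro j k i h
      simp only [hη, Par.tb, Prod.mk.injEq] at h
      obtain ⟨h1, -, -, -, h5⟩ := h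
      exact ⟨by rw [h1] at h5; linear_combination h5, h1⟩
    · intro j k
      exact hcm k 0 _
    · intro j k h
      by_cases hk : k = 0
      · subst hk
        simpa using S.good_plane p hI (r := 0) (s := j) fun hh => h ⟨hh.2, rfl⟩
      · exact good_k k _ hk

theorem good_all (hη : p.η = 0) {t : T5} (ht : S.rho p t ≠ 1) : GoodIn (S.Mq p) (S.rho p t) := by
  have hne := S.rho_ne_one p ht
  rw [← S.rho_red p t]
  obtain ⟨b, c, d, x, y⟩ := t
  simp only [Par.red] at hne ⊢
  by_cases hb : b = 0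
  · subst hb
    by_cases hc : c = 0
    · subst hc
      exact S.good_plane p hI fun hh => hne ⟨rfl, rfl, hh.1, hh.2⟩
    · exact S.good_B p hI hc
  · exact S.good_u p hI hη hb

omit [Finite G] hI in
/-- The image of the pair of planes. -/
def Bhom : Multiplicative (ZMod 3 × ZMod 3 × ZMod 3) →* S.Kq p :=
  MonoidHom.mk' (fun a => S.rho p (0, a.toAdd.1, 0, a.toAdd.2.1, a.toAdd.2.2)) fun a b => by
    rw [S.rho_mul]
    congr 1
    simp only [toAdd_mul, Prod.fst_add, Prod.snd_add, Par.tm, Prod.mk.injEq]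
    refine ⟨?_, trivial, ?_, ?_, ?_⟩ <;> ring

omit [Finite G] hI in
theorem card_B : Nat.card (S.Bhom p).range = 3 ^ 3 := by
  rw [← Nat.card_congr (MonoidHom.ofInjective (f := S.Bhom p) ((injective_iff_map_eq_one _).2 fun a ha => by
    obtain ⟨i, hi⟩ := S.rho_eq p (ha.trans (S.rho_one p).symm).symm
    simp only [Par.tm, Par.tb, Prod.mk.injEq] at hi
    obtain ⟨-, h2, h3, h4, h5⟩ := hi
    have hi0 : i = 0 := by
      have : p.θ * i = 0 := by linear_combination -h3
      exact (mul_eq_zero.1 this).resolve_left p.θ_ne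
    subst hi0
    refine Multiplicative.toAdd.injective (Prod.ext ?_ (Prod.ext ?_ ?_)) <;> simp
    · linear_combination h2
    · linear_combination h4
    · linear_combination h5)).toEquiv, Nat.card_congr Multiplicative.toAdd, Nat.card_prod, Nat.card_prod,
    Nat.card_zmod]
  rfl

theorem good_Bhom {y : S.Kq p} (hy : y ∈ (S.Bhom p).range) (hy1 : y ≠ 1) : GoodIn (S.Mq p) y ∧ y ^ 3 = 1 := by
  obtain ⟨a, rfl⟩ := hy
  refine ⟨?_, S.rho_cube_one p (cube_of S p hI (Or.inl rfl))⟩
  show GoodIn _ (S.rho p _)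
  by_cases hc : a.toAdd.1 = 0
  · rw [hc]
    refine S.good_plane p hI fun hh => hy1 ?_
    show S.rho p _ = 1
    rw [hc, hh.1, hh.2, S.rho_one]
  · exact S.good_B p hI hc

/-- Conjugation inside the image keeps the first coordinate up to sign. -/
theorem not_conj_first {g g' : T5} (h : g.1 ≠ g'.1) (h' : -g.1 ≠ g'.1) {a : S.Kq p} (ha : a = S.rho p g)
    (hg : GoodIn (S.Mq p) a) : ¬ IsConj a (S.rho p g') := by
  intro hc
  obtain ⟨m, hm, hme⟩ := hg.mconj (S.rho_mem p g') hc
  rw [mul_inv_eq_iff_eq_mul, ha] at hme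
  obtain ⟨t, rfl | rfl⟩ := S.Mq_cases p hm
  · rw [S.rho_mul, S.rho_mul] at hme
    obtain ⟨i, hi⟩ := S.rho_eq p hme
    simp only [Par.tm, Par.tb, Prod.mk.injEq] at hi
    exact h (by linear_combination -hi.1)
  · rw [mul_assoc, S.nk_flip, ← mul_assoc, ← mul_assoc, mul_left_inj, S.rho_mul, S.rho_mul] at hme
    obtain ⟨i, hi⟩ := S.rho_eq p hme
    simp only [Par.tm, Par.tb, Par.flip, Prod.mk.injEq] at hi
    exact h' (by linear_combination -hi.1)

/-- The count. -/
theorem index_le {ι : Type} [Fintype ι] [DecidableEq ι] (m : ι → ZMod 3) (N : ℕ)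
    (hm : ∀ i, m i ≠ 0) (hmη : p.η = 0 ∨ ∀ i, m i = 1)
    (hnc : ∀ i j, i ≠ j → ¬ IsConj (S.rho p (1, 0, 0, m i, 0)) (S.rho p (1, 0, 0, m j, 0)))
    (hN : ∀ i, cc (S.rho p (1, 0, 0, m i, 0)) ≤ N) :
    27 * Fintype.card ι ^ 2 * (S.Mq p).index ≤
      (S.Mq p).index * (Fintype.card ι * N) + 26 * (Fintype.card ι * (Fintype.card ι * N)) := by
  classical
  set a := fun i => S.rho p (1, 0, 0, m i, 0) with ha
  have hagood : ∀ i, GoodIn (S.Mq p) (a i) := fun i => S.good_nonpure p hI (by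
    rcases hmη with h | h
    · rw [h]; simpa using hm i
    · simpa using hm i)
  have ha3 : ∀ i, a i ^ 3 = 1 := fun i => S.rho_cube_one p (by simp)
  have hC : ∀ i, ∀ e : S.Kq p, e ≠ 1 → e * a i = a i * e → ∀ g, g * e = e * g → g ∈ S.Mq p := by
    intro i e he1 hec g hg
    obtain ⟨t, rfl, htc⟩ := S.mem_cent p (Or.inl (by simp)) ((hagood i).cent hec) hec
    refine GoodIn.cent ?_ hg
    rcases hmη with hη | hm1
    · exact S.good_all p hI hη he1
    · rcases p.hη with hη | hη
      · exact S.good_all p hI hη he1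
      · have hne := S.rho_ne_one p he1
        obtain ⟨b, c, d, x, y⟩ := t
        obtain ⟨j, h1, h2, h3⟩ := p.cm_eqs htc
        rw [hη] at h2
        rw [hη, hm1 i] at h3
        obtain ⟨rfl, hx⟩ := Par.x_eqs p.θ b c d j x p.hθ h1 h2 h3
        rw [← S.rho_red]
        simp only [Par.red, hη] at hne ⊢
        rw [hx] at hne ⊢
        by_cases hb : b = 0
        · subst hb
          exact S.good_plane p hI fun hh => hne ⟨rfl, trivial, hh.1, hh.2⟩
        · exact S.good_nonpure p hI (by simpa using hb)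
  have h := index_bound (S.Mq p) (S.Bhom p).range a (fun _ => 1) hnc (fun i g hg =>
    (hagood i).cent (mem_centralizer_singleton_iff.1 hg)) (fun i => (hagood i).1) (fun _ _ => true)
    (fun i j y hy hy1 g h hg hh hgy => by
      obtain ⟨hyg, hy3⟩ := S.good_Bhom p hI hy hy1
      obtain ⟨b, rfl⟩ := hy
      refine ⟨rfl, (pair_mem (hagood i) (hagood j) (ha3 i) (ha3 j) (hC i) hy3 ?_ (Or.inl hyg) hg hh hgy).1⟩
      refine S.not_conj_first p hI (g := p.tm (1, 0, 0, m i, 0) (1, 0, 0, m i, 0)) ?_ ?_ (S.rho_mul p _ _) ?_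
      · simp only [Par.tm]; decide
      · simp only [Par.tm]; decide
      · rw [show a i * a i = (a i)⁻¹ from eq_inv_of_mul_eq_one_left (by rw [← pow_three']; exact ha3 i)]
        exact (hagood i).inv)
  simp only [one_pow, one_mul, if_true, Finset.sum_const, Finset.card_univ, smul_eq_mul, mul_one,
    S.card_B p] at h
  have hs : ∑ i, cc (a i) ≤ Fintype.card ι * N := by
    refine (Finset.sum_le_sum fun i _ => hN i).trans ?_
    rw [Finset.sum_const, Finset.card_univ, smul_eq_mul]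
  refine le_trans (by norm_num) (h.trans (Nat.add_le_add (Nat.mul_le_mul_left _ hs) ?_))
  norm_num
  exact Nat.mul_le_mul_left _ hs

theorem cc_le {m : ZMod 3} (hm : m ≠ 0) (hmη : p.η = 0 ∨ m = 1) :
    cc (S.rho p (1, 0, 0, m, 0)) ≤ (if p.η = 0 then 27 else 9) := by
  classical
  have hg : GoodIn (S.Mq p) (S.rho p (1, 0, 0, m, 0)) := S.good_nonpure p hI (by
    rcases hmη with h | h
    · rw [h]; simpa using hm
    · subst h; simp)
  have key : ∀ k ∈ centralizer ({S.rho p (1, 0, 0, m, 0)} : Set (S.Kq p)), ∃ t, k = S.rho p t ∧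
      p.Cm (1, 0, 0, m, 0) t := fun k hk => S.mem_cent p (Or.inl (by simp))
    (hg.cent (mem_centralizer_singleton_iff.1 hk)) (mem_centralizer_singleton_iff.1 hk)
  show Nat.card (centralizer ({S.rho p (1, 0, 0, m, 0)} : Set (S.Kq p))) ≤ _
  have hcard : ∀ {α : Type} [Fintype α] (f : α → S.Kq p),
      (∀ k ∈ centralizer ({S.rho p (1, 0, 0, m, 0)} : Set (S.Kq p)), k ∈ Set.range f) →
      Nat.card (centralizer ({S.rho p (1, 0, 0, m, 0)} : Set (S.Kq p))) ≤ Fintype.card α := by
    intro α _ f hf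
    rw [← Nat.card_eq_fintype_card]
    exact (Nat.card_mono (Set.toFinite _) hf).trans (Finite.card_range_le f)
  by_cases hη : p.η = 0
  · rw [if_pos hη]
    refine hcard (fun a : ZMod 3 × ZMod 3 × ZMod 3 => S.rho p (a.1, a.2.1, 0, m * a.1, a.2.2)) fun k hk => ?_
    obtain ⟨⟨b, c, d, x, y⟩, rfl, ht⟩ := key k hk
    obtain ⟨i, -, -, h3⟩ := p.cm_eqs ht
    rw [hη] at h3
    refine ⟨(b, c, y), ?_⟩
    show S.rho p _ = _
    rw [← S.rho_red p (b, c, d, x, y)]
    congr 1
    simp only [Par.red, hη, Prod.mk.injEq]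
    exact ⟨trivial, trivial, trivial, by linear_combination -h3, by ring⟩
  · have hη1 : p.η = 1 := p.hη.resolve_left hη
    have hm1 : m = 1 := hmη.resolve_left hη
    subst hm1
    rw [if_neg hη]
    refine hcard (fun a : ZMod 3 × ZMod 3 => S.rho p (a.1, 0, 0, a.1, a.2)) fun k hk => ?_
    obtain ⟨⟨b, c, d, x, y⟩, rfl, ht⟩ := key k hk
    obtain ⟨i, h1, h2, h3⟩ := p.cm_eqs ht
    rw [hη1] at h2 h3
    obtain ⟨rfl, hx⟩ := Par.x_eqs p.θ b c d i x p.hθ h1 h2 h3
    refine ⟨(b, y - p.η * p.θ * b * d), ?_⟩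
    show S.rho p _ = _
    rw [← S.rho_red p (b, 0, d, x, y)]
    congr 1
    simp only [Par.red, hη1, Prod.mk.injEq]
    exact ⟨trivial, trivial, trivial, hx.symm, trivial⟩

theorem Mq_top : S.Mq p = ⊤ := by
  classical
  rw [← index_eq_one]
  have hpos : 0 < (S.Mq p).index := Nat.pos_of_ne_zero index_ne_zero_of_finite
  have hBM : (S.Bhom p).range ≤ S.Mq p := by
    rintro _ ⟨a, rfl⟩; exact S.rho_mem p _
  by_cases hη : p.η = 0
  · have hb := S.index_le p hI (fun i : Bool => if i then 1 else -1) 27 (fun i => by cases i <;> decide) (Or.inl hη)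
      (fun i j hij hc => by
        have hgood : GoodIn (S.Mq p) (S.rho p (1, 0, 0, (if i then 1 else -1), 0)) :=
          S.good_nonpure p hI (by rw [hη]; cases i <;> simp)
        obtain ⟨mm, hmm, hme⟩ := hgood.mconj (S.rho_mem p _) hc
        rw [mul_inv_eq_iff_eq_mul] at hme
        obtain ⟨t, rfl | rfl⟩ := S.Mq_cases p hmm
        · rw [S.rho_mul, S.rho_mul] at hme
          obtain ⟨k, hk⟩ := S.rho_eq p hme
          simp only [Par.tm, Par.tb, hη, Prod.mk.injEq] at hk
          have h4 : (if i then (1 : ZMod 3) else -1) = if j then 1 else -1 := by linear_combination -hk.2.2.2.1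
          revert h4; cases i <;> cases j <;> first | exact absurd rfl hij | decide
        · rw [mul_assoc, S.nk_flip, ← mul_assoc, ← mul_assoc, mul_left_inj, S.rho_mul, S.rho_mul] at hme
          obtain ⟨k, hk⟩ := S.rho_eq p hme
          simp only [Par.tm, Par.tb, Par.flip, Prod.mk.injEq] at hk
          have h1 : (1 : ZMod 3) = -1 := by linear_combination hk.1
          exact absurd h1 (by decide))
      (fun i => (S.cc_le p hI (by cases i <;> decide) (Or.inl hη)).trans (by rw [if_pos hη]))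
    simp only [Fintype.card_bool] at hb
    let f := fun a : ZMod 3 × ZMod 3 × ZMod 3 × ZMod 3 => S.rho p (a.1, a.2.1, 0, a.2.2.1, a.2.2.2)
    have hall : ∀ t, S.rho p t ∈ Set.range f := fun t =>
      ⟨((p.red t).1, (p.red t).2.1, (p.red t).2.2.2.1, (p.red t).2.2.2.2), S.rho_red p t⟩
    let T : Subgroup (S.Kq p) :=
      { carrier := Set.range f
        one_mem' := by rw [← S.rho_one p]; exact hall _
        mul_mem' := by
          intro x y hx hy
          obtain ⟨a, rfl⟩ := hx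
          obtain ⟨b, rfl⟩ := hy
          show S.rho p _ * S.rho p _ ∈ _
          rw [S.rho_mul]; exact hall _
        inv_mem' := by
          intro x hx
          obtain ⟨a, rfl⟩ := hx
          show (S.rho p _)⁻¹ ∈ _
          rw [inv_eq_of_mul_eq_one_right (b := S.rho p (p.ti _)) (by
            rw [rho, rho, ← map_mul, ← map_one (S.πq p)]
            exact congrArg (S.πq p) (Subtype.ext (show S.Φ (p.U _) * S.Φ (p.U _) = 1 by
              rw [← map_mul, p.U_ti, map_one])))]
          exact hall _ }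
    have hTc : Nat.card T = 3 ^ 4 := by
      show Nat.card (Set.range fun a : ZMod 3 × ZMod 3 × ZMod 3 × ZMod 3 =>
        S.rho p (a.1, a.2.1, 0, a.2.2.1, a.2.2.2)) = _
      rw [Nat.card_range_of_injective, Nat.card_prod, Nat.card_prod, Nat.card_prod, Nat.card_zmod]
      · rfl
      · rintro ⟨a, b, c, d⟩ ⟨a', b', c', d'⟩ e
        obtain ⟨i, hi⟩ := S.rho_eq p e
        simp only [Par.tm, Par.tb, hη, Prod.mk.injEq] at hi
        obtain ⟨h1, h2, h3, h4, h5⟩ := hi
        simp only [Prod.mk.injEq]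
        exact ⟨by linear_combination -h1, by linear_combination -h2, by linear_combination -h4,
          by linear_combination -h5⟩
    haveI : Fact (Nat.Prime 3) := ⟨Nat.prime_three⟩
    have hd := GoodPairs.index_mod (S.Mq p) T (by rintro _ ⟨a, rfl⟩; exact S.rho_mem p _) hTc (j := 0)
      (fun T' hT' hc => by
        haveI : Nontrivial T' := Finite.one_lt_card_iff_nontrivial.1 (by norm_num at hc; omega)
        obtain ⟨⟨k, hk⟩, hne⟩ := exists_ne (1 : T')
        obtain ⟨a, rfl⟩ := hT' hk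
        exact ⟨_, hk, S.good_all p hI hη fun e => hne (Subtype.ext e)⟩)
    obtain ⟨k, hk⟩ := hd
    norm_num at hb hk
    omega
  · have hη1 : p.η = 1 := p.hη.resolve_left hη
    have hb := S.index_le p hI (fun _ : Unit => 1) 9 (fun _ => by decide) (Or.inr fun _ => rfl)
      (fun i j hij => absurd (Subsingleton.elim i j) hij)
      (fun i => (S.cc_le p hI (by decide) (Or.inr rfl)).trans (by rw [if_neg hη]))
    simp only [Fintype.card_unit] at hb
    haveI : Fact (Nat.Prime 3) := ⟨Nat.prime_three⟩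
    have hd := GoodPairs.index_mod (S.Mq p) (S.Bhom p).range hBM (S.card_B p) (j := 0) (fun T' hT' hc => by
      haveI : Nontrivial T' := Finite.one_lt_card_iff_nontrivial.1 (by norm_num at hc; omega)
      obtain ⟨⟨k, hk⟩, hne⟩ := exists_ne (1 : T')
      exact ⟨k, hk, (S.good_Bhom p hI (hT' hk) fun e => hne (Subtype.ext e)).1⟩)
    obtain ⟨k, hk⟩ := hd
    norm_num at hb hk
    omega

/-- The centralizer lies in the image. -/
theorem cent_bel : centralizer ({S.Φ p.bel} : Set G) ≤ S.P := fun g hg =>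
  (S.mem_Mq p (h := ⟨g, hg⟩)).1 (by rw [S.Mq_top p hI]; exact mem_top _)

theorem good_bel : GoodIn S.P (S.Φ p.bel) :=
  S.good_of_cent hI ⟨_, rfl⟩ (by rw [← map_pow, bel_cube, map_one]) (S.cent_bel p hI)

end Std

end CfsgLib.L43Rec
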