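import Cfsg.Agent.Lib.L43Rec.OneCent

/-!
When the plane is strongly closed, the group is the point stabilizer.
-/

set_option autoImplicit false

namespace CfsgLib.L43Rec

open Subgroup Matrix CfsgLib.GoodPairs CfsgLib.PositiveBound

universe u

theorem plane_u_conj : ∀ i j : ZMod 3, j ≠ 0 →
    (cel (i * j) 0 0 0 0 1 * cel 0 0 0 j 0 1).1.1 = (cel 0 0 i j 0 1 * cel (i * j) 0 0 0 0 1).1.1 := by decide +kernel

theorem shift_conj : ∀ t a3 : ZMod 3,
    (cel a3 0 0 0 0 1 * cel 0 t 0 1 0 1).1.1 = (cel 0 t a3 1 0 1 * cel a3 0 0 0 0 1).1.1 := by decide +kernel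

theorem pure_orbit : ∀ v : V4, dt v = 0 → v.2.2 ≠ (0, 0) → ∃ W : SL23, ∃ t : ZMod 3, act W v = (t, 0, 1, 0) := by
  decide +kernel

theorem neg_pure : (cel 0 (-1) 0 1 0 1).1.1 * (cel 0 1 0 (-1) 0 1).1.1 = 1 := by decide +kernel

theorem upW_mul (l m : ZMod 3) : Par.upW l * Par.upW m = Par.upW (l + m) := by
  refine Subtype.ext ?_
  rw [Matrix.SpecialLinearGroup.coe_mul]
  ext i j
  fin_cases i <;> fin_cases j <;> simp [Par.upW, add_comm]

theorem upW_zero : Par.upW 0 = 1 := by decide +kernel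

theorem upW_one : Par.upW 1 = mU := by decide +kernel

theorem vel_shift : ∀ k j : ZMod 3, ∃ p q r : ZMod 3,
    (cel p q 0 0 r 1 * vel).1.1 = (cel 0 0 k j 1 (Par.upW 1) * cel p q 0 0 r 1).1.1 := by decide +kernel

theorem vel_inv : ∀ k j : ZMod 3, ∃ k' j' : ZMod 3,
    (cel 0 0 k' j' 1 (Par.upW 1)).1.1 * (cel 0 0 k j (-1) (Par.upW (-1))).1.1 = 1 := by decide +kernel

theorem vel_split : ∀ k j l : ZMod 3, ∃ j' : ZMod 3,
    (cel 0 0 k j l (Par.upW l)).1.1 = (vel.1.1 ^ l.val) * (cel 0 0 k j' 0 1).1.1 := by decide +kernel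

theorem vel_ab : ∀ k j l k' j' l' : ZMod 3, (cel 0 0 k j l (Par.upW l)).1.1 * (cel 0 0 k' j' l' (Par.upW l')).1.1 =
    (cel 0 0 k' j' l' (Par.upW l')).1.1 * (cel 0 0 k j l (Par.upW l)).1.1 := by decide +kernel

theorem cel_zu : ∀ i j i' j' : ZMod 3,
    (cel 0 0 i j 0 1).1.1 * (cel 0 0 i' j' 0 1).1.1 = (cel 0 0 (i + i') (j + j') 0 1).1.1 := by decide +kernel

theorem cel_zero : (cel 0 0 0 0 0 1).1.1 = (1 : Ph0).1.1 := by decide +kernel

theorem cube_vel : vel.1.1 * vel.1.1 * vel.1.1 = 1 := by decide +kernel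

theorem wel_cent : ∀ a1 a2 a3 c1 c2 : ZMod 3,
    (cel a1 a2 a3 c1 c2 1).1.1 * wel.1.1 = wel.1.1 * (cel a1 a2 a3 c1 c2 1).1.1 → c1 = a1 := by decide +kernel

/-- A block permutation on the last two vectors. -/
def kel (W : SL23) : Ph0 := mk0 ⟨!![1, 0, 0; 0, W.1 0 0, W.1 0 1; 0, W.1 1 0, W.1 1 1], by
  have := W.2
  rw [Matrix.det_fin_two] at this
  rw [Matrix.det_fin_three]
  simpa using this⟩ 0

theorem B_move : ∀ x c : ZMod 3, x ≠ 0 → ∃ W : SL23, ∀ a2 a3 : ZMod 3, ∃ b2 b3 d : ZMod 3,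
    (kel W).1.1 * (cel 0 a2 a3 c 0 (Par.upW x)).1.1 = (cel 0 b2 b3 d 0 1).1.1 * (kel W).1.1 := by decide +kernel

theorem B_sq : ∀ a2 a3 c x : ZMod 3,
    ((cel 0 a2 a3 c 0 (Par.upW x)).1.1 - 1) * ((cel 0 a2 a3 c 0 (Par.upW x)).1.1 - 1) = 0 := by decide +kernel

theorem wv_sq : ((wel * wel).1.1 - 1) * ((wel * wel).1.1 - 1) ≠ 0 ∧ ((vel * vel).1.1 - 1) * ((vel * vel).1.1 - 1) ≠ 0 := by
  decide +kernel

theorem B_val (a b c x : ZMod 3) :
    (cel 0 a b c 0 (Par.upW x)).1.1 = !![1, 0, a, b; 0, 1, x, c; 0, 0, 1, 0; 0, 0, 0, 1] := by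
  ext i j
  fin_cases i <;> fin_cases j <;> rfl

theorem B_mul (a b c x a' b' c' x' : ZMod 3) :
    cel 0 a b c 0 (Par.upW x) * cel 0 a' b' c' 0 (Par.upW x') =
      cel 0 (a + a') (b + b') (c + c') 0 (Par.upW (x + x')) := by
  refine Par.ph_ext ?_
  rw [Subgroup.coe_mul, Matrix.SpecialLinearGroup.coe_mul, B_val, B_val, B_val]
  ext i j
  fin_cases i <;> fin_cases j <;> simp [Matrix.mul_apply, Fin.sum_univ_four, add_comm]

theorem B_one : cel 0 0 0 0 0 (Par.upW 0) = 1 := Par.ph_ext (by decide +kernel)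

/-- Elements centralizing the regular element. -/
theorem vel_cases {g : Ph0} (hg : g * vel = vel * g) : ∃ k j l : ZMod 3, g = cel 0 0 k j l (Par.upW l) := by
  have h : g.1.1 * vel.1.1 = vel.1.1 * g.1.1 := congrArg (fun g : Ph0 => g.1.1) hg
  have hv : vel.1.1 = !![1, 0, 0, 0; 0, 1, 1, 0; 0, 0, 1, 1; 0, 0, 0, 1] := by decide +kernel
  obtain ⟨g00, g10, g20, g30⟩ := g.2
  have hd : (pMm g.1).det = 1 := pMm_det g.2
  rw [hv] at h
  have e11 := congrFun (congrFun h 1) 1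
  have e21 := congrFun (congrFun h 2) 1
  have e12 := congrFun (congrFun h 1) 2
  have e13 := congrFun (congrFun h 1) 3
  have e22 := congrFun (congrFun h 2) 2
  have e23 := congrFun (congrFun h 2) 3
  have e02 := congrFun (congrFun h 0) 2
  have e03' := congrFun (congrFun h 0) 3
  simp [Matrix.mul_apply, Fin.sum_univ_four, g00, g10, g20, g30] at e11 e21 e12 e13 e22 e23 e02 e03'
  have k21 : g.1.1 2 1 = 0 := e11
  have k31 : g.1.1 3 1 = 0 := e21
  have k32 : g.1.1 3 2 = 0 := by linear_combination k21 - e22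
  have k22 : g.1.1 2 2 = g.1.1 1 1 := by linear_combination -e12
  have k23 : g.1.1 2 3 = g.1.1 1 2 := by linear_combination -e13
  have k33 : g.1.1 3 3 = g.1.1 1 1 := by linear_combination k22 - e23
  have k01 : g.1.1 0 1 = 0 := e02
  have k02 : g.1.1 0 2 = 0 := e03'
  rw [Matrix.det_fin_three] at hd
  simp only [pMm, show ((2 : Fin 3).succ : Fin 4) = 3 from rfl, show ((1 : Fin 3).succ : Fin 4) = 2 from rfl,
    show ((0 : Fin 3).succ : Fin 4) = 1 from rfl, k21, k31, k32, k33, k22] at hd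
  have k11 : g.1.1 1 1 = 1 := by
    ring_nf at hd
    revert hd
    generalize g.1.1 1 1 = x
    revert x
    decide
  rw [k11] at k22 k33
  refine ⟨g.1.1 0 3, g.1.1 1 3, g.1.1 1 2, Par.ph_ext ?_⟩
  ext i j
  fin_cases i <;> fin_cases j <;> first | rfl | assumption | exact k11.trans rfl | exact k22.trans rfl

namespace Std

variable {G : Type u} [Group G] (S : Std G)

/-- Square zero is preserved by conjugation within the image. -/
theorem sq_zero {a y : Ph0} (hy : (y.1.1 - 1) * (y.1.1 - 1) = 0) (hc : MConj S.P (S.Φ a) (S.Φ y)) :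
    (a.1.1 - 1) * (a.1.1 - 1) = 0 := by
  obtain ⟨_, ⟨m, rfl⟩, hm⟩ := hc
  rw [mul_inv_eq_iff_eq_mul, ← map_mul, ← map_mul] at hm
  have h : m.1.1 * a.1.1 = y.1.1 * m.1.1 := congrArg (fun g : Ph0 => g.1.1) (S.inj hm)
  have h1 : m.1.1 * ((a.1.1 - 1) * (a.1.1 - 1)) = 0 := by
    have e : m.1.1 * (a.1.1 - 1) = (y.1.1 - 1) * m.1.1 := by rw [mul_sub, sub_mul, h, mul_one, one_mul]
    rw [← mul_assoc, e, mul_assoc, e, ← mul_assoc, hy, zero_mul]
  have hi : (m⁻¹).1.1 * m.1.1 = 1 := by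
    have := congrArg (fun g : Ph0 => g.1.1) (inv_mul_cancel m)
    rw [Subgroup.coe_mul, Matrix.SpecialLinearGroup.coe_mul] at this
    exact this.trans rfl
  calc (a.1.1 - 1) * (a.1.1 - 1) = (m⁻¹).1.1 * m.1.1 * ((a.1.1 - 1) * (a.1.1 - 1)) := by rw [hi, one_mul]
    _ = 0 := by rw [mul_assoc, h1, mul_zero]

variable [Finite G] (hI : S.CaseOne)
include hI

theorem good_pair {i j : ZMod 3} (hj : j ≠ 0) : GoodIn S.P (S.Φ (cel 0 0 i j 0 1)) := by
  have key : ∀ x : ZMod 3, x ≠ 0 → x = 1 ∨ x = -1 := by decide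
  have h : GoodIn S.P (S.Φ (cel 0 0 0 j 0 1)) := S.good_bel ⟨0, j, key j hj, Or.inl rfl⟩ hI
  have := h.conj (m := S.Φ (cel (i * j) 0 0 0 0 1)) ⟨_, rfl⟩
  rwa [← map_mul, S.eq_of (plane_u_conj i j hj), map_mul, mul_inv_cancel_right] at this

theorem good_t (t a3 : ZMod 3) : GoodIn S.P (S.Φ (cel 0 t a3 1 0 1)) := by
  have h : GoodIn S.P (S.Φ (cel 0 t 0 1 0 1)) := by
    have key : ∀ x : ZMod 3, x = 0 ∨ x = 1 ∨ x = -1 := by decide
    rcases key t with rfl | rfl | rfl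
    · exact S.good_bel ⟨0, 1, Or.inl rfl, Or.inl rfl⟩ hI
    · exact S.good_bel ⟨1, 1, Or.inl rfl, Or.inr rfl⟩ hI
    · have := (S.good_bel ⟨1, -1, Or.inr rfl, Or.inr rfl⟩ hI).inv
      rwa [show (S.Φ (Par.bel ⟨1, -1, Or.inr rfl, Or.inr rfl⟩))⁻¹ = S.Φ (cel 0 (-1) 0 1 0 1) from
        inv_eq_of_mul_eq_one_left (by
          rw [← map_mul, ← map_one S.Φ]
          exact S.eq_of neg_pure)] at this
  have := h.conj (m := S.Φ (cel a3 0 0 0 0 1)) ⟨_, rfl⟩
  rwa [← map_mul, S.eq_of (shift_conj t a3), map_mul, mul_inv_cancel_right] at this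

/-- All elements of the core. -/
theorem good_Q {q : G} (hq : q ∈ S.D.Q) (hq1 : q ≠ 1) : GoodIn S.P q := by
  have hqP : q ∈ S.P := S.Ct_le (S.D.Q_le_Ct hq)
  by_cases hd : dt (S.F.cd q) = 0
  · by_cases hp : (S.F.cd q).2.2 = (0, 0)
    · exact S.plane_good hI ⟨hq, hp⟩ hq1
    · obtain ⟨W, t, hW⟩ := pure_orbit _ hd hp
      set m := S.Φ (cel 0 0 0 0 0 W)
      have hmC : m ∈ S.D.Ct := S.cel_Ct _ _ _ _ _ _
      have hx : m * q * m⁻¹ ∈ S.D.Q := S.D.conj_Q hmC hq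
      obtain ⟨a1, a2, a3, c1, c2, e, hv⟩ := S.exists_of_Q hx
      rw [S.F.cd_act ⟨m, hmC⟩ _ hq, S.cel_φ, hW] at hv
      simp only [Prod.mk.injEq] at hv
      obtain ⟨rfl, h1, rfl, rfl⟩ := hv
      obtain rfl : a1 = 0 := by linear_combination h1
      have := (S.good_t hI t a3).conj (m := m⁻¹) (inv_mem ⟨_, rfl⟩)
      rwa [e, inv_inv, show m⁻¹ * (m * q * m⁻¹) * m = q by group] at this
  · exact S.good_of_cent hI hqP (S.D.Q_exp _ hq) (S.nonpure_le hI ⟨hq, hd⟩)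

omit [Finite G] hI in
theorem vel_cube : S.Φ vel ^ 3 = 1 := by
  rw [pow_three', ← map_mul, ← map_mul, ← map_one S.Φ]
  exact S.eq_of cube_vel

/-- The centralizer of the regular element. -/
theorem cent_vel : centralizer ({S.Φ vel} : Set G) ≤ S.P := by
  classical
  set H := centralizer ({S.Φ vel} : Set G) with hH
  set P : Subgroup H := S.P.subgroupOf H with hP
  have hcases : ∀ x ∈ P, ∃ k j l, (x : G) = S.Φ (cel 0 0 k j l (Par.upW l)) := by
    rintro x ⟨g, hg⟩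
    obtain ⟨k, j, l, rfl⟩ := vel_cases (g := g) (S.inj (by
      rw [map_mul, map_mul]
      exact hg.symm ▸ mem_centralizer_singleton_iff.1 x.2))
    exact ⟨k, j, l, hg.symm⟩
  have hmem : ∀ i j, S.Φ (cel 0 0 i j 0 1) ∈ H := fun i j => by
    rw [hH, mem_centralizer_singleton_iff, ← map_mul, ← map_mul]
    refine S.eq_of ?_
    have := vel_ab i j 0 0 0 1
    rw [upW_zero, upW_one] at this
    exact this
  have hvH : S.Φ vel ∈ H := mem_centralizer_singleton_iff.2 rfl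
  have h3 : ∀ i j, S.Φ (cel 0 0 i j 0 1) ^ 3 = 1 := fun i j => S.D.Q_exp _ (S.cel_Q _ _ _ _ _).1
  have hzplane : S.Φ (cel 0 0 1 0 0 1) = S.D.z := by
    rw [← S.Φ_z]; exact S.eq_of (by decide +kernel)
  have hgood : ∀ i j, ¬(i = 0 ∧ j = 0) → GoodTransfer.Good 3 P ⟨_, hmem i j⟩ := fun i j h => by
    have hg : GoodIn S.P (S.Φ (cel 0 0 i j 0 1)) := by
      by_cases hj : j = 0
      · subst hj
        refine S.plane_good hI ⟨(S.cel_Q 0 0 i 0 0).1, by rw [(S.cel_Q 0 0 i 0 0).2]⟩ fun e => ?_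
        have key : ∀ i : ZMod 3, (cel 0 0 i 0 0 1).1.1 = (1 : Ph0).1.1 → i = 0 := by decide +kernel
        exact h ⟨key i (congrArg (fun g : Ph0 => g.1.1) (S.inj (e.trans (map_one S.Φ).symm))), rfl⟩
      · exact S.good_pair hI hj
    exact ⟨hg.1, Subtype.ext (h3 i j), fun g hh => hg.2 _ hh⟩
  let φ : Multiplicative (ZMod 3 × ZMod 3) →* H := MonoidHom.mk' (fun a => ⟨_, hmem a.toAdd.1 a.toAdd.2⟩)
    (fun a b => Subtype.ext (by
      show S.Φ _ = S.Φ _ * S.Φ _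
      rw [← map_mul]
      exact (S.eq_of (cel_zu _ _ _ _)).symm))
  have hφi : Function.Injective φ := by
    rw [injective_iff_map_eq_one]
    intro a ha
    have key : ∀ i j : ZMod 3, (cel 0 0 i j 0 1).1.1 = (1 : Ph0).1.1 → i = 0 ∧ j = 0 := by decide +kernel
    obtain ⟨h1, h2⟩ := key _ _ (congrArg (fun g : Ph0 => g.1.1)
      (S.inj ((congrArg Subtype.val ha).trans (map_one S.Φ).symm)))
    exact Multiplicative.toAdd.injective (Prod.ext h1 h2)
  haveI : IsMulCommutative φ.range := ⟨⟨by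
    rintro ⟨_, a, rfl⟩ ⟨_, b, rfl⟩
    exact Subtype.ext (by show φ a * φ b = φ b * φ a; rw [← map_mul, ← map_mul, mul_comm])⟩⟩
  have hab : ∀ a ∈ P, ∀ b ∈ P, a * b = b * a := by
    intro a ha b hb
    obtain ⟨k, j, l, ea⟩ := hcases a ha
    obtain ⟨k', j', l', eb⟩ := hcases b hb
    refine Subtype.ext ?_
    rw [Subgroup.coe_mul, Subgroup.coe_mul, ea, eb, ← map_mul, ← map_mul]
    exact S.eq_of (vel_ab _ _ _ _ _ _)
  haveI : Fact (Nat.Prime 3) := ⟨Nat.prime_three⟩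
  have hPtop : P = ⊤ := by
    refine GoodTransfer.eq_top (z := ⟨_, hmem 1 0⟩) (hgood 1 0 fun h => one_ne_zero h.1) P le_rfl ?_
      (fun T hT _ a ha b hb => hab a (hT ha) b (hT hb)) (Or.inr fun t ht => ⟨ht, fun htc => ?_⟩) ?_ φ.range ?_ ?_ ?_
    · intro x hx
      obtain ⟨k, j, l, e⟩ := hcases x hx
      obtain ⟨j', hj⟩ := vel_split k j l
      have : x = ⟨_, hvH⟩ ^ l.val * ⟨_, hmem k j'⟩ := Subtype.ext (by
        rw [e, Subgroup.coe_mul, SubgroupClass.coe_pow, ← map_pow, ← map_mul]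
        refine S.eq_of ?_
        rw [hj, Subgroup.coe_mul, Matrix.SpecialLinearGroup.coe_mul, SubgroupClass.coe_pow,
          Matrix.SpecialLinearGroup.coe_pow])
      rw [this]
      have hvg : (⟨S.Φ vel, hvH⟩ : H) ∈ {a : H | GoodTransfer.Good 3 P a ∨
          (a ∈ P ∧ a ^ 3 = 1 ∧ ∀ h : H, h * a = a * h)} :=
        Or.inr ⟨⟨vel, rfl⟩, Subtype.ext S.vel_cube, fun h => Subtype.ext (mem_centralizer_singleton_iff.1 h.2)⟩
      refine Subgroup.mul_mem _ (Subgroup.pow_mem _ (Subgroup.subset_closure hvg) _) ?_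
      by_cases h : k = 0 ∧ j' = 0
      · rw [show (⟨_, hmem k j'⟩ : H) = 1 from Subtype.ext (by
          rw [h.1, h.2]; exact (congrArg S.Φ (Par.ph_ext cel_zero)).trans (map_one S.Φ))]
        exact one_mem _
      · exact Subgroup.subset_closure (Or.inl (hgood k j' h))
    · have hb : ⁅P, P⁆ = ⊥ := by
        rw [commutator_eq_bot_iff_le_centralizer]
        exact fun a ha => mem_centralizer_iff.2 fun b hb => hab b hb a ha
      rw [hb, mem_bot] at htc; exact htc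
    · intro x
      refine ⟨1, Subtype.ext ?_⟩
      obtain ⟨k, j, l, e⟩ := hcases x x.2
      obtain ⟨j', hj⟩ := vel_split k j l
      refine Subtype.ext ?_
      show ((x : H) : G) ^ (3 ^ 1) = 1
      rw [e, show S.Φ (cel 0 0 k j l (Par.upW l)) = S.Φ vel ^ l.val * S.Φ (cel 0 0 k j' 0 1) by
        rw [← map_pow, ← map_mul]
        refine S.eq_of ?_
        rw [hj, Subgroup.coe_mul, Matrix.SpecialLinearGroup.coe_mul, SubgroupClass.coe_pow,
          Matrix.SpecialLinearGroup.coe_pow]]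
      have hc : Commute (S.Φ vel) (S.Φ (cel 0 0 k j' 0 1)) := (mem_centralizer_singleton_iff.1 (hmem k j')).symm
      rw [pow_one, (hc.pow_left _).mul_pow, h3, mul_one, ← pow_mul, mul_comm, pow_mul, S.vel_cube, one_pow]
    · rintro _ ⟨a, rfl⟩; exact ⟨_, rfl⟩
    · intro hc
      have h9 : Nat.card φ.range = 9 := by
        rw [← Nat.card_congr (MonoidHom.ofInjective hφi).toEquiv,
          Nat.card_congr Multiplicative.toAdd, Nat.card_prod, Nat.card_zmod]
      have h := hc.exponent_eq_card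
      have he : Monoid.exponent φ.range ∣ 3 := Monoid.exponent_dvd_of_forall_pow_eq_one fun x => by
        obtain ⟨_, a, rfl⟩ := x
        exact Subtype.ext (Subtype.ext (h3 _ _))
      rw [h, h9] at he
      omega
    · rintro _ ⟨a, rfl⟩ hne
      exact hgood _ _ fun h => hne (by
        rw [show a = 1 from Multiplicative.toAdd.injective (Prod.ext h.1 h.2), map_one])
  intro g hg
  have : (⟨g, hg⟩ : H) ∈ P := hPtop ▸ mem_top _
  exact this

theorem good_vel : GoodIn S.P (S.Φ vel) := S.good_of_cent hI ⟨_, rfl⟩ S.vel_cube (S.cent_vel hI)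

theorem good_V {k j l : ZMod 3} (h : S.Φ (cel 0 0 k j l (Par.upW l)) ≠ 1) :
    GoodIn S.P (S.Φ (cel 0 0 k j l (Par.upW l))) := by
  have hone : ∀ k j, GoodIn S.P (S.Φ (cel 0 0 k j 1 (Par.upW 1))) := fun k j => by
    obtain ⟨p, q, r, e⟩ := vel_shift k j
    have := (S.good_vel hI).conj (m := S.Φ (cel p q 0 0 r 1)) ⟨_, rfl⟩
    rwa [← map_mul, S.eq_of e, map_mul, mul_inv_cancel_right] at this
  have key : ∀ x : ZMod 3, x = 0 ∨ x = 1 ∨ x = -1 := by decide
  rcases key l with rfl | rfl | rfl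
  · rw [upW_zero] at h ⊢
    exact S.good_Q hI (S.cel_Q _ _ _ _ _).1 h
  · exact hone k j
  · obtain ⟨k', j', e⟩ := vel_inv k j
    have := (hone k' j').inv
    rwa [inv_eq_of_mul_eq_one_right (b := S.Φ (cel 0 0 k j (-1) (Par.upW (-1)))) (by
      rw [← map_mul, ← map_one S.Φ]; exact S.eq_of e)] at this

/-- The two elements used for counting. -/
def ael : Bool → Ph0
  | true => wel
  | false => vel

omit [Finite G] hI in
theorem ael_cube (b : Bool) : S.Φ (ael b) ^ 3 = 1 := by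
  cases b
  · exact S.vel_cube
  · exact S.D.Q_exp _ S.wel_cd.1

theorem good_ael (b : Bool) : GoodIn S.P (S.Φ (ael b)) := by
  cases b
  · exact S.good_vel hI
  · refine S.good_Q hI S.wel_cd.1 fun e => ?_
    have key : wel.1.1 ≠ (1 : Ph0).1.1 := by decide +kernel
    exact key (congrArg (fun g : Ph0 => g.1.1) (S.inj (e.trans (map_one S.Φ).symm)))

theorem hC_ael (b : Bool) : ∀ e : G, e ≠ 1 → e * S.Φ (ael b) = S.Φ (ael b) * e → ∀ g, g * e = e * g → g ∈ S.P := by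
  intro e he1 hec g hg
  cases b
  · obtain ⟨g', hg'⟩ := S.cent_vel hI (mem_centralizer_singleton_iff.2 hec)
    obtain ⟨k, j, l, rfl⟩ := vel_cases (g := g') (S.inj (by rw [map_mul, map_mul, hg']; exact hec))
    subst hg'
    exact (S.good_V hI he1).cent hg
  · have hdt : S.Nonpure (S.Φ wel) := ⟨S.wel_cd.1, by rw [S.wel_cd.2]; decide⟩
    exact (S.good_Q hI (S.centW (S.hplane hI) hdt (mem_centralizer_singleton_iff.2 hec)) he1).cent hg

omit [Finite G] hI in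
/-- The group of block transvections. -/
def B81 : Subgroup G where
  carrier := Set.range fun a : ZMod 3 × ZMod 3 × ZMod 3 × ZMod 3 => S.Φ (cel 0 a.1 a.2.1 a.2.2.1 0 (Par.upW a.2.2.2))
  one_mem' := ⟨(0, 0, 0, 0), (congrArg S.Φ B_one).trans (map_one S.Φ)⟩
  mul_mem' := by
    intro x y hx hy
    obtain ⟨a, rfl⟩ := hx
    obtain ⟨b, rfl⟩ := hy
    exact ⟨a + b, ((map_mul S.Φ _ _).symm.trans (congrArg S.Φ (B_mul _ _ _ _ _ _ _ _))).symm⟩
  inv_mem' := by
    intro x hx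
    obtain ⟨a, rfl⟩ := hx
    refine ⟨-a, ?_⟩
    show S.Φ _ = (S.Φ _)⁻¹
    rw [eq_inv_iff_mul_eq_one, ← map_mul, B_mul, ← map_one S.Φ, ← B_one]
    simp

omit [Finite G] hI in
theorem card_B81 : Nat.card S.B81 = 81 := by
  show Nat.card (Set.range fun a : ZMod 3 × ZMod 3 × ZMod 3 × ZMod 3 =>
    S.Φ (cel 0 a.1 a.2.1 a.2.2.1 0 (Par.upW a.2.2.2))) = 81
  rw [Nat.card_range_of_injective, Nat.card_prod, Nat.card_prod, Nat.card_prod, Nat.card_zmod]
  intro a b e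
  have e' := congrArg (fun g : Ph0 => g.1.1) (S.inj e)
  exact Prod.ext (congrFun (congrFun e' 0) 2) (Prod.ext (congrFun (congrFun e' 0) 3)
    (Prod.ext (congrFun (congrFun e' 1) 3) (congrFun (congrFun e' 1) 2)))

theorem good_B81 {y : G} (hy : y ∈ S.B81) (hy1 : y ≠ 1) : GoodIn S.P y := by
  obtain ⟨⟨a2, a3, c, x⟩, rfl⟩ := hy
  by_cases hx : x = 0
  · subst hx
    simp only [upW_zero] at hy1 ⊢
    exact S.good_Q hI (S.cel_Q _ _ _ _ _).1 hy1
  · obtain ⟨W, hW⟩ := B_move x c hx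
    obtain ⟨b2, b3, d, e⟩ := hW a2 a3
    have e' : S.Φ (kel W) * S.Φ (cel 0 a2 a3 c 0 (Par.upW x)) = S.Φ (cel 0 b2 b3 d 0 1) * S.Φ (kel W) := by
      rw [← map_mul, ← map_mul]; exact S.eq_of e
    have hg : GoodIn S.P (S.Φ (cel 0 b2 b3 d 0 1)) := S.good_Q hI (S.cel_Q _ _ _ _ _).1 fun h => hy1 (by
      rw [h, one_mul] at e'
      exact mul_left_cancel (e'.trans (mul_one _).symm))
    have := hg.conj (m := (S.Φ (kel W))⁻¹) (inv_mem ⟨_, rfl⟩)
    rwa [inv_inv, mul_assoc, ← e', inv_mul_cancel_left] at this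

omit [Finite G] hI in
/-- The unipotent group. -/
def U729 : Subgroup G where
  carrier := {x | ∃ h : x ∈ S.D.Ct, ∃ l, S.D.φ ⟨x, h⟩ = Par.upW l}
  one_mem' := ⟨one_mem _, 0, by rw [upW_zero]; exact map_one S.D.φ⟩
  mul_mem' := by
    rintro x y ⟨hx, l, el⟩ ⟨hy, m, em⟩
    refine ⟨mul_mem hx hy, l + m, ?_⟩
    rw [show (⟨x * y, mul_mem hx hy⟩ : S.D.Ct) = ⟨x, hx⟩ * ⟨y, hy⟩ from rfl, map_mul, el, em, upW_mul]
  inv_mem' := by
    rintro x ⟨hx, l, el⟩
    refine ⟨inv_mem hx, -l, ?_⟩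
    rw [show (⟨x⁻¹, inv_mem hx⟩ : S.D.Ct) = ⟨x, hx⟩⁻¹ from rfl, map_inv, el, inv_eq_iff_mul_eq_one, upW_mul,
      add_neg_cancel, upW_zero]

omit [Finite G] hI in
theorem card_U729 : Nat.card S.U729 = 3 ^ 6 := by
  let f : ZMod 3 × ZMod 3 × ZMod 3 × ZMod 3 × ZMod 3 × ZMod 3 → S.U729 := fun a =>
    ⟨S.Φ (cel a.1 a.2.1 a.2.2.1 a.2.2.2.1 a.2.2.2.2.1 (Par.upW a.2.2.2.2.2)), S.cel_Ct _ _ _ _ _ _, _, S.cel_φ _ _ _ _ _ _⟩
  have hf : Function.Bijective f := by
    constructor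
    · intro a b e
      have e' := congrArg (fun g : Ph0 => g.1.1) (S.inj (congrArg Subtype.val e))
      exact Prod.ext (congrFun (congrFun e' 0) 1) (Prod.ext (congrFun (congrFun e' 0) 2)
        (Prod.ext (congrFun (congrFun e' 0) 3) (Prod.ext (congrFun (congrFun e' 1) 3)
          (Prod.ext (congrFun (congrFun e' 2) 3) (congrFun (congrFun e' 1) 2)))))
    · rintro ⟨x, hx, l, el⟩
      obtain ⟨a1, a2, a3, c1, c2, W, e, hW⟩ := S.exists_cel_of hx
      rw [el] at hW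
      subst hW
      exact ⟨(a1, a2, a3, c1, c2, l), Subtype.ext e⟩
  rw [← Nat.card_eq_of_bijective f hf]
  simp [Nat.card_prod, Nat.card_zmod]

theorem not_conj_wv : ¬ IsConj (S.Φ wel) (S.Φ vel) := by
  intro hc
  obtain ⟨_, ⟨m, rfl⟩, hm⟩ := (S.good_ael hI true).mconj (⟨vel, rfl⟩ : S.Φ vel ∈ S.P) hc
  rw [mul_inv_eq_iff_eq_mul] at hm
  have h : S.Φ (m * (wel * wel)) = S.Φ (vel * vel * m) := by
    simp only [map_mul]
    rw [show S.Φ (ael true) = S.Φ wel from rfl] at hm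
    rw [← mul_assoc, hm, mul_assoc, hm, mul_assoc]
  have h' := congrArg (fun g : Ph0 => g.1.1) (S.inj h)
  obtain ⟨m00, m10, m20, m30⟩ := m.2
  have e03 := congrFun (congrFun h' 0) 3
  have hw : (wel * wel).1.1 = !![1, 2, 0, 1; 0, 1, 0, 2; 0, 0, 1, 0; 0, 0, 0, 1] := by decide +kernel
  have hv : (vel * vel).1.1 = !![1, 0, 0, 0; 0, 1, 2, 1; 0, 0, 1, 2; 0, 0, 0, 1] := by decide +kernel
  have e01 := congrFun (congrFun h' 0) 1
  simp only [Subgroup.coe_mul, Matrix.SpecialLinearGroup.coe_mul] at e03 e01 hw hv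
  simp [hw, hv, Matrix.mul_apply, Fin.sum_univ_four, m00] at e03 e01
  exact absurd e01 (by decide)

theorem cc_ael (b : Bool) : cc (S.Φ (ael b)) ≤ if b then 81 else 27 := by
  classical
  show Nat.card (centralizer ({S.Φ (ael b)} : Set G)) ≤ _
  have hcard : ∀ {α : Type} [Fintype α] (f : α → G),
      (∀ k ∈ centralizer ({S.Φ (ael b)} : Set G), k ∈ Set.range f) →
      Nat.card (centralizer ({S.Φ (ael b)} : Set G)) ≤ Fintype.card α := by
    intro α _ f hf
    rw [← Nat.card_eq_fintype_card]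
    exact (Nat.card_mono (Set.toFinite _) hf).trans (Finite.card_range_le f)
  cases b
  · refine hcard (fun a : ZMod 3 × ZMod 3 × ZMod 3 => S.Φ (cel 0 0 a.1 a.2.1 a.2.2 (Par.upW a.2.2))) fun g hg => ?_
    obtain ⟨g', rfl⟩ := S.cent_vel hI hg
    obtain ⟨k, j, l, rfl⟩ := vel_cases (g := g') (S.inj (by
      rw [map_mul, map_mul]; exact mem_centralizer_singleton_iff.1 hg))
    exact ⟨(k, j, l), rfl⟩
  · refine hcard (fun a : ZMod 3 × ZMod 3 × ZMod 3 × ZMod 3 => S.Φ (cel a.1 a.2.1 a.2.2.1 a.1 a.2.2.2 1))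
      fun g hg => ?_
    have hdt : S.Nonpure (S.Φ wel) := ⟨S.wel_cd.1, by rw [S.wel_cd.2]; decide⟩
    obtain ⟨a1, a2, a3, c1, c2, rfl, -⟩ := S.exists_of_Q (S.centW (S.hplane hI) hdt hg)
    have h := mem_centralizer_singleton_iff.1 hg
    rw [show S.Φ (ael true) = S.Φ wel from rfl, ← map_mul, ← map_mul] at h
    have := wel_cent a1 a2 a3 c1 c2 (congrArg (fun g : Ph0 => g.1.1) (S.inj h))
    refine ⟨(a1, a2, a3, c2), ?_⟩
    show S.Φ (cel a1 a2 a3 a1 c2 1) = _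
    rw [this]

/-- The conclusion. -/
theorem P_eq_top : S.P = ⊤ := by
  classical
  haveI : Fact (Nat.Prime 3) := ⟨Nat.prime_three⟩
  rw [← index_eq_one]
  have hd := GoodPairs.index_mod S.P S.U729 (fun x hx => S.Ct_le hx.1) S.card_U729 (j := 1) (fun T hT hc => by
    obtain ⟨x, y, hxy, e⟩ : ∃ x y : T, x ≠ y ∧ S.D.φ ⟨_, (hT x.2).1⟩ = S.D.φ ⟨_, (hT y.2).1⟩ := by
      by_contra hne
      push Not at hne
      have hinj : Function.Injective (fun x : T => (S.D.φ ⟨_, (hT x.2).1⟩).1 0 1) := by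
        intro x y e
        by_contra hxy
        refine hne x y hxy ?_
        obtain ⟨_, l, el⟩ := hT x.2
        obtain ⟨_, m, em⟩ := hT y.2
        simp only [el, em] at e ⊢
        rw [show l = m from e]
      have := Nat.card_le_card_of_injective _ hinj
      rw [Nat.card_zmod] at this
      norm_num at hc
      omega
    refine ⟨(x : G)⁻¹ * y, mul_mem (inv_mem x.2) y.2, S.good_Q hI ?_ fun h => hxy (Subtype.ext (inv_mul_eq_one.1 h))⟩
    refine (S.D.φ_ker ⟨_, mul_mem (inv_mem (hT x.2).1) (hT y.2).1⟩).1 ?_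
    rw [show (⟨_, mul_mem (inv_mem (hT x.2).1) (hT y.2).1⟩ : S.D.Ct) = ⟨_, (hT x.2).1⟩⁻¹ * ⟨_, (hT y.2).1⟩ from rfl,
      map_mul, map_inv, e, inv_mul_cancel])
  have h := index_bound S.P S.B81 (fun b => S.Φ (ael b)) (fun _ => 1)
    (fun i j hij => by
      cases i <;> cases j
      · exact absurd rfl hij
      · exact fun hc => S.not_conj_wv hI hc.symm
      · exact S.not_conj_wv hI
      · exact absurd rfl hij)
    (fun i g hg => (S.good_ael hI i).cent (mem_centralizer_singleton_iff.1 hg)) (fun i => (S.good_ael hI i).1)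
    (fun _ _ => true)
    (fun i j y hy hy1 g h hg hh hgy => by
      have hyg := S.good_B81 hI hy hy1
      obtain ⟨⟨a2, a3, c, x⟩, rfl⟩ := hy
      have hy3 : S.Φ (cel 0 a2 a3 c 0 (Par.upW x)) ^ 3 = 1 := by
        rw [pow_three', ← map_mul, ← map_mul, ← map_one S.Φ]
        rw [B_mul, B_mul]
        refine congrArg S.Φ ?_
        have h3 : ∀ u : ZMod 3, u + u + u = 0 := fun u => by
          linear_combination u * (ZMod.natCast_self 3 : ((3 : ℕ) : ZMod 3) = 0)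
        rw [h3, h3, h3, h3, B_one]
      refine ⟨rfl, (pair_mem (S.good_ael hI i) (S.good_ael hI j) (S.ael_cube i) (S.ael_cube j) (S.hC_ael hI i) hy3 ?_
        (Or.inl hyg) hg hh hgy).1⟩
      intro hc
      rw [← map_mul] at hc
      have hgood : GoodIn S.P (S.Φ (ael i * ael i)) := by
        rw [map_mul, show S.Φ (ael i) * S.Φ (ael i) = (S.Φ (ael i))⁻¹ from
          eq_inv_of_mul_eq_one_left (by rw [← pow_three']; exact S.ael_cube i)]
        exact (S.good_ael hI i).inv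
      have h0 := S.sq_zero (B_sq a2 a3 c x) (hgood.mconj ⟨_, rfl⟩ hc)
      cases i
      · exact wv_sq.2 h0
      · exact wv_sq.1 h0)
  have hs : ∑ b, cc (S.Φ (ael b)) ≤ 108 := by
    rw [Fintype.sum_bool]
    have h1 := S.cc_ael hI true
    have h2 := S.cc_ael hI false
    simp at h1 h2
    omega
  simp only [one_pow, one_mul, if_true, Fintype.sum_bool, S.card_B81, mul_one] at h hs
  obtain ⟨k, hk⟩ := hd
  norm_num at hk h
  have hpos : 0 < S.P.index := Nat.pos_of_ne_zero index_ne_zero_of_finite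
  by_contra hne
  have : 243 < S.P.index := by omega
  nlinarith

/-- The identification in the first case. -/
theorem equiv_one : Nonempty (G ≃* Ph0) :=
  ⟨(MulEquiv.ofBijective S.Φ ⟨S.inj, MonoidHom.range_eq_top.1 (S.P_eq_top hI)⟩).symm⟩

end Std

end CfsgLib.L43Rec
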