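import Cfsg.Agent.Lib.L43Rec.OneBasic

/-!
The centralizer in the point stabilizer of an element of the plane pair, by coordinates.
-/

set_option autoImplicit false

namespace CfsgLib.L43Rec

open Matrix

/-- Coordinates of a unipotent element centralizing the element: entries (2,3), (1,2), (1,3), (0,2), (0,3). -/
abbrev T5 := ZMod 3 × ZMod 3 × ZMod 3 × ZMod 3 × ZMod 3

/-- The parameters of the central element. -/
structure Par where
  /-- in the first plane -/
  η : ZMod 3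
  /-- in the second plane -/
  θ : ZMod 3
  hθ : θ = 1 ∨ θ = -1
  hη : η = 0 ∨ η = 1

namespace Par

variable (p : Par)

theorem θ_sq : p.θ * p.θ = 1 := by rcases p.hθ with e | e <;> rw [e] <;> decide

theorem θ_ne : p.θ ≠ 0 := by rcases p.hθ with e | e <;> rw [e] <;> decide

/-- The central element. -/
def bel : Ph0 := cel 0 p.η 0 p.θ 0 1

/-- The middle block. -/
def upW (c : ZMod 3) : SL23 := ⟨!![1, c; 0, 1], by simp [Matrix.det_fin_two]⟩

/-- The element with the coordinates. -/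
def U (t : T5) : Ph0 := cel (p.η * p.θ * t.1) t.2.2.2.1 t.2.2.2.2 t.2.2.1 t.1 (upW t.2.1)

/-- The inverting element. -/
def ne : Ph0 := mk0 ⟨!![-1, 0, 0; 0, 1, 0; 0, 0, -1], by decide⟩ 0

/-- Multiplication. -/
def tm (g h : T5) : T5 :=
  (g.1 + h.1, g.2.1 + h.2.1, g.2.2.1 + h.2.2.1 + g.2.1 * h.1, g.2.2.2.1 + h.2.2.2.1 + p.η * p.θ * g.1 * h.2.1,
    g.2.2.2.2 + h.2.2.2.2 + p.η * p.θ * g.1 * h.2.2.1 + g.2.2.2.1 * h.1)

/-- Inverse. -/
def ti (g : T5) : T5 :=
  (-g.1, -g.2.1, -g.2.2.1 + g.2.1 * g.1, -g.2.2.2.1 + p.η * p.θ * g.1 * g.2.1,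
    -g.2.2.2.2 + p.η * p.θ * g.1 * g.2.2.1 + g.2.2.2.1 * g.1 - p.η * p.θ * g.1 * g.2.1 * g.1)

/-- The powers of the central element. -/
def tb (i : ZMod 3) : T5 := (0, 0, p.θ * i, p.η * i, 0)

/-- The powers of the centre. -/
def tz (j : ZMod 3) : T5 := (0, 0, 0, 0, j)

/-- Representative modulo the central element. -/
def red (t : T5) : T5 := (t.1, t.2.1, 0, t.2.2.2.1 - p.η * p.θ * t.2.2.1, t.2.2.2.2 - p.η * p.θ * t.1 * t.2.2.1)

/-- The inverting element on coordinates. -/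
def flip (t : T5) : T5 := (-t.1, -t.2.1, t.2.2.1, t.2.2.2.1, -t.2.2.2.2)

/-- Commuting modulo the central element. -/
def Cm (e g : T5) : Prop := ∃ i : ZMod 3, p.tm g e = p.tm (p.tm e g) (p.tb i)

theorem U_val (t : T5) : (p.U t).1.1 =
    !![1, p.η * p.θ * t.1, t.2.2.2.1, t.2.2.2.2; 0, 1, t.2.1, t.2.2.1; 0, 0, 1, t.1; 0, 0, 0, 1] := by
  ext i j
  fin_cases i <;> fin_cases j <;> rfl

theorem bel_val : p.bel.1.1 = !![1, 0, p.η, 0; 0, 1, 0, p.θ; 0, 0, 1, 0; 0, 0, 0, 1] := by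
  ext i j
  fin_cases i <;> fin_cases j <;> rfl

theorem ne_val : ne.1.1 = !![1, 0, 0, 0; 0, -1, 0, 0; 0, 0, 1, 0; 0, 0, 0, -1] := by
  ext i j
  fin_cases i <;> fin_cases j <;> rfl

theorem ph_ext {g h : Ph0} (e : g.1.1 = h.1.1) : g = h := Subtype.ext (Subtype.ext e)

theorem U_mul (g h : T5) : p.U g * p.U h = p.U (p.tm g h) := by
  refine ph_ext ?_
  rw [Subgroup.coe_mul, Matrix.SpecialLinearGroup.coe_mul, U_val, U_val, U_val]
  ext i j
  fin_cases i <;> fin_cases j <;> simp [tm, Matrix.mul_apply, Fin.sum_univ_four] <;> ring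

theorem U_inj : Function.Injective p.U := by
  intro g h e
  have e' := congrArg (fun g : Ph0 => g.1.1) e
  simp only [U_val] at e'
  obtain ⟨b, c, d, e1, f⟩ := g
  obtain ⟨b', c', d', e1', f'⟩ := h
  have k1 := congrFun (congrFun e' 2) 3
  have k2 := congrFun (congrFun e' 1) 2
  have k3 := congrFun (congrFun e' 1) 3
  have k4 := congrFun (congrFun e' 0) 2
  have k5 := congrFun (congrFun e' 0) 3
  simp at k1 k2 k3 k4 k5
  subst k1 k2 k3 k4 k5
  rfl

theorem U_zero : p.U (0, 0, 0, 0, 0) = 1 := by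
  refine ph_ext ?_
  rw [U_val]
  ext i j
  fin_cases i <;> fin_cases j <;> simp

theorem U_ti (g : T5) : p.U g * p.U (p.ti g) = 1 := by
  rw [U_mul, ← p.U_zero]
  congr 1
  simp only [tm, ti, Prod.mk.injEq]
  refine ⟨?_, ?_, ?_, ?_, ?_⟩ <;> ring

theorem bel_eq : p.bel = p.U (p.tb 1) := by
  refine ph_ext ?_
  rw [U_val, bel_val]
  simp [tb]

theorem U_tb (i j : ZMod 3) : p.U (p.tb i) * p.U (p.tb j) = p.U (p.tb (i + j)) := by
  rw [U_mul]
  congr 1
  simp only [tm, tb, Prod.mk.injEq]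
  refine ⟨?_, ?_, ?_, ?_, ?_⟩ <;> ring

theorem bel_pow (n : ℕ) : p.bel ^ n = p.U (p.tb n) := by
  induction n with
  | zero => rw [pow_zero, ← p.U_zero]; congr 1
  | succ n ih => rw [pow_succ, ih, bel_eq, U_tb]; push_cast; rfl

theorem U_z (j : ZMod 3) : p.U (tz j) = cel 0 0 j 0 0 1 := by
  refine ph_ext ?_
  rw [U_val]
  ext i k
  fin_cases i <;> fin_cases k <;> simp [tz] <;> rfl

theorem U_bel_comm (t : T5) : p.U t * p.bel = p.bel * p.U t := by
  rw [bel_eq, U_mul, U_mul]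
  congr 1
  obtain ⟨b, c, d, e, f⟩ := t
  simp only [tm, tb, Prod.mk.injEq]
  refine ⟨?_, ?_, ?_, ?_, ?_⟩ <;> try ring
  linear_combination p.η * b * p.θ_sq

theorem ne_bel_comm : ne * p.bel = p.bel * ne := by
  refine ph_ext ?_
  rw [Subgroup.coe_mul, Subgroup.coe_mul, Matrix.SpecialLinearGroup.coe_mul, Matrix.SpecialLinearGroup.coe_mul,
    bel_val, ne_val]
  ext i j
  fin_cases i <;> fin_cases j <;> simp [Matrix.mul_apply, Fin.sum_univ_four]

theorem ne_U (t : T5) : ne * p.U t = p.U (flip t) * ne := by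
  refine ph_ext ?_
  rw [Subgroup.coe_mul, Subgroup.coe_mul, Matrix.SpecialLinearGroup.coe_mul, Matrix.SpecialLinearGroup.coe_mul,
    U_val, U_val, ne_val]
  ext i j
  fin_cases i <;> fin_cases j <;> simp [flip, Matrix.mul_apply, Fin.sum_univ_four]

theorem red_eq (t : T5) : p.tm t (p.tb (-(p.θ * t.2.2.1))) = p.red t := by
  obtain ⟨b, c, d, e, f⟩ := t
  simp only [tm, tb, red, Prod.mk.injEq]
  refine ⟨?_, ?_, ?_, ?_, ?_⟩ <;> try ring
  · linear_combination (-d) * p.θ_sq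
  · linear_combination (-(p.η * p.θ * b * d)) * p.θ_sq

theorem cube (t : T5) : p.tm (p.tm t t) t = tz (p.η * p.θ * t.1 * t.2.1 * t.1) := by
  obtain ⟨b, c, d, e, f⟩ := t
  have h3 : (3 : ZMod 3) = 0 := by decide
  simp only [tm, tz, Prod.mk.injEq]
  refine ⟨?_, ?_, ?_, ?_, ?_⟩
  · linear_combination b * h3
  · linear_combination c * h3
  · linear_combination (d + c * b) * h3
  · linear_combination (e + p.η * p.θ * b * c) * h3
  · linear_combination (f + p.η * p.θ * b * d + e * b) * h3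

/-- Everything in the centralizer of the element. -/
theorem cent_cases {g : Ph0} (hg : g * p.bel = p.bel * g) : ∃ t : T5, g = p.U t ∨ g = p.U t * ne := by
  have h : g.1.1 * p.bel.1.1 = p.bel.1.1 * g.1.1 := congrArg (fun g : Ph0 => g.1.1) hg
  obtain ⟨g00, g10, g20, g30⟩ := g.2
  have hd : (pMm g.1).det = 1 := pMm_det g.2
  rw [bel_val] at h
  have e01 := congrFun (congrFun h 0) 3
  have e13 := congrFun (congrFun h 1) 3
  have e23 := congrFun (congrFun h 2) 3
  have e33 := congrFun (congrFun h 3) 3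
  have e02 := congrFun (congrFun h 0) 2
  have e12 := congrFun (congrFun h 1) 2
  have e11 := congrFun (congrFun h 1) 1
  simp [Matrix.mul_apply, Fin.sum_univ_four, g00, g10, g20, g30, p.θ_ne] at e01 e13 e23 e33 e02 e12 e11
  have k21 : g.1.1 2 1 = 0 := e23
  have k31 : g.1.1 3 1 = 0 := by first | exact e33 | exact e11
  have k32 : g.1.1 3 2 = 0 := e12
  have k33 : g.1.1 3 3 = g.1.1 1 1 := by
    apply mul_left_cancel₀ p.θ_ne
    linear_combination -e13
  rw [Matrix.det_fin_three] at hd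
  simp only [pMm, show ((2 : Fin 3).succ : Fin 4) = 3 from rfl, show ((1 : Fin 3).succ : Fin 4) = 2 from rfl,
    show ((0 : Fin 3).succ : Fin 4) = 1 from rfl, k21, k31, k32, k33] at hd
  have k22 : g.1.1 2 2 = 1 ∧ (g.1.1 1 1 = 1 ∨ g.1.1 1 1 = -1) := by
    ring_nf at hd
    revert hd
    generalize g.1.1 2 2 = y
    generalize g.1.1 1 1 = x
    revert x y
    decide
  obtain ⟨k22, k11⟩ := k22
  have k01 : g.1.1 0 1 = p.η * p.θ * g.1.1 2 3 := by
    have := p.θ_sq
    linear_combination p.θ * e01 - g.1.1 0 1 * this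
  rcases k11 with k11 | k11
  · refine ⟨(g.1.1 2 3, g.1.1 1 2, g.1.1 1 3, g.1.1 0 2, g.1.1 0 3), Or.inl (ph_ext ?_)⟩
    rw [U_val]
    rw [k11] at k33
    ext i j
    fin_cases i <;> fin_cases j <;> simp <;> assumption
  · refine ⟨(-g.1.1 2 3, g.1.1 1 2, -g.1.1 1 3, g.1.1 0 2, -g.1.1 0 3), Or.inr (ph_ext ?_)⟩
    rw [Subgroup.coe_mul, Matrix.SpecialLinearGroup.coe_mul, U_val, ne_val]
    rw [k11] at k33
    ext i j
    fin_cases i <;> fin_cases j <;> simp [Matrix.mul_apply, Fin.sum_univ_four] <;>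
      first | assumption | (rw [k01]; ring)

end Par

end CfsgLib.L43Rec
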