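import Cfsg.Agent.Lib.L43Rec.OneModel

/-!
The centralizer of an element of the plane pair, modulo that element.
-/

set_option autoImplicit false

namespace CfsgLib.L43Rec

open Subgroup Matrix CfsgLib.GoodPairs
open scoped commutatorElement

universe u

theorem three_nsmul_z3 : ∀ x : ZMod 3 × ZMod 3, 3 • x = 0 := by decide

namespace Std

variable {G : Type u} [Group G] (S : Std G) (p : Par)

/-- The centralizer. -/
abbrev H0 : Subgroup G := centralizer ({S.Φ p.bel} : Set G)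

theorem bG_mem : S.Φ p.bel ∈ S.H0 p := mem_centralizer_singleton_iff.2 rfl

/-- The central subgroup. -/
abbrev N0 : Subgroup (S.H0 p) := zpowers (⟨S.Φ p.bel, S.bG_mem p⟩ : S.H0 p)

instance N0_normal : (S.N0 p).Normal :=
  ⟨fun n hn g => by
    obtain ⟨k, rfl⟩ := mem_zpowers_iff.1 hn
    have hc : Commute g (⟨S.Φ p.bel, S.bG_mem p⟩ : S.H0 p) :=
      Subtype.ext (mem_centralizer_singleton_iff.1 g.2)
    rw [(hc.zpow_right k).eq, mul_inv_cancel_right]
    exact zpow_mem (mem_zpowers _) k⟩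

/-- The quotient. -/
abbrev Kq : Type u := S.H0 p ⧸ S.N0 p

/-- The projection. -/
abbrev πq : S.H0 p →* S.Kq p := QuotientGroup.mk' (S.N0 p)

/-- The image of the point stabilizer. -/
def Mq : Subgroup (S.Kq p) := (S.P.subgroupOf (S.H0 p)).map (S.πq p)

theorem U_mem (t : T5) : S.Φ (p.U t) ∈ S.H0 p := by
  rw [mem_centralizer_singleton_iff, ← map_mul, ← map_mul, p.U_bel_comm]

theorem ne_mem : S.Φ Par.ne ∈ S.H0 p := by
  rw [mem_centralizer_singleton_iff, ← map_mul, ← map_mul, p.ne_bel_comm]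

/-- The image of an element given by coordinates. -/
def rho (t : T5) : S.Kq p := S.πq p ⟨S.Φ (p.U t), S.U_mem p t⟩

/-- The image of the inverting element. -/
def nk : S.Kq p := S.πq p ⟨S.Φ Par.ne, S.ne_mem p⟩

theorem mem_Mq {h : S.H0 p} : S.πq p h ∈ S.Mq p ↔ (h : G) ∈ S.P := by
  constructor
  · rintro ⟨h', hh', e⟩
    have hn := QuotientGroup.eq.1 e
    obtain ⟨k, hk⟩ := mem_zpowers_iff.1 hn
    have h1 : (h : G) = (h' : G) * (S.Φ p.bel) ^ k := by
      have := congrArg (fun g : S.H0 p => (g : G)) hk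
      simp only [SubgroupClass.coe_zpow, Subgroup.coe_mul, InvMemClass.coe_inv] at this
      rw [this, mul_inv_cancel_left]
    rw [h1]
    exact mul_mem hh' (zpow_mem (show S.Φ p.bel ∈ S.P from ⟨_, rfl⟩) k)
  · exact fun hh => ⟨h, hh, rfl⟩

theorem rho_mem (t : T5) : S.rho p t ∈ S.Mq p := (S.mem_Mq p (h := ⟨_, S.U_mem p t⟩)).2 ⟨_, rfl⟩

theorem rho_mul (g h : T5) : S.rho p g * S.rho p h = S.rho p (p.tm g h) := by
  rw [rho, rho, rho, ← map_mul]
  exact congrArg (S.πq p) (Subtype.ext (by rw [Subgroup.coe_mul, ← map_mul, p.U_mul]))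

theorem rho_one : S.rho p (0, 0, 0, 0, 0) = 1 := by
  rw [rho, ← map_one (S.πq p)]
  exact congrArg (S.πq p) (Subtype.ext (show S.Φ (p.U (0, 0, 0, 0, 0)) = 1 by rw [p.U_zero, map_one]))

theorem rho_tb (i : ZMod 3) : S.rho p (p.tb i) = 1 := by
  refine (QuotientGroup.eq_one_iff _).2 (mem_zpowers_iff.2 ⟨(i.val : ℤ), Subtype.ext ?_⟩)
  rw [SubgroupClass.coe_zpow, zpow_natCast, ← map_pow, p.bel_pow, ZMod.natCast_zmod_val]

theorem rho_red (t : T5) : S.rho p (p.red t) = S.rho p t := by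
  rw [← p.red_eq, ← S.rho_mul, S.rho_tb, mul_one]

theorem bel_cube : p.bel ^ 3 = 1 := by
  rw [p.bel_pow, ← p.U_zero, ZMod.natCast_self]
  simp [Par.tb]

theorem rho_eq {g h : T5} (e : S.rho p g = S.rho p h) : ∃ i, h = p.tm g (p.tb i) := by
  obtain ⟨k, hk⟩ := mem_zpowers_iff.1 (QuotientGroup.eq.1 e)
  refine ⟨(k : ZMod 3), p.U_inj ?_⟩
  rw [← p.U_mul]
  refine S.inj ?_
  have := congrArg (fun x : S.H0 p => (x : G)) hk
  simp only [SubgroupClass.coe_zpow, Subgroup.coe_mul, InvMemClass.coe_inv] at this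
  rw [map_mul, show S.Φ (p.U (p.tb (k : ZMod 3))) = S.Φ p.bel ^ k by
    rw [← map_zpow]
    congr 1
    obtain ⟨n, hn⟩ : ∃ n : ℕ, (k % 3) = n := ⟨(k % 3).toNat, (Int.toNat_of_nonneg (Int.emod_nonneg _ (by norm_num))).symm⟩
    have hmod : p.bel ^ k = p.bel ^ n := by
      rw [← zpow_natCast, ← hn]
      conv_lhs => rw [← Int.emod_add_mul_ediv k 3, _root_.zpow_add, _root_.zpow_mul, show p.bel ^ (3 : ℤ) = 1 from
        (zpow_natCast p.bel 3).trans (bel_cube p), _root_.one_zpow, mul_one]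
    rw [hmod, p.bel_pow]
    congr 2
    rw [← Int.cast_natCast (R := ZMod 3) n, ← hn]
    exact ((ZMod.intCast_eq_intCast_iff' k (k % 3) 3).2 (by simp [Int.emod_emod_of_dvd])), this, mul_inv_cancel_left]

theorem cm_of_comm {e g : T5} (h : S.rho p g * S.rho p e = S.rho p e * S.rho p g) : p.Cm e g := by
  rw [S.rho_mul, S.rho_mul] at h
  obtain ⟨i, hi⟩ := S.rho_eq p h.symm
  exact ⟨i, hi⟩

theorem comm_of_cm {e g : T5} (h : p.Cm e g) : S.rho p g * S.rho p e = S.rho p e * S.rho p g := by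
  obtain ⟨i, hi⟩ := h
  rw [S.rho_mul, S.rho_mul, hi, ← S.rho_mul p (p.tm e g), S.rho_tb, mul_one]

theorem tz_comm (j : ZMod 3) (g : T5) : S.rho p (Par.tz j) * S.rho p g = S.rho p g * S.rho p (Par.tz j) := by
  rw [S.rho_mul, S.rho_mul]
  congr 1
  obtain ⟨b, c, d, e, f⟩ := g
  simp only [Par.tm, Par.tz, Prod.mk.injEq]
  refine ⟨?_, ?_, ?_, ?_, ?_⟩ <;> ring

theorem nk_flip (t : T5) : S.nk p * S.rho p t = S.rho p (Par.flip t) * S.nk p := by
  rw [nk, rho, rho, ← map_mul, ← map_mul]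
  exact congrArg (S.πq p) (Subtype.ext (by rw [Subgroup.coe_mul, Subgroup.coe_mul, ← map_mul, ← map_mul, p.ne_U]))

theorem lift_cases {h : S.H0 p} (hh : (h : G) ∈ S.P) :
    ∃ t : T5, (h : G) = S.Φ (p.U t) ∨ (h : G) = S.Φ (p.U t * Par.ne) := by
  obtain ⟨g, hg⟩ := hh
  obtain ⟨t, ht⟩ := p.cent_cases (g := g) (S.inj (by
    rw [map_mul, map_mul, hg]; exact mem_centralizer_singleton_iff.1 h.2))
  exact ⟨t, ht.imp (fun e => by rw [← hg, e]) (fun e => by rw [← hg, e])⟩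

theorem Mq_cases {k : S.Kq p} (hk : k ∈ S.Mq p) : ∃ t : T5, k = S.rho p t ∨ k = S.rho p t * S.nk p := by
  obtain ⟨h, hh, rfl⟩ := hk
  obtain ⟨t, ht⟩ := S.lift_cases p (mem_subgroupOf.1 hh)
  refine ⟨t, ht.imp (fun e => ?_) (fun e => ?_)⟩
  · exact congrArg (S.πq p) (Subtype.ext e)
  · rw [rho, nk, ← map_mul]
    exact congrArg (S.πq p) (Subtype.ext (by rw [Subgroup.coe_mul, ← map_mul]; exact e))

theorem mem_cent {e : T5} (he : e.1 ≠ 0 ∨ e.2.1 ≠ 0) {k : S.Kq p} (hk : k ∈ S.Mq p)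
    (hc : k * S.rho p e = S.rho p e * k) : ∃ t, k = S.rho p t ∧ p.Cm e t := by
  obtain ⟨t, rfl | rfl⟩ := S.Mq_cases p hk
  · exact ⟨t, rfl, S.cm_of_comm p hc⟩
  · exfalso
    rw [mul_assoc, S.nk_flip, ← mul_assoc, ← mul_assoc, mul_left_inj, S.rho_mul, S.rho_mul] at hc
    obtain ⟨i, hi⟩ := S.rho_eq p hc
    obtain ⟨α, q, d, r, s⟩ := e
    obtain ⟨b, c, d', e', f⟩ := t
    simp only [Par.tm, Par.tb, Par.flip, Prod.mk.injEq, add_zero] at hi
    obtain ⟨h1, h2, -⟩ := hi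
    have key : ∀ x y : ZMod 3, x + y = y + -x → x = 0 := by decide
    rcases he with he | he
    · exact he (key α b h1)
    · exact he (key q c h2)

theorem rho_cube (t : T5) : S.rho p t ^ 3 = S.rho p (Par.tz (p.η * p.θ * t.1 * t.2.1 * t.1)) := by
  rw [pow_three', S.rho_mul, S.rho_mul, p.cube]

theorem rho_nine (t : T5) : S.rho p t ^ 9 = 1 := by
  rw [show 9 = 3 * 3 from rfl, pow_mul, rho_cube, rho_cube, ← S.rho_one p]
  simp [Par.tz]

theorem rho_cube_one {t : T5} (ht : p.η * p.θ * t.1 * t.2.1 * t.1 = 0) : S.rho p t ^ 3 = 1 := by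
  rw [S.rho_cube, ht, ← S.rho_one p]; rfl

theorem U_tz : p.U (Par.tz 1) = e03 := by
  rw [p.U_z]; exact Par.ph_ext (by decide +kernel)

theorem good_lift {t : T5} (h : GoodIn S.P (S.Φ (p.U t))) : GoodIn (S.Mq p) (S.rho p t) := by
  refine ⟨S.rho_mem p t, fun g hg => ?_⟩
  obtain ⟨g, rfl⟩ := QuotientGroup.mk'_surjective (S.N0 p) g
  rw [rho, ← map_inv, ← map_mul, ← map_mul, S.mem_Mq] at hg
  exact (S.mem_Mq p).2 (h.2 g (by simpa using hg))

variable [Finite G] (hI : S.CaseOne)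
include hI

/-- Elements of order three with small centralizer in the quotient. -/
theorem good_rel {t : T5} (ht : p.η * p.θ * t.1 * t.2.1 * t.1 = 0)
    (hC : ∀ k : S.Kq p, k * S.rho p t = S.rho p t * k → k ∈ S.Mq p) : GoodIn (S.Mq p) (S.rho p t) := by
  refine ⟨S.rho_mem p t, fun g hg => ?_⟩
  obtain ⟨h, rfl⟩ := QuotientGroup.mk'_surjective (S.N0 p) g
  rw [rho, ← map_inv, ← map_mul, ← map_mul, S.mem_Mq] at hg
  have hU3 : S.Φ (p.U t) ^ 3 = 1 := by
    rw [← map_pow, ← map_one S.Φ]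
    congr 1
    rw [pow_three', p.U_mul, p.U_mul, p.cube, ht, ← p.U_zero]; rfl
  set e' : G := (h : G)⁻¹ * S.Φ (p.U t) * h with he'
  have he3 : e' ^ 3 = 1 := by
    have := conj_pow (i := 3) (a := (h : G)⁻¹) (b := S.Φ (p.U t))
    rw [inv_inv] at this
    rw [he', this, hU3]; group
  have hz : e' * S.D.z = S.D.z * e' := by
    obtain ⟨t', e1 | e1⟩ := S.lift_cases p (h := h⁻¹ * ⟨_, S.U_mem p t⟩ * h) (by simpa using hg)
    · have e1' : e' = S.Φ (p.U t') := by rw [← e1, he']; simp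
      rw [e1', ← S.Φ_z, ← U_tz p, ← map_mul, ← map_mul, p.U_mul, p.U_mul]
      congr 2
      obtain ⟨b, c, d, e, f⟩ := t'
      simp only [Par.tm, Par.tz, Prod.mk.injEq]
      refine ⟨?_, ?_, ?_, ?_, ?_⟩ <;> ring
    · exfalso
      have e1' : e' = S.Φ (p.U t' * Par.ne) := by rw [← e1, he']; simp
      rw [e1', ← map_pow, ← map_one S.Φ] at he3
      have := S.inj he3
      rw [pow_three] at this
      have h2 := congrArg (fun g : Ph0 => g.1.1 1 1) this
      simp [Subgroup.coe_mul, Matrix.SpecialLinearGroup.coe_mul, p.U_val, Par.ne_val, Matrix.mul_apply,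
        Fin.sum_univ_four] at h2
      exact absurd h2 (by decide)
  set a : G := (h : G) * S.D.z * (h : G)⁻¹ with ha
  have haC : a * S.Φ (p.U t) = S.Φ (p.U t) * a := by
    rw [ha]
    calc (h : G) * S.D.z * (h : G)⁻¹ * S.Φ (p.U t) = h * (S.D.z * e') * (h : G)⁻¹ := by rw [he']; group
      _ = h * (e' * S.D.z) * (h : G)⁻¹ := by rw [hz]
      _ = _ := by rw [he']; group
  have haH : a ∈ S.H0 p := by
    have hzH : S.D.z ∈ S.H0 p := by rw [← S.Φ_z, ← U_tz p]; exact S.U_mem p _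
    exact mul_mem (mul_mem h.2 hzH) (inv_mem h.2)
  have haP : a ∈ S.P := (S.mem_Mq p (h := ⟨a, haH⟩)).1 (hC _ (by
    rw [rho, ← map_mul, ← map_mul]
    exact congrArg (S.πq p) (Subtype.ext haC)))
  have hapl := S.conj_P hI haP (isConj_iff.2 ⟨h, rfl⟩)
  refine (S.mem_Mq p).2 ((S.plane_good hI hapl (fun e => S.D.z_ne (conj_eq_one_iff.1 e))).2 _ ?_)
  rw [ha, show (h : G)⁻¹ * ((h : G) * S.D.z * (h : G)⁻¹) * h = S.D.z by group, ← S.Φ_z]
  exact ⟨_, rfl⟩

omit hI in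
/-- The closure generated by the usable elements. -/
def Gs (e : T5) : Subgroup (S.Kq p) :=
  closure ({S.rho p e} ∪ {x | GoodIn (S.Mq p) x ∧ x ^ 3 = 1 ∧ x * S.rho p e = S.rho p e * x})

omit hI in
/-- The transfer argument in the centralizer of an element. -/
theorem cent_le {e : T5} (he : e.1 ≠ 0 ∨ e.2.1 ≠ 0) (he3 : p.η * p.θ * e.1 * e.2.1 * e.1 = 0)
    (hzgood : GoodIn (S.Mq p) (S.rho p (Par.tz 1)))
    (hgen : ∀ t, p.Cm e t → S.rho p t ∈ S.Gs p e)
    (hcomm : ∀ g h, p.Cm e g → p.Cm e h → ∃ i j, p.tm g h = p.tm (p.tm h g) (p.tm (p.tb i) (Par.tz j)))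
    (w : ZMod 3 → ZMod 3 → T5)
    (hwadd : ∀ j k j' k', ∃ i, p.tm (w j k) (w j' k') = p.tm (w (j + j') (k + k')) (p.tb i))
    (hwne : ∀ j k i, w j k = p.tb i → j = 0 ∧ k = 0) (hwcm : ∀ j k, p.Cm e (w j k))
    (hwgood : ∀ j k, ¬(j = 0 ∧ k = 0) → GoodIn (S.Mq p) (S.rho p (w j k))) :
    ∀ k : S.Kq p, k * S.rho p e = S.rho p e * k → k ∈ S.Mq p := by
  classical
  haveI : Fact (Nat.Prime 3) := ⟨Nat.prime_three⟩
  set H : Subgroup (S.Kq p) := centralizer ({S.rho p e} : Set (S.Kq p)) with hH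
  have hmemH : ∀ {x}, x * S.rho p e = S.rho p e * x → x ∈ H := fun h => mem_centralizer_singleton_iff.2 h
  have hout : ∀ x : H, (x : S.Kq p) * S.rho p e = S.rho p e * x := fun x => mem_centralizer_singleton_iff.1 x.2
  set P : Subgroup H := (S.Mq p).subgroupOf H with hP
  have hPcm : ∀ x ∈ P, ∃ t, (x : S.Kq p) = S.rho p t ∧ p.Cm e t := fun x hx => S.mem_cent p he hx (hout x)
  have hgood : ∀ {x : S.Kq p} (hx : x ∈ H), GoodIn (S.Mq p) x → x ^ 3 = 1 → GoodTransfer.Good 3 P ⟨x, hx⟩ :=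
    fun hx hg h3 => ⟨hg.1, Subtype.ext h3, fun h hh => hg.2 _ hh⟩
  set zH : H := ⟨S.rho p (Par.tz 1), hmemH (S.tz_comm p 1 e)⟩ with hzH
  have hz3 : S.rho p (Par.tz 1) ^ 3 = 1 := S.rho_cube_one p (by simp [Par.tz])
  have hzG : GoodTransfer.Good 3 P zH := hgood _ hzgood hz3
  have hzpow : ∀ n : ℕ, S.rho p (Par.tz 1) ^ n = S.rho p (Par.tz n) := by
    intro n
    induction n with
    | zero => rw [pow_zero, ← S.rho_one p]; simp [Par.tz]
    | succ n ih =>
      rw [pow_succ, ih, S.rho_mul]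
      simp [Par.tm, Par.tz]
  have hcom : ⁅P, P⁆ ≤ zpowers zH := by
    rw [commutator_le]
    intro g hg h hh
    obtain ⟨a, ha, hac⟩ := hPcm g hg
    obtain ⟨b, hb, hbc⟩ := hPcm h hh
    obtain ⟨i, j, hij⟩ := hcomm a b hac hbc
    refine mem_zpowers_iff.2 ⟨(j.val : ℤ), Subtype.ext ?_⟩
    have key : S.rho p a * S.rho p b = S.rho p (Par.tz j) * (S.rho p b * S.rho p a) := by
      rw [S.rho_mul p b a, S.tz_comm p j, S.rho_mul p a b, hij, ← S.rho_mul p (p.tm b a), ← S.rho_mul p (p.tb i),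
        S.rho_tb, one_mul]
    rw [zpow_natCast, SubgroupClass.coe_pow, show (zH : S.Kq p) = S.rho p (Par.tz 1) from rfl, hzpow,
      ZMod.natCast_zmod_val, commutatorElement_def, Subgroup.coe_mul, Subgroup.coe_mul, Subgroup.coe_mul,
      InvMemClass.coe_inv, InvMemClass.coe_inv, ha, hb, key]
    group
  have hgen' : P ≤ closure {a : H | GoodTransfer.Good 3 P a ∨ (a ∈ P ∧ a ^ 3 = 1 ∧ ∀ h : H, h * a = a * h)} := by
    intro x hx
    obtain ⟨t, ht, htc⟩ := hPcm x hx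
    suffices h : S.Gs p e ≤
        (closure {a : H | GoodTransfer.Good 3 P a ∨ (a ∈ P ∧ a ^ 3 = 1 ∧ ∀ h : H, h * a = a * h)}).map H.subtype by
      obtain ⟨y, hy, hxy⟩ := h (ht ▸ hgen t htc : (x : S.Kq p) ∈ S.Gs p e)
      rwa [← (Subtype.ext hxy : y = x)]
    rw [Gs, closure_le]
    rintro y (hy | ⟨hy1, hy2, hy3⟩)
    · rw [Set.mem_singleton_iff] at hy
      subst hy
      exact ⟨⟨_, hmemH rfl⟩, subset_closure (Or.inr ⟨S.rho_mem p e, Subtype.ext (S.rho_cube_one p he3),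
        fun h => Subtype.ext (hout h)⟩), rfl⟩
    · exact ⟨⟨y, hmemH hy3⟩, subset_closure (Or.inl (hgood _ hy1 hy2)), rfl⟩
  let φ : Multiplicative (ZMod 3 × ZMod 3) →* H := MonoidHom.mk'
    (fun a => ⟨S.rho p (w a.toAdd.1 a.toAdd.2), hmemH (S.comm_of_cm p (hwcm _ _))⟩) (fun a b => Subtype.ext (by
      obtain ⟨i, hi⟩ := hwadd a.toAdd.1 a.toAdd.2 b.toAdd.1 b.toAdd.2
      show S.rho p (w (a.toAdd.1 + b.toAdd.1) (a.toAdd.2 + b.toAdd.2)) = S.rho p _ * S.rho p _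
      rw [S.rho_mul p (w _ _) (w _ _), hi, ← S.rho_mul, S.rho_tb, mul_one]))
  have hφi : Function.Injective φ := by
    rw [injective_iff_map_eq_one]
    intro a ha
    have h1 : S.rho p (w a.toAdd.1 a.toAdd.2) = S.rho p (0, 0, 0, 0, 0) :=
      (congrArg Subtype.val ha).trans (S.rho_one p).symm
    obtain ⟨i, hi⟩ := S.rho_eq p h1.symm
    obtain ⟨k1, k2⟩ := hwne _ _ i (hi.trans (by simp [Par.tm, Par.tb]))
    exact Multiplicative.toAdd.injective (Prod.ext k1 k2)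
  have hφ3 : ∀ a, φ a ^ 3 = 1 := fun a => by
    rw [← map_pow, show a ^ 3 = 1 from Multiplicative.toAdd.injective (by
      rw [toAdd_pow, toAdd_one]
      exact three_nsmul_z3 _), map_one]
  haveI : IsMulCommutative φ.range := ⟨⟨by
    rintro ⟨_, a, rfl⟩ ⟨_, b, rfl⟩
    exact Subtype.ext (by show φ a * φ b = φ b * φ a; rw [← map_mul, ← map_mul, mul_comm])⟩⟩
  have hPtop : P = ⊤ := by
    refine GoodTransfer.eq_top hzG P le_rfl hgen' ?_ ?_ ?_ φ.range ?_ ?_ ?_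
    · intro T hT hT' a ha b hb
      obtain ⟨i, hi⟩ := mem_zpowers_iff.1 (hcom (hT' a ha (hT ha)))
      obtain ⟨j, hj⟩ := mem_zpowers_iff.1 (hcom (hT' b hb (hT hb)))
      rw [← hi, ← hj, ← _root_.zpow_add, ← _root_.zpow_add, add_comm]
    · by_cases hzc : zH ∈ ⁅P, P⁆
      · exact Or.inl hzc
      · refine Or.inr fun t ht => ⟨ht, fun htc => ?_⟩
        obtain ⟨i, hi⟩ := mem_zpowers_iff.1 (hcom htc)
        by_contra hne
        refine hzc ?_
        have hmod : ∀ k : ℤ, zH ^ k = zH ^ (k % 3) := fun k => by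
          conv_lhs => rw [← Int.emod_add_mul_ediv k 3, _root_.zpow_add, _root_.zpow_mul, show zH ^ (3 : ℤ) = 1 from
            (zpow_natCast zH 3).trans (Subtype.ext hz3), _root_.one_zpow, mul_one]
        have h3 : i % 3 = 1 ∨ i % 3 = 2 := by
          have := Int.emod_nonneg i (show (3 : ℤ) ≠ 0 by norm_num)
          have := Int.emod_lt_of_pos i (show (0 : ℤ) < 3 by norm_num)
          by_contra hc
          refine hne ?_
          rw [← hi, hmod, show i % 3 = 0 by omega, zpow_zero]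
        rw [hmod i] at hi
        rcases h3 with h3 | h3 <;> rw [h3] at hi
        · rw [zpow_one] at hi; rw [hi]; exact htc
        · have : zH = t⁻¹ := by
            rw [← hi, ← _root_.zpow_neg, ← zpow_one zH, ← _root_.zpow_mul, hmod ((1 : ℤ) * -2)]
            norm_num
          rw [this]; exact inv_mem htc
    · refine fun x => ⟨2, Subtype.ext ?_⟩
      obtain ⟨t, ht, -⟩ := hPcm x x.2
      exact Subtype.ext (by
        rw [SubgroupClass.coe_pow, SubgroupClass.coe_pow, ht]; exact S.rho_nine p t)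
    · rintro _ ⟨a, rfl⟩
      exact S.rho_mem p _
    · intro hc
      have h9 : Nat.card φ.range = 9 := by
        rw [← Nat.card_congr (MonoidHom.ofInjective hφi).toEquiv,
          Nat.card_congr Multiplicative.toAdd, Nat.card_prod, Nat.card_zmod]
      have h := hc.exponent_eq_card
      have h3 : Monoid.exponent φ.range ∣ 3 := Monoid.exponent_dvd_of_forall_pow_eq_one fun x => by
        obtain ⟨_, a, rfl⟩ := x
        exact Subtype.ext (hφ3 a)
      rw [h, h9] at h3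
      omega
    · rintro _ ⟨a, rfl⟩ hne
      exact hgood _ (hwgood _ _ fun h => hne (by
        rw [show a = 1 from Multiplicative.toAdd.injective (Prod.ext h.1 h.2), map_one])) (congrArg Subtype.val (hφ3 a))
  intro k hk
  have : (⟨k, hmemH hk⟩ : H) ∈ P := hPtop ▸ mem_top _
  exact this

end Std

end CfsgLib.L43Rec
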