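import Mathlib.LinearAlgebra.Matrix.SpecialLinearGroup
import Mathlib.LinearAlgebra.Matrix.Determinant.Basic
import Mathlib.Data.ZMod.Basic
import Mathlib.Tactic

/-!
The point stabilizer in SL(4,3), as an extension of the row vectors by SL(3,3).
-/

set_option autoImplicit false

namespace CfsgLib.L43Rec

open Matrix

/-- The group SL(4,3). -/
abbrev SL43 := Matrix.SpecialLinearGroup (Fin 4) (ZMod 3)

/-- The group SL(3,3). -/
abbrev SL33' := Matrix.SpecialLinearGroup (Fin 3) (ZMod 3)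

/-- The stabilizer of the first basis vector. -/
def Ph0 : Subgroup SL43 where
  carrier := {g | g.1 0 0 = 1 ∧ g.1 1 0 = 0 ∧ g.1 2 0 = 0 ∧ g.1 3 0 = 0}
  one_mem' := by simp
  mul_mem' := fun {g h} hg hh => by
    obtain ⟨a, b, c, d⟩ := hg
    obtain ⟨a', b', c', d'⟩ := hh
    refine ⟨?_, ?_, ?_, ?_⟩ <;>
      simp [Matrix.mul_apply, Fin.sum_univ_four, a, b, c, d, a', b', c', d']
  inv_mem' := fun {g} hg => by
    obtain ⟨a, b, c, d⟩ := hg
    have h : (g⁻¹).1 * g.1 = 1 := by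
      rw [← Matrix.SpecialLinearGroup.coe_mul, inv_mul_cancel, Matrix.SpecialLinearGroup.coe_one]
    have e : ∀ i, (g⁻¹).1 i 0 = (1 : Matrix (Fin 4) (Fin 4) (ZMod 3)) i 0 := fun i => by
      rw [← h, Matrix.mul_apply, Fin.sum_univ_four, a, b, c, d]; simp
    refine ⟨?_, ?_, ?_, ?_⟩ <;> rw [e] <;> simp

theorem Ph0_col {g : SL43} (hg : g ∈ Ph0) (i : Fin 3) : g.1 i.succ 0 = 0 := by
  fin_cases i
  exacts [hg.2.1, hg.2.2.1, hg.2.2.2]

/-- The lower block. -/
def pMm (g : SL43) : Matrix (Fin 3) (Fin 3) (ZMod 3) := fun i j => g.1 i.succ j.succ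

theorem pMm_det {g : SL43} (hg : g ∈ Ph0) : (pMm g).det = 1 := by
  have h := g.2
  rw [Matrix.det_succ_column_zero, Fin.sum_univ_succ, Finset.sum_eq_zero fun i _ => by
    rw [Ph0_col hg]; simp] at h
  rw [← h, hg.1]
  simp [Matrix.submatrix]
  rfl

theorem pMm_mul {g : SL43} (hg : g ∈ Ph0) (h : SL43) : pMm (g * h) = pMm g * pMm h := by
  ext i j
  simp [pMm, Matrix.mul_apply, Fin.sum_univ_succ, Ph0_col hg]

/-- The projection onto the block. -/
def pM : Ph0 →* SL33' where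
  toFun g := ⟨pMm g, pMm_det g.2⟩
  map_one' := Subtype.ext (by ext i j; simp [pMm, Matrix.one_apply])
  map_mul' g h := Subtype.ext (pMm_mul g.2 h)

/-- The first row without its first entry. -/
def pa (g : Ph0) : Fin 3 → ZMod 3 := fun j => g.1.1 0 j.succ

theorem pa_mul (g h : Ph0) : pa (g * h) = pa h + pa g ᵥ* (pM h).1 := by
  funext j
  show ((g : SL43) * h).1 0 j.succ = h.1.1 0 j.succ + ∑ k, pa g k * pMm h k j
  simp [pa, pMm, Matrix.mul_apply, Fin.sum_univ_succ, g.2.1]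

/-- The matrix from the two parts. -/
def mkM (M : SL33') (a : Fin 3 → ZMod 3) : Matrix (Fin 4) (Fin 4) (ZMod 3) :=
  fun i j => Fin.cases (Fin.cases 1 a j) (fun i' => Fin.cases 0 (fun j' => M.1 i' j') j) i

/-- The element from the two parts. -/
def mk0 (M : SL33') (a : Fin 3 → ZMod 3) : Ph0 :=
  ⟨⟨mkM M a, by
    rw [Matrix.det_succ_column_zero, Fin.sum_univ_succ, Finset.sum_eq_zero fun i _ => by simp [mkM]]
    simp [mkM, Matrix.submatrix]
    exact M.2⟩, by
    refine ⟨rfl, rfl, rfl, rfl⟩⟩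

theorem pM_mk0 (M : SL33') (a : Fin 3 → ZMod 3) : pM (mk0 M a) = M :=
  Subtype.ext (by ext i j; rfl)

theorem pa_mk0 (M : SL33') (a : Fin 3 → ZMod 3) : pa (mk0 M a) = a := by
  funext j; simp [pa, mk0, mkM]

theorem Ph0_ext {g h : Ph0} (hM : pM g = pM h) (ha : pa g = pa h) : g = h := by
  refine Subtype.ext (Subtype.ext ?_)
  ext i j
  refine Fin.cases ?_ (fun i => ?_) i
  · refine Fin.cases ?_ (fun j => ?_) j
    · rw [g.2.1, h.2.1]
    · exact congrFun ha j
  · refine Fin.cases ?_ (fun j => ?_) j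
    · rw [Ph0_col g.2, Ph0_col h.2]
    · exact congrFun (congrFun (congrArg Subtype.val hM) i) j

/-- The middle block, for elements fixing the last row. -/
def midBlock (g : SL43) : Matrix (Fin 2) (Fin 2) (ZMod 3) := !![g.1 1 1, g.1 1 2; g.1 2 1, g.1 2 2]

/-- Centralizing the centre. -/
def FixRow (g : SL43) : Prop := g.1 3 1 = 0 ∧ g.1 3 2 = 0 ∧ g.1 3 3 = 1

/-- The transvection giving the centre. -/
def e03 : Ph0 := mk0 1 ![0, 0, 1]

end CfsgLib.L43Rec
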