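import Cfsg.Agent.Lib.L43Rec.TwoMu
import Cfsg.Agent.Lib.Basic

/-!
The point stabilizer inside PSL(4,3): a maximal parabolic subgroup.
-/

set_option autoImplicit false

namespace CfsgLib.L43Rec

open Subgroup Matrix Cfsg

theorem col_move : ∀ c : Fin 3 → ZMod 3, c ≠ 0 → ∃ M : SL33', ∀ i, M.1 i 0 = c i := by
  intro c hc
  have sq : ∀ x : ZMod 3, x ≠ 0 → x * x = 1 := by decide
  by_cases h0 : c 0 = 0
  · by_cases h1 : c 1 = 0
    · have h2 : c 2 ≠ 0 := fun h2 => hc (funext fun i => by fin_cases i <;> assumption)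
      refine ⟨⟨!![0, c 2, 0; 0, 0, 1; c 2, 0, 0], by rw [Matrix.det_fin_three]; simp [sq _ h2]⟩, fun i => ?_⟩
      fin_cases i <;> simp [h0, h1]
    · refine ⟨⟨!![0, -c 1, 0; c 1, 0, 0; c 2, 0, 1], by rw [Matrix.det_fin_three]; simp [sq _ h1]⟩, fun i => ?_⟩
      fin_cases i <;> simp [h0]
  · refine ⟨⟨!![c 0, 0, 0; c 1, c 0, 0; c 2, 0, 1], by rw [Matrix.det_fin_three]; simp [sq _ h0]⟩, fun i => ?_⟩
    fin_cases i <;> simp

/-- The projection to PSL(4,3), on the stabilizer. -/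
noncomputable def parMap : Ph0 →* Matrix.ProjectiveSpecialLinearGroup (Fin 4) (ZMod 3) :=
  (QuotientGroup.mk' (Subgroup.center SL43)).comp Ph0.subtype

theorem mem_center4 {g : SL43} : g ∈ Subgroup.center SL43 ↔ g = 1 ∨ g = ng4 := by
  rw [Matrix.SpecialLinearGroup.mem_center_iff, Fintype.card_fin]
  constructor
  · rintro ⟨r, hr, hrg⟩
    rcases center_four r hr with rfl | rfl
    · exact Or.inl (Subtype.ext (by rw [← hrg]; simp))
    · exact Or.inr (Subtype.ext (by rw [ng4_val, ← hrg, map_neg, map_one]))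
  · rintro (rfl | rfl)
    · exact ⟨1, one_pow 4, by simp⟩
    · exact ⟨-1, by decide, by rw [ng4_val, map_neg, map_one]⟩

theorem parMap_inj : Function.Injective parMap := by
  rw [injective_iff_map_eq_one]
  intro g hg
  have h : (g : SL43) ∈ Subgroup.center SL43 := (QuotientGroup.eq_one_iff _).1 hg
  rcases mem_center4.1 h with h | h
  · exact Subtype.ext h
  · have h0 := g.2.1
    rw [h, ng4_val] at h0
    simp at h0
    exact absurd h0 (by decide)

theorem par_coatom : IsCoatom parMap.range := by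
  have hcen : ∀ g : SL43, QuotientGroup.mk' (Subgroup.center SL43) g ∈ parMap.range →
      g.1 1 0 = 0 ∧ g.1 2 0 = 0 ∧ g.1 3 0 = 0 := by
    rintro g ⟨p, hp⟩
    have h := QuotientGroup.eq.1 (show QuotientGroup.mk (s := Subgroup.center SL43) (p : SL43) = QuotientGroup.mk g from hp)
    obtain ⟨-, p1, p2, p3⟩ := p.2
    rcases mem_center4.1 h with e | e
    · rw [← inv_mul_eq_one.1 e]
      exact ⟨p1, p2, p3⟩
    · rw [inv_mul_eq_iff_eq_mul.1 e, Matrix.SpecialLinearGroup.coe_mul, ng4_val, mul_neg, mul_one]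
      exact ⟨by simp [p1], by simp [p2], by simp [p3]⟩
  refine ⟨fun h => ?_, fun H hH => ?_⟩
  · have := (hcen mel4 (h ▸ mem_top _)).1
    revert this
    decide +kernel
  set H' : Subgroup SL43 := H.comap (QuotientGroup.mk' (Subgroup.center SL43)) with hH'
  have hP : ∀ p : Ph0, (p : SL43) ∈ H' := fun p => hH.le ⟨p, rfl⟩
  obtain ⟨x, hxH, hxP⟩ := SetLike.exists_of_lt hH
  obtain ⟨g, rfl⟩ := QuotientGroup.mk'_surjective _ x
  have hout : ¬(g.1 1 0 = 0 ∧ g.1 2 0 = 0 ∧ g.1 3 0 = 0) := by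
    intro h
    refine hxP ?_
    have hd := g.2
    rw [Matrix.det_succ_column_zero, Fin.sum_univ_succ, Finset.sum_eq_zero fun i _ => by
      fin_cases i <;> simp [h.1, h.2.1, h.2.2], add_zero] at hd
    simp only [Fin.val_zero, pow_zero, one_mul] at hd
    have key : ∀ a b : ZMod 3, a * b = 1 → a = 1 ∨ a = -1 := by decide
    rcases key _ _ hd with h0 | h0
    · exact ⟨⟨g, h0, h.1, h.2.1, h.2.2⟩, rfl⟩
    · refine ⟨⟨ng4 * g, ?_⟩, ?_⟩
      · have e : ∀ i j, (ng4 * g).1 i j = -g.1 i j := fun i j => by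
          rw [Matrix.SpecialLinearGroup.coe_mul, ng4_val, neg_mul, one_mul, Matrix.neg_apply]
        exact ⟨by rw [e, h0, neg_neg], by rw [e, h.1, neg_zero], by rw [e, h.2.1, neg_zero], by rw [e, h.2.2, neg_zero]⟩
      · show QuotientGroup.mk' _ (ng4 * g) = _
        rw [map_mul, (show QuotientGroup.mk' (Subgroup.center SL43) ng4 = 1 from
          (QuotientGroup.eq_one_iff _).2 (mem_center4.2 (Or.inr rfl))), one_mul]
  -- every column outside the line is reached
  have reach : ∀ v : Fin 4 → ZMod 3, ¬(v 1 = 0 ∧ v 2 = 0 ∧ v 3 = 0) → ∃ p : Ph0, ∀ i, (p : SL43).1 i 1 = v i := by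
    intro v hv
    obtain ⟨M, hM⟩ := col_move ![v 1, v 2, v 3] fun h => hv ⟨congrFun h 0, congrFun h 1, congrFun h 2⟩
    refine ⟨mk0 M ![v 0, 0, 0], fun i => ?_⟩
    show mkM M _ i 1 = v i
    fin_cases i
    · rfl
    · exact hM 0
    · exact hM 1
    · exact hM 2
  obtain ⟨p0, hp0⟩ := reach (fun i => g.1 i 0) hout
  have key : ∀ m : SL43, ¬(m.1 1 0 = 0 ∧ m.1 2 0 = 0 ∧ m.1 3 0 = 0) → m ∈ H' := by
    intro m hm
    obtain ⟨q, hq⟩ := reach (fun i => m.1 i 0) hm
    have hcol : ∀ i, ((q : SL43) * (p0 : SL43)⁻¹ * g).1 i 0 = m.1 i 0 := fun i => by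
      rw [Matrix.SpecialLinearGroup.coe_mul, Matrix.mul_apply,
        Finset.sum_congr rfl fun j _ => by rw [← hp0 j], ← Matrix.mul_apply, ← Matrix.SpecialLinearGroup.coe_mul,
        inv_mul_cancel_right]
      exact hq i
    set w := (q : SL43) * (p0 : SL43)⁻¹ * g with hw
    have hwH : w ∈ H' := mul_mem (mul_mem (hP q) (inv_mem (hP p0))) hxH
    have h1 : w⁻¹ * m ∈ Ph0 := by
      have hc : ∀ i, (w⁻¹ * m).1 i 0 = (1 : Matrix (Fin 4) (Fin 4) (ZMod 3)) i 0 := fun i => by
        rw [Matrix.SpecialLinearGroup.coe_mul, Matrix.mul_apply, Finset.sum_congr rfl fun j _ => by rw [← hcol j],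
          ← Matrix.mul_apply, ← Matrix.SpecialLinearGroup.coe_mul, inv_mul_cancel, Matrix.SpecialLinearGroup.coe_one]
      exact ⟨(hc 0).trans rfl, (hc 1).trans rfl, (hc 2).trans rfl, (hc 3).trans rfl⟩
    have := mul_mem hwH (hP ⟨_, h1⟩)
    rwa [mul_inv_cancel_left] at this
  refine eq_top_iff.2 fun y _ => ?_
  obtain ⟨m, rfl⟩ := QuotientGroup.mk'_surjective _ y
  show m ∈ H'
  by_cases hm : m.1 1 0 = 0 ∧ m.1 2 0 = 0 ∧ m.1 3 0 = 0
  · have hg : g ∈ H' := hxH
    have := key (g * m) (by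
      intro h
      refine hout ?_
      have e : ∀ i, (g * m).1 i 0 = g.1 i 0 * m.1 0 0 := fun i => by
        rw [Matrix.SpecialLinearGroup.coe_mul, Matrix.mul_apply, Fin.sum_univ_four, hm.1, hm.2.1, hm.2.2]
        simp
      have h00 : m.1 0 0 ≠ 0 := fun h0 => by
        have hd := m.2
        rw [Matrix.det_succ_column_zero, Finset.sum_eq_zero fun i _ => by
          fin_cases i <;> simp [h0, hm.1, hm.2.1, hm.2.2]] at hd
        exact zero_ne_one hd
      rw [e, e, e] at h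
      exact ⟨(mul_eq_zero.1 h.1).resolve_right h00, (mul_eq_zero.1 h.2.1).resolve_right h00,
        (mul_eq_zero.1 h.2.2).resolve_right h00⟩)
    have := mul_mem (inv_mem hg) this
    rwa [inv_mul_cancel_left] at this
  · exact key m hm

/-- An involution of SL(3,3). -/
def inv33 : SL33' := ⟨!![-1, 0, 0; 0, -1, 0; 0, 0, 1], by decide +kernel⟩

theorem pow_three_one : ∀ r : ZMod 3, r ^ 3 = 1 → r = 1 := by decide

theorem add_three : ∀ u : ZMod 3, u + (u + u) = 0 := by decide

theorem pCore_ker : pCore 3 Ph0 = pM.ker := by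
  haveI : Fact (Nat.Prime 3) := ⟨Nat.prime_three⟩
  refine le_antisymm ?_ ?_
  · have hsurj : Function.Surjective pM := fun M => ⟨mk0 M 0, pM_mk0 M 0⟩
    have hc : Subgroup.center SL33' = ⊥ := (eq_bot_iff_forall _).2 fun g hg => by
      obtain ⟨r, hr, hrg⟩ := Matrix.SpecialLinearGroup.mem_center_iff.1 hg
      rw [Fintype.card_fin] at hr
      exact Subtype.ext (by rw [← hrg, pow_three_one r hr]; simp)
    haveI := CfsgLib.SLPerfect.isSimpleGroup (F := ZMod 3) (n := 3) (by norm_num)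
    set π := QuotientGroup.mk' (Subgroup.center SL33') with hπ
    set N := (pCore 3 Ph0).map pM with hN
    haveI : (pCore 3 Ph0).Normal := inferInstance
    haveI hNn : N.Normal := Subgroup.Normal.map inferInstance _ hsurj
    haveI : (N.map π).Normal := Subgroup.Normal.map hNn _ (QuotientGroup.mk'_surjective _)
    have hp : IsPGroup 3 (N.map π) := (((CfsgLib.isPGroup_pCore 3)).map pM).map π
    rcases IsSimpleGroup.eq_bot_or_eq_top_of_normal (N.map π) inferInstance with h | h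
    · intro x hx
      have : π (pM x) ∈ N.map π := ⟨_, ⟨x, hx, rfl⟩, rfl⟩
      rw [h, mem_bot] at this
      have := (QuotientGroup.eq_one_iff (N := Subgroup.center SL33') _).1 this
      rw [hc, mem_bot] at this
      exact this
    · exfalso
      obtain ⟨k, hk⟩ := hp ⟨π inv33, by rw [h]; exact mem_top _⟩
      have h1 : π inv33 ^ 3 ^ k = 1 := congrArg Subtype.val hk
      obtain ⟨m, hm⟩ : Odd (3 ^ k) := Odd.pow (by decide)
      rw [hm, pow_succ, pow_mul, ← map_pow, show inv33 ^ 2 = 1 by decide +kernel, map_one, one_pow, one_mul] at h1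
      have := (QuotientGroup.eq_one_iff (N := Subgroup.center SL33') _).1 h1
      rw [hc, mem_bot] at this
      exact absurd this (by decide +kernel)
  · refine CfsgLib.le_pCore fun g => ⟨1, Subtype.ext ?_⟩
    rw [pow_one, SubgroupClass.coe_pow, pow_three', OneMemClass.coe_one]
    refine Ph0_ext ?_ ?_
    · rw [map_mul, map_mul, show pM (g : Ph0) = 1 from g.2, one_mul, one_mul, map_one]
    · rw [pa_mul, pa_mul, show pM (g : Ph0) = 1 from g.2, Matrix.SpecialLinearGroup.coe_one, Matrix.vecMul_one,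
        Matrix.vecMul_one]
      funext j
      simp only [Pi.add_apply, add_three]
      simp [pa, Matrix.one_apply, (Fin.succ_ne_zero j).symm]

theorem card_pM_ker : Nat.card pM.ker = 27 := by
  let f : (Fin 3 → ZMod 3) → pM.ker := fun a => ⟨mk0 1 a, pM_mk0 1 a⟩
  have hf : Function.Bijective f := by
    refine ⟨fun a b e => ?_, fun g => ⟨pa (g : Ph0), Subtype.ext (Ph0_ext ?_ ?_)⟩⟩
    · rw [← pa_mk0 1 a, ← pa_mk0 1 b]
      exact congrArg (fun g : pM.ker => pa (g : Ph0)) e
    · show pM (mk0 1 _) = _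
      rw [pM_mk0]; exact g.2.symm
    · show pa (mk0 1 _) = _
      rw [pa_mk0]
  rw [← Nat.card_eq_of_bijective f hf, Nat.card_fun, Nat.card_zmod, Nat.card_eq_fintype_card, Fintype.card_fin]
  rfl

theorem exists_parabolic {G : Type*} [Group G] (h : Nonempty (G ≃* Ph0)) :
    ∃ (P : Subgroup (Matrix.ProjectiveSpecialLinearGroup (Fin 4) (ZMod 3))),
      IsCoatom P ∧ Nat.card (Cfsg.pCore 3 P) = 27 ∧
      Nonempty (P ⧸ Cfsg.pCore 3 P ≃* Matrix.SpecialLinearGroup (Fin 3) (ZMod 3)) ∧ Nonempty (G ≃* P) := by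
  obtain ⟨f⟩ := h
  let ep : Ph0 ≃* parMap.range := MonoidHom.ofInjective parMap_inj
  have hcore : (pM.ker).map ep.toMonoidHom = pCore 3 parMap.range := by
    rw [← pCore_ker, CfsgLib.pCore_map_equiv]
  refine ⟨parMap.range, par_coatom, ?_, ⟨?_⟩, ⟨f.trans ep⟩⟩
  · rw [← hcore, card_map_of_injective (f := ep.toMonoidHom) ep.injective, card_pM_ker]
  · exact (QuotientGroup.congr pM.ker (pCore 3 parMap.range) ep hcore).symm.trans
      (QuotientGroup.quotientKerEquivOfSurjective pM fun M => ⟨mk0 M 0, pM_mk0 M 0⟩)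

end CfsgLib.L43Rec
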