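import Cfsg.Agent.Lib.L43Rec.Coord

/-!
A conjugate of the central element inside the core: the intersection of the two cores is elementary of order 27,
the conjugate is singular, and coordinates are adapted to it.
-/

set_option autoImplicit false

namespace CfsgLib.L43Rec

open Subgroup

universe u

/-- The diagonal automorphism of SL(2,3). -/
def flipHom : SL23 →* SL23 where
  toFun g := ⟨!![g.1 0 0, -g.1 0 1; -g.1 1 0, g.1 1 1], by
    have := g.2
    rw [Matrix.det_fin_two] at this ⊢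
    simpa using this⟩
  map_one' := Subtype.ext (show (!![(1 : SL23).1 0 0, -(1 : SL23).1 0 1; -(1 : SL23).1 1 0, (1 : SL23).1 1 1]) =
      (1 : Matrix (Fin 2) (Fin 2) (ZMod 3)) by decide +kernel)
  map_mul' := fun x y => Subtype.ext ((by decide +kernel : ∀ x y : SL23,
      (!![(x * y).1 0 0, -(x * y).1 0 1; -(x * y).1 1 0, (x * y).1 1 1] : Matrix (Fin 2) (Fin 2) (ZMod 3)) =
      !![x.1 0 0, -x.1 0 1; -x.1 1 0, x.1 1 1] * !![y.1 0 0, -y.1 0 1; -y.1 1 0, y.1 1 1]) x y)

/-- The diagonal automorphism as an equivalence. -/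
def flipEquiv : SL23 ≃* SL23 :=
  { flipHom with invFun := flipHom, left_inv := by decide +kernel, right_inv := by decide +kernel }

theorem three_to_mU : ∀ g : SL23, g * g * g = 1 → g ≠ 1 →
    ∃ a : SL23, a * g * a⁻¹ = mU ∨ a * flipEquiv g * a⁻¹ = mU := by decide +kernel

namespace Setting

variable {G : Type u} [Group G] (D : Setting G)

theorem Q_isP : IsPGroup 3 D.Q := IsPGroup.of_card (n := 5) (by rw [D.Q_card]; norm_num)

theorem card_centQ [Finite G] {q : G} (hq : q ∈ D.Q) (hqz : q ∉ D.Zc) :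
    Nat.card (D.Q ⊓ centralizer ({q} : Set G) : Subgroup G) = 81 := by
  let f : D.Q →* G :=
    { toFun := fun a => cm (a : G) q
      map_one' := by simp [cm]
      map_mul' := fun a b => D.cm_mul_left a b ⟨q, hq⟩ }
  have h1 := card_mul_index f.ker
  rw [index_ker, D.Q_card] at h1
  have hr : Nat.card f.range = 3 := by
    have hle : f.range ≤ D.Zc := by rintro _ ⟨a, rfl⟩; exact D.Q_comm a a.2 q hq
    have hd := card_dvd_of_le hle
    rw [D.card_Zc, Nat.dvd_prime Nat.prime_three] at hd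
    refine hd.resolve_left fun h => hqz (D.Q_centre q hq fun x hx => ?_)
    have hb : f ⟨x, hx⟩ ∈ (⊥ : Subgroup G) := (eq_bot_of_card_eq _ h) ▸ ⟨_, rfl⟩
    have hb' : x * q * x⁻¹ * q⁻¹ = 1 := hb
    exact (mul_inv_eq_iff_eq_mul.1 (mul_inv_eq_one.1 hb')).symm
  rw [hr] at h1
  have e : Nat.card f.ker = Nat.card (D.Q ⊓ centralizer ({q} : Set G) : Subgroup G) :=
    Nat.card_congr ⟨fun a => ⟨(a.1 : G), a.1.2, mem_centralizer_singleton_iff.2
      (mul_inv_eq_iff_eq_mul.1 (mul_inv_eq_one.1 (show (a.1 : G) * q * (a.1 : G)⁻¹ * q⁻¹ = 1 from a.2)))⟩,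
      fun a => ⟨⟨a, a.2.1⟩, show cm (a : G) q = 1 by rw [cm, mem_centralizer_singleton_iff.1 a.2.2]; group⟩,
      fun a => rfl, fun a => rfl⟩
  omega

theorem dvd_243 [Finite G] {B : Subgroup G} (hB : B ≤ D.Q) : ∃ n ≤ 5, Nat.card B = 3 ^ n :=
  (Nat.dvd_prime_pow Nat.prime_three).1 (show Nat.card B ∣ 3 ^ 5 by
    have := card_dvd_of_le hB; rw [D.Q_card] at this; exact this)

/-- Abelian subgroups of the core have order at most 27. -/
theorem abelian_Q [Finite G] {B : Subgroup G} (hB : B ≤ D.Q) (hc : ∀ a ∈ B, ∀ b ∈ B, a * b = b * a) :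
    Nat.card B ≤ 27 := by
  by_contra hlt
  obtain ⟨n, hn5, hn⟩ := D.dvd_243 hB
  have h4 : 81 ≤ Nat.card B := by
    interval_cases n <;> omega
  obtain ⟨q, hq, hqB⟩ : ∃ q ∈ D.Q, q ∉ B := by
    by_contra h
    push Not at h
    have hQ : D.Q ≤ D.Zc := fun q hq => D.Q_centre q hq fun x hx => hc q (h q hq) x (h x hx)
    have := card_le_of_le hQ
    rw [D.Q_card, D.card_Zc] at this
    omega
  have hqz : q ∉ D.Zc := by
    intro hqz
    have hsub : B ⊔ zpowers q ≤ D.Q := sup_le hB (zpowers_le.2 hq)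
    obtain ⟨m, hm5, hm⟩ := D.dvd_243 hsub
    have hne : Nat.card B < Nat.card (B ⊔ zpowers q : Subgroup G) :=
      lt_of_le_of_ne (card_le_of_le le_sup_left) fun e => hqB (by
        rw [eq_of_le_of_card_ge (le_sup_left : B ≤ B ⊔ zpowers q) e.ge]; exact mem_sup_right (mem_zpowers q))
    have he : B ⊔ zpowers q = D.Q := eq_of_le_of_card_ge hsub (by
      rw [D.Q_card, hm]
      have : 5 ≤ m := by
        by_contra h
        have := Nat.pow_le_pow_right (show 0 < 3 by norm_num) (show m ≤ 4 by omega)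
        omega
      exact Nat.pow_le_pow_right (show 0 < 3 by norm_num) this)
    have hQ : D.Q ≤ D.Zc := fun a ha => D.Q_centre a ha fun b hb => by
      have hle : B ⊔ zpowers q ≤ centralizer ((B : Set G)) := sup_le
        (fun u hu => mem_centralizer_iff.2 fun v hv => hc v hv u hu)
        (zpowers_le.2 (mem_centralizer_iff.2 fun v hv => D.comm_Zc (D.Q_z v (hB hv)) hqz))
      have hle2 : B ⊔ zpowers q ≤ centralizer ((B ⊔ zpowers q : Subgroup G) : Set G) := by
        refine le_centralizer_iff.1 (sup_le (le_centralizer_iff.1 hle) (zpowers_le.2 ?_))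
        exact mem_centralizer_iff.2 fun v hv => D.comm_Zc (D.Q_z v (hsub hv)) hqz
      exact (mem_centralizer_iff.1 (hle2 (he.ge ha)) b (he.ge hb)).symm
    have := card_le_of_le hQ
    rw [D.Q_card, D.card_Zc] at this
    omega
  -- the elements of `B` centralizing `q` are central
  have hC : B ⊓ centralizer ({q} : Set G) ≤ D.Zc := by
    intro b hb
    refine D.Q_centre b (hB hb.1) fun x hx => ?_
    have hle : B ⊔ zpowers q ≤ centralizer ({b} : Set G) := sup_le
      (fun u hu => mem_centralizer_singleton_iff.2 (hc u hu b hb.1))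
      (zpowers_le.2 (mem_centralizer_singleton_iff.2 (mem_centralizer_singleton_iff.1 hb.2).symm))
    have hsub : B ⊔ zpowers q ≤ D.Q := sup_le hB (zpowers_le.2 hq)
    obtain ⟨m, hm5, hm⟩ := D.dvd_243 hsub
    have hne : Nat.card B < Nat.card (B ⊔ zpowers q : Subgroup G) :=
      lt_of_le_of_ne (card_le_of_le le_sup_left) fun e => hqB (by
        rw [eq_of_le_of_card_ge (le_sup_left : B ≤ B ⊔ zpowers q) e.ge]; exact mem_sup_right (mem_zpowers q))
    have he : B ⊔ zpowers q = D.Q := eq_of_le_of_card_ge hsub (by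
      rw [D.Q_card, hm]
      have : 5 ≤ m := by
        by_contra h
        have := Nat.pow_le_pow_right (show 0 < 3 by norm_num) (show m ≤ 4 by omega)
        omega
      exact Nat.pow_le_pow_right (show 0 < 3 by norm_num) this)
    exact (mem_centralizer_singleton_iff.1 (hle (he.ge hx))).symm
  let f : B →* G :=
    { toFun := fun a => cm (a : G) q
      map_one' := by simp [cm]
      map_mul' := fun a b => D.cm_mul_left ⟨a, hB a.2⟩ ⟨b, hB b.2⟩ ⟨q, hq⟩ }
  have h1 := card_mul_index f.ker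
  rw [index_ker] at h1
  have hr : Nat.card f.range ≤ 3 := by
    rw [← D.card_Zc]
    exact card_le_of_le (by rintro _ ⟨a, rfl⟩; exact D.Q_comm a (hB a.2) q hq)
  have hk : Nat.card f.ker ≤ 3 := by
    rw [← D.card_Zc]
    refine le_trans (le_of_eq ?_) (card_le_of_le hC)
    exact Nat.card_congr ⟨fun a => ⟨(a.1 : G), a.1.2, mem_centralizer_singleton_iff.2
      (mul_inv_eq_iff_eq_mul.1 (mul_inv_eq_one.1 (show (a.1 : G) * q * (a.1 : G)⁻¹ * q⁻¹ = 1 from a.2)))⟩,
      fun a => ⟨⟨a, a.2.1⟩, show cm (a : G) q = 1 by rw [cm, mem_centralizer_singleton_iff.1 a.2.2]; group⟩,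
      fun a => rfl, fun a => rfl⟩
  have := Nat.mul_le_mul hk hr
  omega

theorem three_sub {P : Subgroup SL23} (hP : IsPGroup 3 P) : Nat.card P ≤ 3 := by
  obtain ⟨n, hn⟩ := IsPGroup.iff_card.1 hP
  have hd : Nat.card P ∣ 24 := by
    have h : Nat.card SL23 = 24 := by rw [Nat.card_eq_fintype_card]; decide +kernel
    exact h ▸ card_subgroup_dvd_card P
  rw [hn] at hd ⊢
  by_contra h
  have h2 : 2 ≤ n := by
    by_contra h2
    exact h (le_trans (Nat.pow_le_pow_right (by norm_num) (show n ≤ 1 by omega)) le_rfl)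
  have := (pow_dvd_pow 3 h2).trans hd
  norm_num at this

/-- A three-group centralizing `z` meets the core in index at most three. -/
theorem inter_index [Finite G] {P : Subgroup G} (hP : IsPGroup 3 P) (hPz : P ≤ D.Ct) :
    Nat.card P ≤ 3 * Nat.card (P ⊓ D.Q : Subgroup G) := by
  let f : P →* SL23 := D.φ.comp (inclusion hPz)
  have h1 := card_mul_index f.ker
  rw [index_ker] at h1
  have hk : Nat.card f.ker = Nat.card (P ⊓ D.Q : Subgroup G) :=
    Nat.card_congr ⟨fun a => ⟨(a.1 : G), a.1.2, (D.φ_ker _).1 a.2⟩,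
      fun a => ⟨⟨a, a.2.1⟩, (D.φ_ker _).2 a.2.2⟩, fun a => rfl, fun a => rfl⟩
  have hr : Nat.card f.range ≤ 3 := three_sub (hP.of_surjective f.rangeRestrict f.rangeRestrict_surjective)
  rw [← h1, hk, mul_comm 3]
  exact Nat.mul_le_mul_left _ hr

end Setting

/-- A frame: coordinates adapted to a conjugate of the centre. -/
structure Frame (G : Type u) [Group G] where
  /-- the setting -/
  D : Setting G
  /-- the conjugating element -/
  g : G
  /-- the conjugate is in the core -/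
  x_Q : g * D.z * g⁻¹ ∈ D.Q
  /-- not central -/
  x_nZ : g * D.z * g⁻¹ ∉ zpowers D.z
  /-- the coordinates -/
  F : Coord D
  /-- of the conjugate -/
  x_cd : F.cd (g * D.z * g⁻¹) = (1, 0, 0, 0)
  /-- an element of the second core -/
  c : centralizer ({D.z} : Set G)
  /-- in the second core -/
  c_Q : (c : G) ∈ (D.conj g).Q
  /-- with the given image -/
  c_φ : D.φ c = mU
  /-- `z` lies in the second core -/
  z_Q' : D.z ∈ (D.conj g).Q
  /-- the intersection has order 27 -/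
  E_card : Nat.card (D.Q ⊓ (D.conj g).Q : Subgroup G) = 27
  /-- the intersection is abelian -/
  E_comm : ∀ a ∈ D.Q ⊓ (D.conj g).Q, ∀ b ∈ D.Q ⊓ (D.conj g).Q, a * b = b * a
  /-- the intersection is not fixed -/
  E_move : ∃ y ∈ D.Q ⊓ (D.conj g).Q, (F.cd y).2.1 ≠ 0

/-- Existence of a frame. -/
theorem Setting.exists_Frame {G : Type u} [Group G] [Finite G] (D : Setting G) {g : G}
    (hxQ : g * D.z * g⁻¹ ∈ D.Q) (hxZ : g * D.z * g⁻¹ ∉ D.Zc) :
    ∃ K : Frame G, K.D.z = D.z ∧ K.D.Q = D.Q ∧ K.g = g := by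
  classical
  set D' := D.conj g with hD'
  set x := g * D.z * g⁻¹ with hx
  have hx' : D'.z = x := rfl
  set P : Subgroup G := D.Q ⊓ centralizer ({x} : Set G) with hPdef
  have hP81 : Nat.card P = 81 := D.card_centQ hxQ hxZ
  have hP3 : IsPGroup 3 P := D.Q_isP.to_le inf_le_left
  have hPC : P ≤ D'.Ct := fun a ha => by rw [D'.mem_Ct, hx']; exact mem_centralizer_singleton_iff.1 ha.2
  have h27 : 27 ≤ Nat.card (P ⊓ D'.Q : Subgroup G) := by
    have := D'.inter_index hP3 hPC
    omega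
  have hdisj : ∀ a : G, a ∈ D.Zc → a ∈ D'.Zc → a = 1 := by
    intro a h1 h2
    obtain ⟨i, hi, rfl⟩ := D'.mem_Zc.1 h2
    rw [hx'] at h1 ⊢
    by_contra hne
    refine hxZ ?_
    interval_cases i
    · simp at hne
    · simpa using h1
    · have h3 : x ^ 3 = 1 := D.Q_exp x hxQ
      have : x = (x ^ 2)⁻¹ := eq_inv_of_mul_eq_one_left (by rw [← pow_succ']; exact h3)
      rw [this]; exact inv_mem h1
  set E : Subgroup G := D.Q ⊓ D'.Q with hE
  have hPE : P ⊓ D'.Q = E := le_antisymm (fun a ha => ⟨ha.1.1, ha.2⟩) fun a ha =>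
    ⟨⟨ha.1, mem_centralizer_singleton_iff.2 (D'.Q_z a ha.2)⟩, ha.2⟩
  rw [hPE] at h27
  have hEab : ∀ a ∈ E, ∀ b ∈ E, a * b = b * a := fun a ha b hb => mul_inv_eq_iff_eq_mul.1 (mul_inv_eq_one.1
    (hdisj _ (D.Q_comm a ha.1 b hb.1) (D'.Q_comm a ha.2 b hb.2)))
  have hE27 : Nat.card E = 27 := le_antisymm (D.abelian_Q inf_le_left hEab) h27
  have hxE : x ∈ E := ⟨hxQ, by rw [← hx']; exact D'.z_Q⟩
  -- the centre lies in the second core
  have hzQ' : D.z ∈ D'.Q := by
    obtain ⟨a, ha, b, hb, hab⟩ : ∃ a ∈ P, ∃ b ∈ P, a * b ≠ b * a := by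
      by_contra h
      push Not at h
      have := D.abelian_Q (B := P) inf_le_left h
      omega
    have hc1 : a * b * a⁻¹ * b⁻¹ ∈ D.Zc := D.Q_comm a ha.1 b hb.1
    have hc2 : a * b * a⁻¹ * b⁻¹ ∈ D'.Q := by
      refine (D'.φ_ker ⟨_, mul_mem (mul_mem (mul_mem (hPC ha) (hPC hb)) (inv_mem (hPC ha))) (inv_mem (hPC hb))⟩).1 ?_
      let f : P →* SL23 := D'.φ.comp (inclusion hPC)
      have hcard : Nat.card f.range ≤ 3 := Setting.three_sub (hP3.of_surjective f.rangeRestrict f.rangeRestrict_surjective)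
      have hcomm : ∀ u v : f.range, u * v = v * u := by
        haveI : Fact (Nat.Prime 3) := ⟨Nat.prime_three⟩
        obtain ⟨n, hn⟩ := IsPGroup.iff_card.1 (hP3.of_surjective f.rangeRestrict f.rangeRestrict_surjective)
        have : n ≤ 1 := by
          by_contra h
          have := Nat.pow_le_pow_right (show 0 < 3 by norm_num) (show 2 ≤ n by omega)
          omega
        interval_cases n
        · intro u v
          haveI := (Nat.card_eq_one_iff_unique.1 hn).1
          exact Subsingleton.elim _ _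
        · haveI := isCyclic_of_prime_card (α := f.range) (p := 3) (by rw [hn, pow_one])
          exact fun u v => (IsCyclic.commGroup (α := f.range)).mul_comm u v
      have e := congrArg Subtype.val (hcomm ⟨f ⟨a, ha⟩, _, rfl⟩ ⟨f ⟨b, hb⟩, _, rfl⟩)
      simp only [Subgroup.coe_mul] at e
      rw [show (⟨_, mul_mem (mul_mem (mul_mem (hPC ha) (hPC hb)) (inv_mem (hPC ha))) (inv_mem (hPC hb))⟩ : D'.Ct) =
        ⟨a, hPC ha⟩ * ⟨b, hPC hb⟩ * (⟨a, hPC ha⟩ : D'.Ct)⁻¹ * (⟨b, hPC hb⟩ : D'.Ct)⁻¹ from rfl, map_mul, map_mul,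
        map_mul, map_inv, map_inv, show D'.φ ⟨a, hPC ha⟩ = f ⟨a, ha⟩ from rfl,
        show D'.φ ⟨b, hPC hb⟩ = f ⟨b, hb⟩ from rfl, e]
      group
    obtain ⟨i, hi, he⟩ := D.mem_Zc.1 hc1
    have hne : i ≠ 0 := fun h => hab (mul_inv_eq_iff_eq_mul.1 (mul_inv_eq_one.1 (by rw [he, h, pow_zero])))
    rw [he] at hc2
    interval_cases i
    · omega
    · simpa using hc2
    · have h3 := pow_mem hc2 2
      rw [← pow_mul, show 2 * 2 = 3 + 1 from rfl, pow_succ, D.z_cube, one_mul] at h3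
      exact h3
  -- an element of the second core outside the first
  set P' : Subgroup G := D'.Q ⊓ centralizer ({D.z} : Set G)
  have hP'81 : Nat.card P' = 81 := D'.card_centQ hzQ' fun h => D.z_ne (hdisj _ (mem_zpowers _) h)
  have hEP' : E ≤ P' := fun a ha => ⟨ha.2, mem_centralizer_singleton_iff.2 (D.Q_z a ha.1)⟩
  obtain ⟨c, hc, y, hy, hcy⟩ : ∃ c ∈ P', ∃ y ∈ E, c * y * c⁻¹ * y⁻¹ ∉ D.Zc := by
    by_contra h
    push Not at h
    have hcom : ∀ c ∈ P', ∀ y ∈ E, c * y = y * c := fun c hc y hy => mul_inv_eq_iff_eq_mul.1 (mul_inv_eq_one.1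
      (hdisj _ (h c hc y hy) (D'.Q_comm c hc.1 y hy.2)))
    obtain ⟨c, hc, hcE⟩ : ∃ c ∈ P', c ∉ E := by
      by_contra h'
      push Not at h'
      have := card_le_of_le (show P' ≤ E from h')
      omega
    have hle : E ⊔ zpowers c ≤ D'.Q := sup_le inf_le_right (zpowers_le.2 hc.1)
    have hc' : ∀ y ∈ E, c * y = y * c := hcom c hc
    have h1 : E ⊔ zpowers c ≤ centralizer (E : Set G) := sup_le
      (fun a ha => mem_centralizer_iff.2 fun b hb => hEab b hb a ha)
      (zpowers_le.2 (mem_centralizer_iff.2 fun b hb => (hc' b hb).symm))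
    have h2 : E ⊔ zpowers c ≤ centralizer ((E ⊔ zpowers c : Subgroup G) : Set G) := by
      refine le_centralizer_iff.1 (sup_le (le_centralizer_iff.1 h1) (zpowers_le.2 ?_))
      exact le_centralizer_iff.1 (sup_le (fun a ha => mem_centralizer_iff.2 fun b hb => by
        obtain ⟨i, rfl⟩ := mem_zpowers_iff.1 hb
        exact ((show Commute c a from hc' a ha).zpow_left i).eq) (zpowers_le.2 (mem_centralizer_iff.2 fun b hb => by
        obtain ⟨i, rfl⟩ := mem_zpowers_iff.1 hb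
        exact ((Commute.refl c).zpow_left i).eq))) (mem_zpowers c)
    have h27' := D'.abelian_Q hle fun a ha b hb => (mem_centralizer_iff.1 (h2 ha) b hb).symm
    exact hcE ((eq_of_le_of_card_ge (le_sup_left : E ≤ E ⊔ zpowers c) (by omega)).symm ▸
      mem_sup_right (mem_zpowers c))
  -- normalize the action
  have hcC : c ∈ D.Ct := hc.2
  have hφ : D.φ ⟨c, hcC⟩ ≠ 1 := fun h => hcy (D.Q_comm c ((D.φ_ker _).1 h) y hy.1)
  have hcube : D.φ ⟨c, hcC⟩ * D.φ ⟨c, hcC⟩ * D.φ ⟨c, hcC⟩ = 1 := by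
    rw [← map_mul, ← map_mul, show (⟨c, hcC⟩ : D.Ct) * ⟨c, hcC⟩ * ⟨c, hcC⟩ = 1 from Subtype.ext (by
      show c * c * c = 1
      rw [← pow_three']; exact D'.Q_exp c hc.1), map_one]
  obtain ⟨a, ha⟩ := three_to_mU _ hcube hφ
  obtain ⟨α, hα, hαc⟩ : ∃ α : SL23 ≃* SL23, α (-1) = -1 ∧ α (D.φ ⟨c, hcC⟩) = mU := by
    rcases ha with ha | ha
    · exact ⟨MulAut.conj a, by simp, ha⟩
    · refine ⟨flipEquiv.trans (MulAut.conj a), ?_, ha⟩
      rw [MulEquiv.trans_apply, show flipEquiv (-1) = -1 by decide +kernel]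
      simp
  set D₂ := D.twist α hα
  obtain ⟨i, hi, he⟩ := D'.mem_Zc.1 (D'.Q_comm c hc.1 y hy.2)
  rw [hx'] at he
  have hi0 : i % 3 ≠ 0 := by
    intro h0
    refine hcy ?_
    rw [he, show i = 0 by omega, pow_zero]; exact one_mem _
  obtain ⟨F, hF⟩ := D₂.exists_frame hxQ hxZ hy.1 (hEab x hxE y hy) (c := ⟨c, hcC⟩) hαc
    (by
      show c * x * c⁻¹ * x⁻¹ ∈ D.Zc
      rw [show c * x = x * c by rw [← hx']; exact D'.Q_z c hc.1]; simp)
    ⟨i, hi0, by show c * y * c⁻¹ * y⁻¹ * (x ^ i)⁻¹ ∈ D.Zc; rw [he, mul_inv_cancel]; exact one_mem _⟩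
  have hmove : (F.cd y).2.1 ≠ 0 := by
    intro h0
    have h4 : om (F.cd x) (F.cd y) = 0 := by
      have h := F.cd_cm x hxQ y hy.1
      rw [hEab x hxE y hy, show y * x * x⁻¹ * y⁻¹ = D.z ^ 0 by simp] at h
      have h2 := congrArg D.expo h
      rw [show D₂.z = D.z from rfl] at h2
      rw [D.expo_pow, D.expo_pow, Nat.cast_zero, ZMod.natCast_zmod_val] at h2
      exact h2.symm
    rw [hF] at h4
    have key : ∀ v : V4, v.2.1 = 0 → om (1, 0, 0, 0) v = 0 → act mU v = v := by decide +kernel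
    refine hcy ?_
    have hcy' : c * y * c⁻¹ ∈ D₂.Q := D.conj_Q hcC hy.1
    refine (F.cd_zero _ (mul_mem hcy' (inv_mem hy.1))).1 ?_
    have e := F.cd_mul _ (mul_mem hcy' (inv_mem hy.1)) y hy.1
    rw [inv_mul_cancel_right, F.cd_act ⟨c, hcC⟩ y hy.1, show D₂.φ ⟨c, hcC⟩ = mU from hαc, key _ h0 h4] at e
    exact (add_eq_right.1 e.symm)
  exact ⟨{ D := D₂, g := g, x_Q := hxQ, x_nZ := hxZ, F := F, x_cd := hF, c := ⟨c, hcC⟩, c_Q := hc.1, c_φ := hαc,
           z_Q' := hzQ', E_card := hE27, E_comm := hEab, E_move := ⟨y, hy, hmove⟩ }, rfl, rfl, rfl⟩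

end CfsgLib.L43Rec
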