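import Cfsg.Agent.Lib.L43Rec.PlaneEq
import Mathlib.LinearAlgebra.Matrix.Determinant.Basic

/-!
The action of the normalizer of the plane: it induces exactly SL(3,3), with kernel the plane.
-/

set_option autoImplicit false

namespace CfsgLib.L43Rec

open Subgroup Matrix

universe u

/-- The coordinates of the plane. -/
abbrev V3 := Fin 3 → ZMod 3

theorem col_solve : ∀ M : SL23, ∀ a b : ZMod 3, ∃ i j : ZMod 3,
    M.1 0 0 * i + M.1 0 1 * j = a ∧ M.1 1 0 * i + M.1 1 1 * j = b := by decide +kernel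

theorem orbit_solve : ∀ k a b c : ZMod 3, k ≠ 0 → ¬(a = 0 ∧ b = 0) →
    ∃ M : SL23, ∃ e : ZMod 3, k * M.1 1 0 = a ∧ k * M.1 1 1 = b ∧ k * e + 1 = c := by decide +kernel

namespace Frame

variable {G : Type u} [Group G] (K : Frame G)

/-- The conjugate of the centre. -/
abbrev x : G := K.g * K.D.z * K.g⁻¹

/-- The plane. -/
abbrev A : Subgroup G := K.F.plane

theorem x_A : K.x ∈ K.A := ⟨K.x_Q, by rw [K.x_cd]⟩

theorem z_A : K.D.z ∈ K.A := ⟨K.D.z_Q, by rw [(K.F.cd_zero _ K.D.z_Q).2 (mem_zpowers _)]; rfl⟩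

/-- A partner of the conjugate in the plane. -/
noncomputable def y0 : G := (K.F.cd_surj (0, -1, 0, 0)).choose

theorem y0_Q : K.y0 ∈ K.D.Q := (K.F.cd_surj (0, -1, 0, 0)).choose_spec.1

theorem y0_cd : K.F.cd K.y0 = (0, -1, 0, 0) := (K.F.cd_surj (0, -1, 0, 0)).choose_spec.2

theorem y0_A : K.y0 ∈ K.A := ⟨K.y0_Q, by rw [K.y0_cd]⟩

theorem A_comm : ∀ a ∈ K.A, ∀ b ∈ K.A, a * b = b * a := by
  have h := K.E_comm
  rwa [K.plane_eq] at h

theorem A_le_Q' : K.A ≤ (K.D.conj K.g).Q := fun _ h => (K.plane_eq.ge h).2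

theorem pow_val (q : G) (hq : q ^ 3 = 1) (a b : ZMod 3) : q ^ (a + b).val = q ^ a.val * q ^ b.val := by
  rw [← pow_add, ZMod.val_add, ← pow_eq_pow_mod _ hq]

/-- The parametrization of the plane. -/
noncomputable def ι (a : V3) : G := K.y0 ^ (a 0).val * K.x ^ (a 1).val * K.D.z ^ (a 2).val

theorem ι_mem (a : V3) : K.ι a ∈ K.A :=
  mul_mem (mul_mem (pow_mem K.y0_A _) (pow_mem K.x_A _)) (pow_mem K.z_A _)

theorem ι_add (a b : V3) : K.ι (a + b) = K.ι a * K.ι b := by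
  have h : ∀ q ∈ K.A, q ^ 3 = 1 := fun q hq => K.D.Q_exp q hq.1
  have cm : ∀ p ∈ K.A, ∀ q ∈ K.A, Commute p q := K.A_comm
  simp only [ι, Pi.add_apply, pow_val _ (h _ K.y0_A), pow_val _ (h _ K.x_A), pow_val _ (h _ K.z_A)]
  set p0 := K.y0 ^ (a 0).val; set q0 := K.y0 ^ (b 0).val
  set p1 := K.x ^ (a 1).val; set q1 := K.x ^ (b 1).val
  set p2 := K.D.z ^ (a 2).val; set q2 := K.D.z ^ (b 2).val
  have m0 : q0 ∈ K.A := pow_mem K.y0_A _
  have n1 : p1 ∈ K.A := pow_mem K.x_A _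
  have m1 : q1 ∈ K.A := pow_mem K.x_A _
  have n2 : p2 ∈ K.A := pow_mem K.z_A _
  calc p0 * q0 * (p1 * q1) * (p2 * q2) = p0 * (q0 * p1) * (q1 * p2) * q2 := by group
    _ = p0 * (p1 * q0) * (p2 * q1) * q2 := by rw [(cm _ m0 _ n1).eq, (cm _ m1 _ n2).eq]
    _ = p0 * p1 * (q0 * p2) * q1 * q2 := by group
    _ = p0 * p1 * (p2 * q0) * q1 * q2 := by rw [(cm _ m0 _ n2).eq]
    _ = _ := by group

theorem ι_zero : K.ι 0 = 1 := by simp [ι]

theorem ι_smul (k : ZMod 3) (a : V3) : K.ι (k • a) = K.ι a ^ k.val := by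
  have key : ∀ n : ℕ, K.ι ((n : ZMod 3) • a) = K.ι a ^ n := by
    intro n
    induction n with
    | zero => simp [ι_zero]
    | succ n ih => rw [Nat.cast_succ, add_smul, one_smul, ι_add, ih, pow_succ]
  have := key k.val
  rwa [ZMod.natCast_zmod_val] at this

theorem ι_single : K.ι (Pi.single 0 1) = K.y0 ∧ K.ι (Pi.single 1 1) = K.x ∧ K.ι (Pi.single 2 1) = K.D.z := by
  simp [ι, ZMod.val_one]

theorem cd_ι (a : V3) : K.F.cd (K.ι a) = (a 1, -a 0, 0, 0) := by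
  rw [ι, K.F.cd_mul _ (mul_mem (pow_mem K.y0_Q _) (pow_mem K.x_Q _)) _ (pow_mem K.D.z_Q _),
    K.F.cd_mul _ (pow_mem K.y0_Q _) _ (pow_mem K.x_Q _), K.F.cd_pow K.y0_Q, K.F.cd_pow K.x_Q, K.F.cd_pow K.D.z_Q,
    K.y0_cd, K.x_cd, (K.F.cd_zero _ K.D.z_Q).2 (mem_zpowers _), ZMod.natCast_zmod_val, ZMod.natCast_zmod_val]
  ext <;> simp

theorem ι_inj : Function.Injective K.ι := by
  intro a b e
  have h := congrArg K.F.cd e
  rw [cd_ι, cd_ι] at h
  simp only [Prod.mk.injEq, neg_inj, and_true] at h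
  have h2 : K.D.z ^ (a 2).val = K.D.z ^ (b 2).val := by
    simpa [ι, h.1, h.2] using e
  have h3 := congrArg K.D.expo h2
  rw [K.D.expo_pow, K.D.expo_pow, ZMod.natCast_zmod_val, ZMod.natCast_zmod_val] at h3
  funext i
  fin_cases i
  exacts [h.2, h.1, h3]

theorem ι_surj {q : G} (hq : q ∈ K.A) : ∃ a, K.ι a = q := by
  set a : V3 := ![-(K.F.cd q).2.1, (K.F.cd q).1, 0] with ha
  have hz : (K.ι a)⁻¹ * q ∈ K.D.Zc := by
    refine (K.F.cd_zero _ (mul_mem (inv_mem (K.ι_mem a).1) hq.1)).1 ?_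
    rw [K.F.cd_mul _ (inv_mem (K.ι_mem a).1) _ hq.1, K.F.cd_inv (K.ι_mem a).1, cd_ι, neg_add_eq_zero]
    have h2 := hq.2
    generalize K.F.cd q = v at h2 ha
    obtain ⟨v1, v2, v3, v4⟩ := v
    obtain ⟨rfl, rfl⟩ : v3 = 0 ∧ v4 = 0 := Prod.mk.inj h2
    simp [ha]
  refine ⟨a + K.D.expo ((K.ι a)⁻¹ * q) • Pi.single 2 1, ?_⟩
  rw [ι_add, ι_smul, K.ι_single.2.2, K.D.pow_expo hz, mul_inv_cancel_left]

/-- The coordinates of an element of the plane. -/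
noncomputable def ex (q : G) : V3 := Function.invFun K.ι q

theorem ι_ex {q : G} (hq : q ∈ K.A) : K.ι (K.ex q) = q := Function.invFun_eq (K.ι_surj hq)

/-- The normalizer of the plane. -/
abbrev N : Subgroup G := normalizer (K.A : Set G)

theorem conj_mem {g : G} (hg : g ∈ K.N) {q : G} (hq : q ∈ K.A) : g⁻¹ * q * g ∈ K.A :=
  mem_normalizer_iff''.1 hg q |>.1 hq

/-- The matrix of an element. -/
noncomputable def mat (g : G) : Matrix (Fin 3) (Fin 3) (ZMod 3) := fun i => K.ex (g⁻¹ * K.ι (Pi.single i 1) * g)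

theorem conj_ι {g : G} (hg : g ∈ K.N) (a : V3) : g⁻¹ * K.ι a * g = K.ι (a ᵥ* K.mat g) := by
  have ha : a = a 0 • Pi.single 0 1 + a 1 • Pi.single 1 1 + a 2 • Pi.single 2 1 := by
    funext i; fin_cases i <;> simp
  have hrow : a ᵥ* K.mat g = a 0 • K.mat g 0 + a 1 • K.mat g 1 + a 2 • K.mat g 2 := by
    funext i; simp [Matrix.vecMul, dotProduct, Fin.sum_univ_three]
  have hr : ∀ i, K.ι (K.mat g i) = g⁻¹ * K.ι (Pi.single i 1) * g := fun i => K.ι_ex (K.conj_mem hg (K.ι_mem _))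
  conv_lhs => rw [ha]
  have e : ∀ (q : G) (n : ℕ), (g⁻¹ * q * g) ^ n = g⁻¹ * q ^ n * g := fun q n => by
    have := conj_pow (i := n) (a := g⁻¹) (b := q); rwa [inv_inv] at this
  rw [hrow, ι_add, ι_add, ι_add, ι_add, ι_smul, ι_smul, ι_smul, ι_smul, ι_smul, ι_smul, hr, hr, hr, e, e, e]
  group

theorem mat_ext {g : G} (hg : g ∈ K.N) {M : Matrix (Fin 3) (Fin 3) (ZMod 3)}
    (h : ∀ i, g⁻¹ * K.ι (Pi.single i 1) * g = K.ι (M i)) : K.mat g = M := by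
  funext i
  apply K.ι_inj
  rw [← h i]
  exact K.ι_ex (K.conj_mem hg (K.ι_mem _))

/-- The matrices, as a homomorphism. -/
noncomputable def Mν : K.N →* Matrix (Fin 3) (Fin 3) (ZMod 3) where
  toFun g := K.mat g
  map_one' := K.mat_ext (one_mem _) fun i => by
    rw [show (1 : Matrix (Fin 3) (Fin 3) (ZMod 3)) i = Pi.single i 1 from funext fun j => by
      simp [Matrix.one_apply, Pi.single_apply, eq_comm]]
    simp
  map_mul' g h := K.mat_ext (mul_mem g.2 h.2) fun i => by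
    show ((g : G) * h)⁻¹ * _ * ((g : G) * h) = _
    rw [show ((g : G) * h)⁻¹ * K.ι (Pi.single i 1) * ((g : G) * h) =
      (h : G)⁻¹ * ((g : G)⁻¹ * K.ι (Pi.single i 1) * g) * h by group, K.conj_ι g.2, K.conj_ι h.2, Matrix.vecMul_vecMul]
    congr 1
    funext j
    simp [Matrix.single_one_vecMul]

theorem conj_ι' (g : K.N) (a : V3) : (g : G)⁻¹ * K.ι a * g = K.ι (a ᵥ* K.Mν g) := K.conj_ι g.2 a

theorem row_two (g : K.N) : (g : G)⁻¹ * K.D.z * g = K.ι (K.Mν g 2) := by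
  rw [← K.ι_single.2.2]
  exact (K.ι_ex (K.conj_mem g.2 (K.ι_mem _))).symm

theorem Ct_le_N : K.D.Ct ≤ K.N := fun c hc => mem_normalizer_iff.2 fun q =>
  ⟨fun hq => K.F.plane_norm hc hq, fun hq => by
    have := K.F.plane_norm (inv_mem hc) hq
    rwa [show c⁻¹ * (c * q * c⁻¹) * c⁻¹⁻¹ = q by group] at this⟩

/-- An element of the centralizer in the normalizer. -/
abbrev inC (c : K.D.Ct) : K.N := ⟨c, K.Ct_le_N c.2⟩

theorem Mν_C (c : K.D.Ct) :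
    K.Mν (K.inC c) 2 = Pi.single 2 1 ∧ K.Mν (K.inC c) 0 0 = (K.D.φ c).1 0 0 ∧
    K.Mν (K.inC c) 0 1 = (K.D.φ c).1 0 1 ∧ K.Mν (K.inC c) 1 0 = (K.D.φ c).1 1 0 ∧
    K.Mν (K.inC c) 1 1 = (K.D.φ c).1 1 1 := by
  have hcd : ∀ i, K.F.cd (K.ι (K.Mν (K.inC c) i)) = act (K.D.φ c)⁻¹ (K.F.cd (K.ι (Pi.single i 1))) := fun i => by
    rw [show K.ι (K.Mν (K.inC c) i) = (c : G)⁻¹ * K.ι (Pi.single i 1) * c from
      K.ι_ex (K.conj_mem (K.inC c).2 (K.ι_mem _)), ← map_inv]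
    conv_rhs => rw [← K.F.cd_act c⁻¹ _ (K.ι_mem _).1]
    congr 1
    simp
  refine ⟨K.ι_inj ?_, ?_⟩
  · rw [← K.row_two, K.ι_single.2.2]
    show (c : G)⁻¹ * K.D.z * c = K.D.z
    rw [mul_assoc, ← K.D.mem_Ct.1 c.2, inv_mul_cancel_left]
  · have key : ∀ W : SL23, ∀ p q r s : ZMod 3,
        (q, -p, (0 : ZMod 3), (0 : ZMod 3)) = act W⁻¹ (0, -1, 0, 0) →
        (s, -r, (0 : ZMod 3), (0 : ZMod 3)) = act W⁻¹ (1, 0, 0, 0) →
        p = W.1 0 0 ∧ q = W.1 0 1 ∧ r = W.1 1 0 ∧ s = W.1 1 1 := by decide +kernel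
    have h0 := hcd 0
    have h1 := hcd 1
    rw [cd_ι, K.ι_single.1, K.y0_cd] at h0
    rw [cd_ι, K.ι_single.2.1, K.x_cd] at h1
    exact key _ _ _ _ _ h0 h1

theorem det_C (c : K.D.Ct) : (K.Mν (K.inC c)).det = 1 := by
  obtain ⟨h2, h00, h01, h10, h11⟩ := K.Mν_C c
  have hd := (K.D.φ c).2
  rw [Matrix.det_fin_two] at hd
  rw [Matrix.det_fin_three, congrFun h2 0, congrFun h2 1, congrFun h2 2, h00, h01, h10, h11]
  simp
  exact hd

theorem Mν_Q {q : K.D.Ct} (hq : (q : G) ∈ K.D.Q) :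
    K.Mν (K.inC q) 0 = ![1, 0, (K.F.cd q).2.2.1] ∧ K.Mν (K.inC q) 1 = ![0, 1, (K.F.cd q).2.2.2] := by
  have main : ∀ i, K.Mν (K.inC q) i =
      Pi.single i 1 + om (K.F.cd (K.ι (Pi.single i 1))) (K.F.cd q) • Pi.single 2 1 := by
    intro i
    apply K.ι_inj
    rw [show K.ι (K.Mν (K.inC q) i) = (q : G)⁻¹ * K.ι (Pi.single i 1) * q from
      K.ι_ex (K.conj_mem (K.inC q).2 (K.ι_mem _)), ι_add, ι_smul, K.ι_single.2.2]
    set p := K.ι (Pi.single i 1)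
    have hp : p ∈ K.D.Q := (K.ι_mem _).1
    have e := K.F.cd_cm _ (inv_mem hp) _ (inv_mem hq)
    rw [K.F.cd_inv hp, K.F.cd_inv hq, inv_inv, inv_inv,
      show om (-K.F.cd p) (-K.F.cd q) = om (K.F.cd p) (K.F.cd q) by simp [om]] at e
    rw [← e]; group
  constructor
  · rw [main 0, K.ι_single.1, K.y0_cd]
    funext j; fin_cases j <;> simp [om]
  · rw [main 1, K.ι_single.2.1, K.x_cd]
    funext j; fin_cases j <;> simp [om]

theorem stab_surj (M : Matrix (Fin 3) (Fin 3) (ZMod 3)) (hdet : M.det = 1) (h2 : M 2 = Pi.single 2 1) :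
    ∃ c : K.D.Ct, K.Mν (K.inC c) = M := by
  have hd : M 0 0 * M 1 1 - M 0 1 * M 1 0 = 1 := by
    rw [Matrix.det_fin_three, congrFun h2 0, congrFun h2 1, congrFun h2 2] at hdet
    simpa using hdet
  obtain ⟨c, hc⟩ := K.D.φ_surj ⟨!![M 0 0, M 0 1; M 1 0, M 1 1], by rw [Matrix.det_fin_two]; simpa using hd⟩
  obtain ⟨hr2, h00, h01, h10, h11⟩ := K.Mν_C c
  obtain ⟨i, j, hi, hj⟩ := col_solve (K.D.φ c) (M 0 2 - K.Mν (K.inC c) 0 2) (M 1 2 - K.Mν (K.inC c) 1 2)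
  obtain ⟨q, hq, hqv⟩ := K.F.cd_surj (0, 0, i, j)
  obtain ⟨q0, q1⟩ := K.Mν_Q (q := ⟨q, K.D.Q_le_Ct hq⟩) hq
  obtain ⟨q2, -⟩ := K.Mν_C ⟨q, K.D.Q_le_Ct hq⟩
  refine ⟨c * ⟨q, K.D.Q_le_Ct hq⟩, ?_⟩
  rw [show K.inC (c * ⟨q, K.D.Q_le_Ct hq⟩) = K.inC c * K.inC ⟨q, K.D.Q_le_Ct hq⟩ from rfl, map_mul]
  rw [hc] at h00 h01 h10 h11 hi hj
  rw [hqv] at q0 q1
  ext a b
  rw [Matrix.mul_apply, Fin.sum_univ_three, q0, q1, q2]
  fin_cases a <;> fin_cases b <;>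
    simp [h00, h01, h10, h11, congrFun hr2 0, congrFun hr2 1, congrFun hr2 2, congrFun h2 0, congrFun h2 1,
      congrFun h2 2] at hi hj ⊢
  · linear_combination hi
  · linear_combination hj

theorem mover : ∃ (g : K.N) (k : ZMod 3), k ≠ 0 ∧ (K.Mν g).det = 1 ∧ K.Mν g 1 = Pi.single 1 1 ∧
    K.Mν g 2 = ![0, k, 1] := by
  obtain ⟨g, hg, hgz⟩ : ∃ g ∈ (K.D.conj K.g).Q, g * K.D.z ≠ K.D.z * g := by
    by_contra h
    push Not at h
    refine K.x_nZ ?_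
    obtain ⟨i, hi, he⟩ := (K.D.conj K.g).mem_Zc.1 ((K.D.conj K.g).Q_centre _ K.z_Q' fun p hp => (h p hp).symm)
    rw [K.D.conj_z] at he
    interval_cases i
    · exact absurd (by simpa using he) K.D.z_ne
    · exact K.D.mem_Zc.2 ⟨1, by norm_num, (by rw [pow_one]; exact (he.trans (pow_one _)).symm)⟩
    · refine K.D.mem_Zc.2 ⟨2, by norm_num, ?_⟩
      refine Eq.trans ?_ (congrArg (fun r : G => r ^ 2) he).symm
      show K.x = (K.x ^ 2) ^ 2
      rw [← pow_mul, show 2 * 2 = 3 + 1 from rfl, pow_succ, K.D.Q_exp _ K.x_Q, one_mul]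
  have hnorm : ∀ p ∈ (K.D.conj K.g).Q, ∀ q ∈ K.A, p * q * p⁻¹ ∈ K.A := fun p hp q hq => by
    have h := mul_mem ((zpowers_le.2 K.x_A) ((K.D.conj K.g).Q_comm p hp q (K.A_le_Q' hq))) hq
    rwa [inv_mul_cancel_right] at h
  have hN : g ∈ K.N := mem_normalizer_iff.2 fun q => ⟨fun hq => hnorm g hg q hq, fun hq => by
    have := hnorm g⁻¹ (inv_mem hg) _ hq
    rwa [show g⁻¹ * (g * q * g⁻¹) * g⁻¹⁻¹ = q by group] at this⟩
  have h1 : K.Mν ⟨g, hN⟩ 1 = Pi.single 1 1 := K.ι_inj (by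
    rw [show K.ι (K.Mν ⟨g, hN⟩ 1) = g⁻¹ * K.ι (Pi.single 1 1) * g from K.ι_ex (K.conj_mem hN (K.ι_mem _)),
      K.ι_single.2.1, mul_assoc, ← show g * K.x = K.x * g from (K.D.conj K.g).Q_z g hg, inv_mul_cancel_left])
  obtain ⟨i, hi, he⟩ := (K.D.conj K.g).mem_Zc.1 ((K.D.conj K.g).Q_comm g⁻¹ (inv_mem hg) _ K.z_Q')
  rw [K.D.conj_z, inv_inv] at he
  refine ⟨⟨g, hN⟩, (i : ZMod 3), ?_, ?_, h1, K.ι_inj ?_⟩
  · intro h0
    rw [ZMod.natCast_eq_zero_iff] at h0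
    obtain rfl : i = 0 := by omega
    refine hgz ?_
    rw [pow_zero, mul_inv_eq_one] at he
    calc g * K.D.z = g * (g⁻¹ * K.D.z * g) := by rw [he]
      _ = K.D.z * g := by group
  · have h3 : (⟨g, hN⟩ : K.N) ^ 3 = 1 := Subtype.ext ((K.D.conj K.g).Q_exp g hg)
    have h := congrArg (fun M => Matrix.det M) (congrArg K.Mν h3)
    simp only [map_pow, map_one, Matrix.det_pow, Matrix.det_one] at h
    revert h
    generalize (K.Mν ⟨g, hN⟩).det = d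
    revert d; decide
  · rw [← K.row_two]
    show g⁻¹ * K.D.z * g = _
    rw [show g⁻¹ * K.D.z * g = (g⁻¹ * K.D.z * g * K.D.z⁻¹) * K.D.z by group, he]
    simp [ι, ZMod.val_one, ← pow_eq_pow_mod i (K.D.Q_exp _ K.x_Q)]

theorem row_reach {v : V3} (hv : v ≠ 0) : ∃ g : K.N, (K.Mν g).det = 1 ∧ K.Mν g 2 = v := by
  obtain ⟨g0, k, hk, hd0, h1, h2⟩ := K.mover
  have hoff : ∀ v : V3, ¬(v 0 = 0 ∧ v 1 = 0) → ∃ g : K.N, (K.Mν g).det = 1 ∧ K.Mν g 2 = v := by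
    intro v hv
    obtain ⟨M, e, ha, hb, hc⟩ := orbit_solve k (v 0) (v 1) (v 2) hk hv
    have hM := M.2
    rw [Matrix.det_fin_two] at hM
    obtain ⟨c, hc'⟩ := K.stab_surj !![M.1 0 0, M.1 0 1, 0; M.1 1 0, M.1 1 1, e; 0, 0, 1]
      (by rw [Matrix.det_fin_three]; simpa using hM) (by funext j; fin_cases j <;> simp)
    refine ⟨g0 * K.inC c, by rw [map_mul, Matrix.det_mul, hd0, K.det_C, mul_one], ?_⟩
    rw [map_mul, Matrix.mul_apply_eq_vecMul, h2, hc']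
    funext j
    fin_cases j <;> simp [Matrix.vecMul, dotProduct, Fin.sum_univ_three]
    exacts [ha, hb, hc]
  by_cases h : v 0 = 0 ∧ v 1 = 0
  · have key : ∀ a : ZMod 3, a ≠ 0 → a = 1 ∨ a = -1 := by decide
    have hv' : v = v 2 • Pi.single 2 1 := by funext j; fin_cases j <;> simp [h.1, h.2]
    rcases key (v 2) (fun e => hv (by rw [hv', e, zero_smul])) with e | e
    · exact ⟨1, by rw [map_one, Matrix.det_one], by rw [map_one, hv', e]; funext j; fin_cases j <;> simp [Matrix.one_apply]⟩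
    · obtain ⟨g, hg, hg2⟩ := hoff ![0, k, -1] (fun ⟨_, hh⟩ => hk (by simpa using hh))
      refine ⟨g * g0, by rw [map_mul, Matrix.det_mul, hg, hd0, mul_one], ?_⟩
      rw [map_mul, Matrix.mul_apply_eq_vecMul, hg2]
      funext j
      fin_cases j <;> simp [Matrix.vecMul, dotProduct, Fin.sum_univ_three, h1, h2, h.1, h.2, e]
  · exact hoff v h

theorem row_ne (g : K.N) : K.Mν g 2 ≠ 0 := fun h => K.D.z_ne (by
  have := K.row_two g
  rw [h, ι_zero] at this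
  exact conj_eq_one_iff.1 (show (g : G)⁻¹ * K.D.z * ((g : G)⁻¹)⁻¹ = 1 by rw [inv_inv]; exact this))

theorem det_one (g : K.N) : (K.Mν g).det = 1 := by
  obtain ⟨h, hd, hr⟩ := K.row_reach (K.row_ne g)
  have e : (g : G) * (h : G)⁻¹ ∈ K.D.Ct := by
    have := (K.row_two g).trans ((congrArg K.ι hr.symm).trans (K.row_two h).symm)
    rw [K.D.mem_Ct]
    calc (g : G) * (h : G)⁻¹ * K.D.z = g * ((h : G)⁻¹ * K.D.z * h) * (h : G)⁻¹ := by group
      _ = g * ((g : G)⁻¹ * K.D.z * g) * (h : G)⁻¹ := by rw [this]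
      _ = _ := by group
  have := K.det_C ⟨_, e⟩
  rw [show K.inC ⟨_, e⟩ = g * h⁻¹ from rfl, map_mul, Matrix.det_mul] at this
  have hi : (K.Mν h⁻¹).det = 1 := by
    have := congrArg Matrix.det (congrArg K.Mν (mul_inv_cancel h))
    rwa [map_mul, map_one, Matrix.det_mul, Matrix.det_one, hd, one_mul] at this
  rwa [hi, mul_one] at this

/-- The action as a homomorphism to SL(3,3). -/
noncomputable def ν : K.N →* Matrix.SpecialLinearGroup (Fin 3) (ZMod 3) where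
  toFun g := ⟨K.Mν g, K.det_one g⟩
  map_one' := Subtype.ext (map_one K.Mν)
  map_mul' g h := Subtype.ext (map_mul K.Mν g h)

theorem ν_surj : Function.Surjective K.ν := by
  intro M
  have hne : M.1 2 ≠ 0 := fun h => by
    have := M.2
    rw [Matrix.det_fin_three, congrFun h 0, congrFun h 1, congrFun h 2] at this
    simp at this
  obtain ⟨h, hd, hr⟩ := K.row_reach hne
  set M' := M.1 * K.Mν h⁻¹
  have h2 : M' 2 = Pi.single 2 1 := by
    show (M.1 * K.Mν h⁻¹) 2 = _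
    rw [Matrix.mul_apply_eq_vecMul, ← hr, ← Matrix.mul_apply_eq_vecMul, ← map_mul, mul_inv_cancel, map_one]
    funext j; simp [Matrix.one_apply, Pi.single_apply, eq_comm]
  obtain ⟨c, hc⟩ := K.stab_surj M' (by rw [Matrix.det_mul, M.2, one_mul, K.det_one]) h2
  refine ⟨K.inC c * h, Subtype.ext ?_⟩
  show K.Mν (K.inC c * h) = M.1
  rw [map_mul, hc, mul_assoc, ← map_mul, inv_mul_cancel, map_one, mul_one]

theorem ν_ker (g : K.N) : K.ν g = 1 ↔ (g : G) ∈ K.A := by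
  constructor
  · intro h
    have hM : K.Mν g = 1 := congrArg Subtype.val h
    have hC : (g : G) ∈ K.D.Ct := by
      have := K.conj_ι' g (Pi.single 2 1)
      rw [hM, Matrix.vecMul_one, K.ι_single.2.2] at this
      rw [K.D.mem_Ct]
      calc (g : G) * K.D.z = g * ((g : G)⁻¹ * K.D.z * g) := by rw [this]
        _ = _ := by group
    obtain ⟨-, h00, h01, h10, h11⟩ := K.Mν_C ⟨g, hC⟩
    rw [show K.inC ⟨g, hC⟩ = g from rfl, hM] at h00 h01 h10 h11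
    have hQ : (g : G) ∈ K.D.Q := by
      refine (K.D.φ_ker ⟨g, hC⟩).1 (Subtype.ext ?_)
      rw [Matrix.eta_fin_two (K.D.φ ⟨g, hC⟩).1, ← h00, ← h01, ← h10, ← h11]
      decide
    obtain ⟨q0, q1⟩ := K.Mν_Q (q := ⟨g, hC⟩) hQ
    rw [show K.inC ⟨g, hC⟩ = g from rfl, hM] at q0 q1
    refine ⟨hQ, Prod.ext ?_ ?_⟩
    · simpa using (congrFun q0 2).symm
    · simpa using (congrFun q1 2).symm
  · intro h
    refine Subtype.ext (K.mat_ext g.2 fun i => ?_)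
    rw [show ((1 : Matrix.SpecialLinearGroup (Fin 3) (ZMod 3)).1 : Matrix (Fin 3) (Fin 3) (ZMod 3)) = 1
      from rfl, show (1 : Matrix (Fin 3) (Fin 3) (ZMod 3)) i = Pi.single i 1 from funext fun j => by
      simp [Matrix.one_apply, Pi.single_apply, eq_comm], mul_assoc, K.A_comm _ (K.ι_mem _) _ h, inv_mul_cancel_left]

end Frame

end CfsgLib.L43Rec
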