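import Cfsg.Agent.Lib.L43Rec.Plane

/-!
The intersection of the two cores is the first plane of the coordinates.
-/

set_option autoImplicit false

namespace CfsgLib.L43Rec

open Subgroup

universe u

theorem sl_no_normal : ∀ c : SL23, c * c * c = 1 → (∀ h : SL23, h * c * h⁻¹ * c = c * (h * c * h⁻¹)) → c = 1 := by
  decide +kernel

/-- The lower unipotent element. -/
def mL : SL23 := ⟨!![1, 0; 1, 1], by decide⟩

theorem f_orth : ∀ v : V4, om (1, 0, 0, 0) v = 0 ↔ v.2.2.2 = 0 := by decide +kernel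

theorem f_pure : ∀ g : SL23, g ≠ 1 → ∀ v : V4, act g v = v → v.1 * v.2.2.2 - v.2.1 * v.2.2.1 = 0 := by decide +kernel

theorem f_fixU : ∀ v : V4, act mU⁻¹ v = v → v.2.1 = 0 ∧ v.2.2.2 = 0 := by decide +kernel

theorem f_plane : ∀ g : SL23, ∀ v : V4, v.2.2 = (0, 0) → (act g v).2.2 = (0, 0) := by decide +kernel

theorem f_fix : act mL (0, 1, 0, 0) = (0, 1, 0, 0) ∧ act mU (0, 0, 1, 0) = (0, 0, 1, 0) ∧ mL ≠ 1 := by decide +kernel

namespace Setting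

variable {G : Type u} [Group G] (D : Setting G)

theorem conj_Zc' {g : G} (hg : g * D.z * g⁻¹ ∈ D.Zc) {w : G} (hw : w ∈ D.Zc) : g * w * g⁻¹ ∈ D.Zc := by
  obtain ⟨i, -, rfl⟩ := D.mem_Zc.1 hw
  rw [← conj_pow]; exact pow_mem hg _

theorem Ct_of_normalizer {g : G} (hg : g * D.z * g⁻¹ ∈ D.Zc) {c : G} (hc : c ∈ D.Ct) : g * c * g⁻¹ ∈ D.Ct := by
  have hgn : g * D.z * g⁻¹ ≠ 1 := fun e => D.z_ne (conj_eq_one_iff.1 e)
  obtain ⟨i, hi, he⟩ := D.mem_Zc.1 hg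
  have hz : ∃ j : ℕ, (g * D.z * g⁻¹) ^ j = D.z := by
    interval_cases i
    · exact absurd (by simpa using he) hgn
    · exact ⟨1, by rw [pow_one, he, pow_one]⟩
    · exact ⟨2, by rw [he, ← pow_mul, show 2 * 2 = 3 + 1 from rfl, pow_succ, D.z_cube, one_mul]⟩
  obtain ⟨j, hj⟩ := hz
  have h : Commute (g * c * g⁻¹) (g * D.z * g⁻¹) :=
    (show Commute c D.z from D.mem_Ct.1 hc).map (MulAut.conj g).toMonoidHom
  have h2 := h.pow_right j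
  rw [hj] at h2
  exact D.mem_Ct.2 h2.eq

/-- Elements normalizing the centre normalize the core. -/
theorem Q_of_normalizer {g : G} (hg : g * D.z * g⁻¹ ∈ D.Zc) {q : G} (hq : q ∈ D.Q) : g * q * g⁻¹ ∈ D.Q := by
  set a : D.Ct := ⟨g * q * g⁻¹, D.Ct_of_normalizer hg (D.Q_le_Ct hq)⟩
  refine (D.φ_ker a).1 (sl_no_normal _ ?_ fun h => ?_)
  · rw [← map_mul, ← map_mul, show a * a * a = 1 from Subtype.ext (by
      show g * q * g⁻¹ * (g * q * g⁻¹) * (g * q * g⁻¹) = 1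
      rw [← pow_three', conj_pow, D.Q_exp q hq]; group), map_one]
  · obtain ⟨b, rfl⟩ := D.φ_surj h
    have hg' : g⁻¹ * D.z * g⁻¹⁻¹ ∈ D.Zc := by
      obtain ⟨i, hi, he⟩ := D.mem_Zc.1 hg
      interval_cases i
      · exact absurd (by simpa using he) (fun e : g * D.z * g⁻¹ = 1 => D.z_ne (conj_eq_one_iff.1 e))
      · refine D.mem_Zc.2 ⟨1, by norm_num, ?_⟩
        rw [pow_one] at he ⊢
        calc g⁻¹ * D.z * g⁻¹⁻¹ = g⁻¹ * (g * D.z * g⁻¹) * g := by rw [he, inv_inv]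
          _ = D.z := by group
      · refine D.mem_Zc.2 ⟨2, by norm_num, ?_⟩
        have e2 : D.z = (g * D.z * g⁻¹) ^ 2 := by
          rw [he, ← pow_mul, show 2 * 2 = 3 + 1 from rfl, pow_succ, D.z_cube, one_mul]
        conv_lhs => rw [e2, conj_pow]
        group
    have hr : g⁻¹ * (b : G) * g ∈ D.Ct := by
      have := D.Ct_of_normalizer hg' b.2
      rwa [inv_inv] at this
    have hr2 := D.conj_Q hr hq
    have hcm := D.conj_Zc' hg (D.Q_comm _ hr2 q hq)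
    have hk : D.φ ((b * a * b⁻¹) * a * (b * a * b⁻¹)⁻¹ * a⁻¹) = 1 := by
      refine (D.φ_ker _).2 (D.Zc_le_Q ?_)
      convert hcm using 1
      show ((b : G) * (g * q * g⁻¹) * (b : G)⁻¹) * (g * q * g⁻¹) * ((b : G) * (g * q * g⁻¹) * (b : G)⁻¹)⁻¹ *
        (g * q * g⁻¹)⁻¹ = _
      group
    rw [map_mul, map_mul, map_mul, map_inv, map_inv, mul_inv_eq_one, mul_inv_eq_iff_eq_mul] at hk
    simpa only [map_mul, map_inv] using hk

/-- An element inverting the core modulo the centre and a given element exactly. -/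
theorem exists_inverting {q : G} (hq : q ∈ D.Q) (hqz : q ∉ D.Zc) :
    ∃ c : D.Ct, D.φ c = -1 ∧ (c : G) * q * (c : G)⁻¹ = q⁻¹ := by
  obtain ⟨c, hc⟩ := D.φ_surj (-1)
  obtain ⟨i, -, he⟩ := D.mem_Zc.1 (D.neg_inv c hc q hq)
  obtain ⟨p, hp, hpq⟩ : ∃ p ∈ D.Q, p * q * p⁻¹ * q⁻¹ ≠ 1 := by
    by_contra h
    push Not at h
    exact hqz (D.Q_centre q hq fun p hp => (mul_inv_eq_iff_eq_mul.1 (mul_inv_eq_one.1 (h p hp))).symm)
  obtain ⟨k, hk, hke⟩ := D.mem_Zc.1 (D.Q_comm p hp q hq)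
  have hk0 : k ≠ 0 := fun h => hpq (by rw [hke, h, pow_zero])
  have hpw : ∀ j : ℕ, p ^ j * q * (p ^ j)⁻¹ = D.z ^ (k * j) * q := by
    intro j
    induction j with
    | zero => simp
    | succ j ih =>
      calc p ^ (j + 1) * q * (p ^ (j + 1))⁻¹ = p * (p ^ j * q * (p ^ j)⁻¹) * p⁻¹ := by rw [pow_succ']; group
        _ = p * D.z ^ (k * j) * p⁻¹ * (p * q * p⁻¹ * q⁻¹) * q := by rw [ih]; group
        _ = _ := by
          rw [D.conj_Zc (D.Q_le_Ct hp) (pow_mem (mem_zpowers _) _), hke, ← pow_add, Nat.mul_succ]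
  obtain ⟨j, hj⟩ : ∃ j, (k * j + i) % 3 = 0 := ⟨(k * (3 - i % 3)) % 3, by
    have h3 : i % 3 < 3 := Nat.mod_lt _ (by norm_num)
    have hi3 : i % 3 = 0 ∨ i % 3 = 1 ∨ i % 3 = 2 := by omega
    interval_cases k <;> omega⟩
  refine ⟨c * ⟨p ^ j, D.Q_le_Ct (pow_mem hp _)⟩, ?_, ?_⟩
  · rw [map_mul, (D.φ_ker ⟨p ^ j, _⟩).2 (pow_mem hp j), mul_one, hc]
  · refine eq_inv_of_mul_eq_one_left ?_
    calc (c : G) * p ^ j * q * ((c : G) * p ^ j)⁻¹ * q = (c : G) * (p ^ j * q * (p ^ j)⁻¹) * (c : G)⁻¹ * q := by group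
      _ = ((c : G) * D.z ^ (k * j) * (c : G)⁻¹) * ((c : G) * q * (c : G)⁻¹ * q) := by rw [hpw]; group
      _ = 1 := by
        rw [D.conj_Zc c.2 (pow_mem (mem_zpowers _) _), he, ← pow_add, pow_eq_pow_mod _ D.z_cube, hj, pow_zero]

end Setting

namespace Coord

variable {G : Type u} [Group G] {D : Setting G} (F : Coord D)

theorem cd_one : F.cd 1 = 0 := (F.cd_zero 1 (one_mem _)).2 (one_mem _)

theorem cd_inv {q : G} (hq : q ∈ D.Q) : F.cd q⁻¹ = -F.cd q := by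
  refine eq_neg_of_add_eq_zero_left ?_
  rw [← F.cd_mul _ (inv_mem hq) _ hq, inv_mul_cancel, F.cd_one]

theorem cd_pow {q : G} (hq : q ∈ D.Q) (n : ℕ) : F.cd (q ^ n) = (n : ZMod 3) • F.cd q := by
  induction n with
  | zero => simp [F.cd_one]
  | succ n ih => rw [pow_succ, F.cd_mul _ (pow_mem hq n) _ hq, ih, Nat.cast_succ, add_smul, one_smul]

theorem om_comm {q r : G} (hq : q ∈ D.Q) (hr : r ∈ D.Q) (h : q * r = r * q) : om (F.cd q) (F.cd r) = 0 := by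
  have e := F.cd_cm q hq r hr
  rw [h, show r * q * q⁻¹ * r⁻¹ = D.z ^ 0 by simp] at e
  have e2 := congrArg D.expo e
  rwa [D.expo_pow, D.expo_pow, Nat.cast_zero, ZMod.natCast_zmod_val, eq_comm] at e2

/-- The first plane. -/
def plane : Subgroup G where
  carrier := {q | q ∈ D.Q ∧ (F.cd q).2.2 = (0, 0)}
  one_mem' := ⟨one_mem _, by rw [F.cd_one]; rfl⟩
  mul_mem' := fun {a b} ha hb => ⟨mul_mem ha.1 hb.1, by rw [F.cd_mul a ha.1 b hb.1, Prod.snd_add, Prod.snd_add, ha.2, hb.2]; rfl⟩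
  inv_mem' := fun {a} ha => ⟨inv_mem ha.1, by rw [F.cd_inv ha.1, Prod.snd_neg, Prod.snd_neg, ha.2]; rfl⟩

theorem mem_plane {q : G} : q ∈ F.plane ↔ q ∈ D.Q ∧ (F.cd q).2.2 = (0, 0) := Iff.rfl

theorem plane_norm {c : G} (hc : c ∈ D.Ct) {q : G} (hq : q ∈ F.plane) : c * q * c⁻¹ ∈ F.plane :=
  ⟨D.conj_Q hc hq.1, by rw [F.cd_act ⟨c, hc⟩ q hq.1]; exact f_plane _ _ hq.2⟩

end Coord

namespace Frame

variable {G : Type u} [Group G] (K : Frame G)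

/-- The intersection of the cores is the first plane. -/
theorem plane_eq : K.D.Q ⊓ (K.D.conj K.g).Q = K.F.plane := by
  set D := K.D with hD
  set D' := K.D.conj K.g with hD'
  set F := K.F
  set x := K.g * K.D.z * K.g⁻¹ with hx
  have hx' : D'.z = x := rfl
  have hxE : x ∈ D.Q ⊓ D'.Q := ⟨K.x_Q, by rw [← hx']; exact D'.z_Q⟩
  obtain ⟨f4, f5, f6⟩ := f_fix
  have f1 := f_orth
  have f2 := f_pure
  have f3 := f_fixU
  have hd : ∀ q ∈ D.Q ⊓ D'.Q, (F.cd q).2.2.2 = 0 := fun q hq => (f1 _).1 (by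
    rw [← K.x_cd]; exact F.om_comm K.x_Q hq.1 (K.E_comm x hxE q hq))
  obtain ⟨y, hy, hycd⟩ : ∃ y ∈ D.Q ⊓ D'.Q, (F.cd y).1 = 0 ∧ (F.cd y).2.1 = 1 := by
    obtain ⟨y, hy, hyb⟩ := K.E_move
    obtain ⟨j, i, hj⟩ : ∃ j i : ℕ, (i : ZMod 3) + (j : ZMod 3) * (F.cd y).1 = 0 ∧ (j : ZMod 3) * (F.cd y).2.1 = 1 := by
      have key : ∀ a b : ZMod 3, b ≠ 0 → ∃ j i : Fin 3, ((i.1 : ℕ) : ZMod 3) + ((j.1 : ℕ) : ZMod 3) * a = 0 ∧
          ((j.1 : ℕ) : ZMod 3) * b = 1 := by decide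
      obtain ⟨j, i, h⟩ := key _ _ hyb
      exact ⟨j, i, h⟩
    refine ⟨x ^ i * y ^ j, mul_mem (pow_mem hxE i) (pow_mem hy j), ?_⟩
    rw [F.cd_mul _ (pow_mem K.x_Q i) _ (pow_mem hy.1 j), F.cd_pow K.x_Q, F.cd_pow hy.1, K.x_cd]
    exact ⟨by simpa using hj.1, by simpa using hj.2⟩
  set γ := (F.cd y).2.2.1 with hγ
  have hy4 := hd y hy
  have hyv : F.cd y = (0, 1, γ, 0) := Prod.ext hycd.1 (Prod.ext hycd.2 (Prod.ext rfl hy4))
  -- an element inverting `z` and fixing `x`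
  obtain ⟨s, hs, hsz⟩ := D'.exists_inverting K.z_Q' (fun h => K.x_nZ (by
    obtain ⟨i, hi, he⟩ := D'.mem_Zc.1 h
    rw [hx'] at he
    interval_cases i
    · exact absurd (by simpa using he) D.z_ne
    · exact D.mem_Zc.2 ⟨1, by norm_num, (by rw [pow_one]; exact (he.trans (pow_one x)).symm)⟩
    · refine D.mem_Zc.2 ⟨2, by norm_num, ?_⟩
      refine Eq.trans ?_ (congrArg (fun r : G => r ^ 2) he).symm
      show x = (x ^ 2) ^ 2
      rw [← pow_mul, show 2 * 2 = 3 + 1 from rfl, pow_succ, show x ^ 3 = 1 from D.Q_exp x K.x_Q, one_mul]))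
  have hsN : (s : G) * D.z * (s : G)⁻¹ ∈ D.Zc := by rw [hsz]; exact inv_mem (mem_zpowers _)
  have hsx : (s : G) * x = x * s := by rw [← hx']; exact D'.mem_Ct.1 s.2
  have hsQ : ∀ {q : G}, q ∈ D.Q → (s : G) * q * (s : G)⁻¹ ∈ D.Q := fun hq => D.Q_of_normalizer hsN hq
  have hom : ∀ q ∈ D.Q, ∀ r ∈ D.Q, om (F.cd ((s : G) * q * (s : G)⁻¹)) (F.cd ((s : G) * r * (s : G)⁻¹)) =
      -om (F.cd q) (F.cd r) := by
    intro q hq r hr
    have e := F.cd_cm _ (hsQ hq) _ (hsQ hr)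
    rw [show (s : G) * q * (s : G)⁻¹ * ((s : G) * r * (s : G)⁻¹) * ((s : G) * q * (s : G)⁻¹)⁻¹ *
      ((s : G) * r * (s : G)⁻¹)⁻¹ = (s : G) * (q * r * q⁻¹ * r⁻¹) * (s : G)⁻¹ by group, F.cd_cm q hq r hr,
      ← conj_pow, hsz, inv_pow] at e
    have e2 := congrArg D.expo e
    rwa [D.expo_inv (pow_mem (mem_zpowers _) _), D.expo_pow, D.expo_pow, ZMod.natCast_zmod_val,
      ZMod.natCast_zmod_val, eq_comm] at e2
  -- images
  obtain ⟨i, -, hi⟩ := D'.mem_Zc.1 (D'.neg_inv s hs y hy.2)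
  replace hi : (s : G) * y * (s : G)⁻¹ * y = x ^ i := hi
  have hys : F.cd ((s : G) * y * (s : G)⁻¹) = ((i : ZMod 3), -1, -γ, 0) := by
    rw [show (s : G) * y * (s : G)⁻¹ = x ^ i * y⁻¹ by rw [← hi]; group, F.cd_mul _ (pow_mem K.x_Q i) _ (inv_mem hy.1), F.cd_pow K.x_Q, F.cd_inv hy.1, K.x_cd, hyv]
    simp
  obtain ⟨k, hk, hkv⟩ := F.cd_surj (0, 0, 1, 0)
  obtain ⟨j, -, hj⟩ := D'.mem_Zc.1 (D'.neg_inv s hs K.c K.c_Q)
  replace hj : (s : G) * (K.c : G) * (s : G)⁻¹ * (K.c : G) = x ^ j := hj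
  have hks : ∃ a : ZMod 3, F.cd ((s : G) * k * (s : G)⁻¹) = (a, 0, 1, 0) := by
    set k' := (s : G) * k * (s : G)⁻¹
    have hfix : act mU⁻¹ (F.cd k') = F.cd k' := by
      have hcC : (s : G) * K.c * (s : G)⁻¹ ∈ D.Ct := D.Ct_of_normalizer hsN K.c.2
      have hφ : D.φ ⟨_, hcC⟩ = mU⁻¹ := by
        rw [show (⟨_, hcC⟩ : D.Ct) = ⟨x ^ j, D.Q_le_Ct (pow_mem K.x_Q j)⟩ * K.c⁻¹ from Subtype.ext (by
          show (s : G) * K.c * (s : G)⁻¹ = x ^ j * (K.c : G)⁻¹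
          rw [← hj]; group), map_mul, map_inv, (D.φ_ker _).2 (pow_mem K.x_Q j), one_mul, K.c_φ]
      have h := F.cd_act ⟨_, hcC⟩ k' (hsQ hk)
      rw [hφ] at h
      rw [← h]
      have hck : (K.c : G) * k * (K.c : G)⁻¹ * k⁻¹ ∈ D.Zc := by
        refine (F.cd_zero _ (mul_mem (D.conj_Q K.c.2 hk) (inv_mem hk))).1 ?_
        rw [F.cd_mul _ (D.conj_Q K.c.2 hk) _ (inv_mem hk), F.cd_inv hk, F.cd_act K.c k hk, K.c_φ, hkv, f5,
          add_neg_cancel]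
      have hz0 := D.conj_Zc' hsN hck
      have e : (s : G) * K.c * (s : G)⁻¹ * k' * ((s : G) * K.c * (s : G)⁻¹)⁻¹ =
          ((s : G) * ((K.c : G) * k * (K.c : G)⁻¹ * k⁻¹) * (s : G)⁻¹) * k' := by simp only [k']; group
      rw [e, F.cd_mul _ (D.Zc_le_Q hz0) _ (hsQ hk), (F.cd_zero _ (D.Zc_le_Q hz0)).2 hz0, zero_add]
    obtain ⟨h1, h2⟩ := f3 _ hfix
    have h3 := hom k hk y hy.1
    rw [hys, hkv, hyv] at h3
    have key : ∀ v : V4, ∀ i γ : ZMod 3, v.2.1 = 0 → v.2.2.2 = 0 → om v (i, -1, -γ, 0) = -om (0, 0, 1, 0) (0, 1, γ, 0) →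
        v = (v.1, 0, 1, 0) := by decide +kernel
    exact ⟨_, key _ _ _ h1 h2 h3⟩
  obtain ⟨a, hks⟩ := hks
  have hγ0 : γ = 0 := by
    obtain ⟨c1, hc1⟩ := D.φ_surj mL
    set n := (-γ).val with hn
    have hp : y * k ^ n ∈ D.Q := mul_mem hy.1 (pow_mem hk n)
    have hpv : F.cd (y * k ^ n) = (0, 1, 0, 0) := by
      rw [F.cd_mul _ hy.1 _ (pow_mem hk n), F.cd_pow hk, hkv, hyv, hn, ZMod.natCast_zmod_val]
      simp
    have hp' : F.cd ((s : G) * (y * k ^ n) * (s : G)⁻¹) = ((i : ZMod 3) - γ * a, -1, -γ - γ, 0) := by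
      rw [show (s : G) * (y * k ^ n) * (s : G)⁻¹ = ((s : G) * y * (s : G)⁻¹) * ((s : G) * k * (s : G)⁻¹) ^ n by
        rw [conj_pow]; group, F.cd_mul _ (hsQ hy.1) _ (pow_mem (hsQ hk) n), F.cd_pow (hsQ hk), hks, hys, hn,
        ZMod.natCast_zmod_val]
      ext <;> simp <;> ring
    have hfix1 : (c1 : G) * (y * k ^ n) * (c1 : G)⁻¹ * (y * k ^ n)⁻¹ ∈ D.Zc := by
      refine (F.cd_zero _ (mul_mem (D.conj_Q c1.2 hp) (inv_mem hp))).1 ?_
      rw [F.cd_mul _ (D.conj_Q c1.2 hp) _ (inv_mem hp), F.cd_inv hp, F.cd_act c1 _ hp, hc1, hpv, f4, add_neg_cancel]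
    have hC2 : (s : G) * c1 * (s : G)⁻¹ ∈ D.Ct := D.Ct_of_normalizer hsN c1.2
    have hne : D.φ ⟨_, hC2⟩ ≠ 1 := by
      intro h
      have h2 := (D.φ_ker _).1 h
      have hsN' : (s : G)⁻¹ * D.z * (s : G)⁻¹⁻¹ ∈ D.Zc := by
        have : (s : G)⁻¹ * D.z * (s : G) = D.z⁻¹ := by
          rw [eq_inv_iff_mul_eq_one]
          calc (s : G)⁻¹ * D.z * (s : G) * D.z = (s : G)⁻¹ * D.z * ((s : G) * D.z * (s : G)⁻¹) * (s : G) := by group
            _ = 1 := by rw [show (s : G) * D.z * (s : G)⁻¹ = D.z⁻¹ from hsz]; group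
        rw [inv_inv, this]; exact inv_mem (mem_zpowers _)
      have h3 := D.Q_of_normalizer hsN' h2
      rw [inv_inv, show (s : G)⁻¹ * ((s : G) * c1 * (s : G)⁻¹) * (s : G) = c1 by group] at h3
      exact f6 (hc1 ▸ (D.φ_ker c1).2 h3)
    have hfix2 : act (D.φ ⟨_, hC2⟩) (F.cd ((s : G) * (y * k ^ n) * (s : G)⁻¹)) =
        F.cd ((s : G) * (y * k ^ n) * (s : G)⁻¹) := by
      rw [← F.cd_act ⟨_, hC2⟩ _ (hsQ hp)]
      have hz0 := D.conj_Zc' hsN hfix1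
      have e : (s : G) * c1 * (s : G)⁻¹ * ((s : G) * (y * k ^ n) * (s : G)⁻¹) * ((s : G) * c1 * (s : G)⁻¹)⁻¹ =
          ((s : G) * ((c1 : G) * (y * k ^ n) * (c1 : G)⁻¹ * (y * k ^ n)⁻¹) * (s : G)⁻¹) *
            ((s : G) * (y * k ^ n) * (s : G)⁻¹) := by group
      rw [e, F.cd_mul _ (D.Zc_le_Q hz0) _ (hsQ hp), (F.cd_zero _ (D.Zc_le_Q hz0)).2 hz0, zero_add]
    have h := f2 _ hne _ hfix2
    rw [hp'] at h
    have key : ∀ a γ : ZMod 3, a * 0 - (-1) * (-γ - γ) = 0 → γ = 0 := by decide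
    exact key _ _ h
  -- both inclusions
  apply le_antisymm
  · intro q hq
    refine ⟨hq.1, ?_⟩
    have h := F.om_comm hq.1 hy.1 (K.E_comm q hq y hy)
    rw [hyv, hγ0] at h
    have key : ∀ v : V4, v.2.2.2 = 0 → om v (0, 1, 0, 0) = 0 → v.2.2 = (0, 0) := by decide +kernel
    exact key _ (hd q hq) h
  · rintro q ⟨hq, hqv⟩
    set r := x ^ (F.cd q).1.val * y ^ (F.cd q).2.1.val
    have hr : r ∈ D.Q ⊓ D'.Q := mul_mem (pow_mem hxE _) (pow_mem hy _)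
    have hrv : F.cd r = F.cd q := by
      rw [F.cd_mul _ (pow_mem K.x_Q _) _ (pow_mem hy.1 _), F.cd_pow K.x_Q, F.cd_pow hy.1, ZMod.natCast_zmod_val,
        ZMod.natCast_zmod_val, K.x_cd, hyv, hγ0]
      generalize F.cd q = v at hqv
      obtain ⟨a, b, c, d⟩ := v
      obtain ⟨rfl, rfl⟩ : c = 0 ∧ d = 0 := Prod.mk.inj hqv
      simp
    have hqr : q * r⁻¹ ∈ D.Q ⊓ D'.Q := by
      have hz : q * r⁻¹ ∈ D.Zc := (F.cd_zero _ (mul_mem hq (inv_mem hr.1))).1 (by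
        rw [F.cd_mul _ hq _ (inv_mem hr.1), F.cd_inv hr.1, hrv, add_neg_cancel])
      exact ⟨D.Zc_le_Q hz, zpowers_le.2 K.z_Q' hz⟩
    have := mul_mem hqr hr
    rwa [inv_mul_cancel_right] at this

end Frame

end CfsgLib.L43Rec
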