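import Cfsg.Agent.Lib.L43Rec.Complement
import Cfsg.Agent.Lib.L43Rec.P0

/-!
The normalizer of the plane is the point stabilizer of SL(4,3).
-/

set_option autoImplicit false

namespace CfsgLib.L43Rec

open Subgroup Matrix

universe u

/-- An identification of the normalizer of a plane with the point stabilizer. -/
structure Std (G : Type u) [Group G] where
  /-- the setting -/
  D : Setting G
  /-- the coordinates -/
  F : Coord D
  /-- the map -/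
  Φ : Ph0 →* G
  /-- injective -/
  inj : Function.Injective Φ
  /-- the centre -/
  Φ_z : Φ e03 = D.z
  /-- onto the normalizer -/
  range_eq : Φ.range = normalizer (F.plane : Set G)
  /-- containing the centralizer -/
  Ct_le : D.Ct ≤ Φ.range
  /-- the elements centralizing the centre -/
  fix_iff : ∀ g : Ph0, Φ g ∈ D.Ct ↔ FixRow g.1
  /-- and their action -/
  fix_φ : ∀ (g : Ph0) (h : Φ g ∈ D.Ct), (D.φ ⟨Φ g, h⟩).1 = midBlock g.1
  /-- the coordinates of the core -/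
  fix_cd : ∀ g : Ph0, FixRow g.1 → midBlock g.1 = 1 →
    Φ g ∈ D.Q ∧ F.cd (Φ g) = (g.1.1 0 2, -g.1.1 0 1, g.1.1 1 3, g.1.1 2 3)

theorem col_pinned : ∀ a b a' b' : ZMod 3,
    act mU (a', b', 0, 1) - (a', b', 0, 1) = (a, b, 1, 0) → act mL (a, b, 1, 0) - (a, b, 1, 0) = (a', b', 0, 1) →
    om (a, b, 1, 0) (a', b', 0, 1) = 0 → a = 0 ∧ b = 0 ∧ a' = 0 ∧ b' = 0 := by decide +kernel

/-- The block with a middle part and a column. -/
def blk (W : SL23) (a b : ZMod 3) : SL33' :=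
  ⟨!![W.1 0 0, W.1 0 1, a; W.1 1 0, W.1 1 1, b; 0, 0, 1], by
    have := W.2
    rw [Matrix.det_fin_two] at this
    rw [Matrix.det_fin_three]
    simpa using this⟩

theorem blk_rel : blk mU 0 0 * blk 1 0 1 * (blk mU 0 0)⁻¹ * (blk 1 0 1)⁻¹ = blk 1 1 0 ∧
    blk mL 0 0 * blk 1 1 0 * (blk mL 0 0)⁻¹ * (blk 1 1 0)⁻¹ = blk 1 0 1 ∧
    blk 1 1 0 * blk 1 0 1 = blk 1 0 1 * blk 1 1 0 := by
  refine ⟨?_, ?_, ?_⟩
  · rw [mul_inv_eq_iff_eq_mul, mul_inv_eq_iff_eq_mul]; apply Subtype.ext; decide +kernel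
  · rw [mul_inv_eq_iff_eq_mul, mul_inv_eq_iff_eq_mul]; apply Subtype.ext; decide +kernel
  · apply Subtype.ext; decide +kernel

theorem blk_mul (a b a' b' : ZMod 3) : blk 1 a b * blk 1 a' b' = blk 1 (a + a') (b + b') := by
  apply Subtype.ext
  rw [Matrix.SpecialLinearGroup.coe_mul]
  ext i j
  fin_cases i <;> fin_cases j <;> simp [blk, Matrix.mul_apply, Fin.sum_univ_three, add_comm]

namespace Frame

variable {G : Type u} [Group G] (K : Frame G)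

theorem blk_C {σ : SL33' →* K.N} (hσ : ∀ M, K.ν (σ M) = M) {M : SL33'} (hM : M.1 2 = Pi.single 2 1) :
    ∃ h : (σ M : G) ∈ K.D.Ct, (K.D.φ ⟨_, h⟩).1 = !![M.1 0 0, M.1 0 1; M.1 1 0, M.1 1 1] := by
  have hν : K.Mν (σ M) = M.1 := congrArg Subtype.val (hσ M)
  have h : (σ M : G) ∈ K.D.Ct := by
    have e := K.row_two (σ M)
    rw [hν, hM, K.ι_single.2.2] at e
    rw [K.D.mem_Ct]
    calc (σ M : G) * K.D.z = σ M * ((σ M : G)⁻¹ * K.D.z * σ M) := by rw [e]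
      _ = _ := by group
  refine ⟨h, ?_⟩
  obtain ⟨-, h00, h01, h10, h11⟩ := K.Mν_C ⟨_, h⟩
  rw [show K.inC ⟨(σ M : G), h⟩ = σ M from rfl, hν] at h00 h01 h10 h11
  rw [h00, h01, h10, h11]
  exact Matrix.eta_fin_two _

theorem blk_Q {σ : SL33' →* K.N} (hσ : ∀ M, K.ν (σ M) = M) (a b : ZMod 3) :
    (σ (blk 1 a b) : G) ∈ K.D.Q ∧ K.F.cd (σ (blk 1 a b) : G) = (0, 0, a, b) := by
  have e2 : ∀ W a b, (blk W a b).1 2 = Pi.single 2 1 := fun W a b => by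
    funext j; fin_cases j <;> simp [blk]
  have hq : ∀ a b, (σ (blk 1 a b) : G) ∈ K.D.Q ∧ (K.F.cd (σ (blk 1 a b) : G)).2.2 = (a, b) := by
    intro a b
    obtain ⟨h, hφ⟩ := K.blk_C hσ (e2 1 a b)
    have hQ : (σ (blk 1 a b) : G) ∈ K.D.Q := (K.D.φ_ker ⟨_, h⟩).1 (Subtype.ext (by
      rw [hφ]; simp [blk, Matrix.one_fin_two]))
    obtain ⟨q0, q1⟩ := K.Mν_Q (q := ⟨_, h⟩) hQ
    have hν : K.Mν (σ (blk 1 a b)) = (blk 1 a b).1 := congrArg Subtype.val (hσ _)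
    rw [show K.inC ⟨(σ (blk 1 a b) : G), h⟩ = σ (blk 1 a b) from rfl, hν] at q0 q1
    refine ⟨hQ, Prod.ext ?_ ?_⟩
    · simpa [blk] using (congrFun q0 2).symm
    · simpa [blk] using (congrFun q1 2).symm
  obtain ⟨h10, hv10⟩ := hq 1 0
  obtain ⟨h01, hv01⟩ := hq 0 1
  have hconj : ∀ W : SL23, ∀ a b : ZMod 3, ∀ r, blk W 0 0 * blk 1 a b * (blk W 0 0)⁻¹ * (blk 1 a b)⁻¹ = r →
      K.F.cd (σ r : G) = act W (K.F.cd (σ (blk 1 a b) : G)) - K.F.cd (σ (blk 1 a b) : G) := by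
    intro W a b r hr
    obtain ⟨h, hφ⟩ := K.blk_C hσ (e2 W 0 0)
    rw [← hr, map_mul, map_mul, map_mul, map_inv, map_inv]
    show K.F.cd ((σ (blk W 0 0) : G) * σ (blk 1 a b) * (σ (blk W 0 0) : G)⁻¹ * (σ (blk 1 a b) : G)⁻¹) = _
    rw [K.F.cd_mul _ (K.D.conj_Q h (hq a b).1) _ (inv_mem (hq a b).1), K.F.cd_inv (hq a b).1,
      K.F.cd_act ⟨_, h⟩ _ (hq a b).1, show K.D.φ ⟨_, h⟩ = W from Subtype.ext (hφ.trans (by
        simp [blk]; exact (Matrix.eta_fin_two W.1).symm)), sub_eq_add_neg]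
  have c1 := hconj mU 0 1 _ blk_rel.1
  have c2 := hconj mL 1 0 _ blk_rel.2.1
  have c3 := K.F.om_comm h10 h01 (by
    have := congrArg (fun M => ((σ M : K.N) : G)) blk_rel.2.2
    simpa using this)
  have e10 : K.F.cd (σ (blk 1 1 0) : G) = ((K.F.cd (σ (blk 1 1 0) : G)).1, (K.F.cd (σ (blk 1 1 0) : G)).2.1, 1, 0) :=
    Prod.ext rfl (Prod.ext rfl hv10)
  have e01 : K.F.cd (σ (blk 1 0 1) : G) = ((K.F.cd (σ (blk 1 0 1) : G)).1, (K.F.cd (σ (blk 1 0 1) : G)).2.1, 0, 1) :=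
    Prod.ext rfl (Prod.ext rfl hv01)
  rw [e10, e01] at c1 c2 c3
  obtain ⟨r1, r2, r3, r4⟩ := col_pinned _ _ _ _ c1.symm c2.symm c3
  rw [r1, r2] at e10
  rw [r3, r4] at e01
  refine ⟨(hq a b).1, ?_⟩
  have hpow : ∀ (n : ℕ) (c d : ZMod 3), blk 1 c d ^ n = blk 1 (n * c) (n * d) := by
    intro n c d
    induction n with
    | zero => simp; apply Subtype.ext; ext i j; fin_cases i <;> fin_cases j <;> simp [blk]
    | succ n ih => rw [pow_succ, ih, blk_mul]; push_cast; rw [add_mul, add_mul, one_mul, one_mul]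
  rw [show blk 1 a b = blk 1 1 0 ^ a.val * blk 1 0 1 ^ b.val by
    rw [hpow, hpow, blk_mul, ZMod.natCast_zmod_val, ZMod.natCast_zmod_val]; simp, map_mul, map_pow, map_pow,
    Subgroup.coe_mul, SubgroupClass.coe_pow, SubgroupClass.coe_pow, K.F.cd_mul _ (pow_mem h10 _) _ (pow_mem h01 _),
    K.F.cd_pow h10, K.F.cd_pow h01, e10, e01, ZMod.natCast_zmod_val, ZMod.natCast_zmod_val]
  simp

/-- The identification. -/
theorem exists_Std [Finite G] : ∃ S : Std G, S.D = K.D ∧ S.F.cd = K.F.cd := by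
  obtain ⟨σ, hσ⟩ := K.exists_section
  let Φ : Ph0 →* G :=
    { toFun := fun g => (σ (pM g) : G) * K.ι (pa g)
      map_one' := by
        rw [map_one, map_one, show pa 1 = 0 from funext fun j => by simp [pa, Matrix.one_apply, (Fin.succ_ne_zero j).symm]]
        simp [ι_zero]
      map_mul' := fun g h => by
        rw [map_mul, map_mul, pa_mul, add_comm, ι_add, Subgroup.coe_mul]
        have e := K.conj_ι' (σ (pM h)) (pa g)
        rw [show K.Mν (σ (pM h)) = (pM h).1 from congrArg Subtype.val (hσ _)] at e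
        rw [← e]; group }
  have hΦ : ∀ g, Φ g = (σ (pM g) : G) * K.ι (pa g) := fun g => rfl
  have hιQ : ∀ a, K.ι a ∈ K.D.Q := fun a => (K.ι_mem a).1
  have hν : ∀ g : Ph0, K.Mν (σ (pM g)) = (pM g).1 := fun g => congrArg Subtype.val (hσ _)
  have hfix : ∀ g : Ph0, Φ g ∈ K.D.Ct ↔ FixRow g.1 := by
    intro g
    constructor
    · intro h
      have hs : (σ (pM g) : G) ∈ K.D.Ct := by
        have := mul_mem h (inv_mem (K.D.Q_le_Ct (hιQ (pa g))))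
        rwa [hΦ, mul_inv_cancel_right] at this
      have e := (K.Mν_C ⟨_, hs⟩).1
      rw [show K.inC ⟨(σ (pM g) : G), hs⟩ = σ (pM g) from rfl, hν] at e
      exact ⟨(congrFun e 0).trans (by simp), (congrFun e 1).trans (by simp), (congrFun e 2).trans (by simp)⟩
    · rintro ⟨a, b, c⟩
      have hM : (pM g).1 2 = Pi.single 2 1 := by
        funext j; fin_cases j
        exacts [a, b, c]
      exact mul_mem (K.blk_C hσ hM).1 (K.D.Q_le_Ct (hιQ _))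
  have hφ : ∀ (g : Ph0) (h : Φ g ∈ K.D.Ct), (K.D.φ ⟨Φ g, h⟩).1 = midBlock g.1 := by
    intro g h
    obtain ⟨a, b, c⟩ := (hfix g).1 h
    obtain ⟨hs, hs'⟩ := K.blk_C hσ (M := pM g) (by
      funext j; fin_cases j
      exacts [a, b, c])
    rw [show (⟨Φ g, h⟩ : K.D.Ct) = ⟨_, hs⟩ * ⟨_, K.D.Q_le_Ct (hιQ (pa g))⟩ from rfl, map_mul,
      (K.D.φ_ker ⟨K.ι (pa g), _⟩).2 (hιQ _), mul_one, hs']
    rfl
  refine ⟨{ D := K.D, F := K.F, Φ := Φ, inj := ?_, Φ_z := ?_, range_eq := ?_, Ct_le := ?_, fix_iff := hfix,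
            fix_φ := hφ, fix_cd := ?_ }, rfl, rfl⟩
  · rw [injective_iff_map_eq_one]
    intro g hg
    rw [hΦ] at hg
    have hm : σ (pM g) = ⟨(K.ι (pa g))⁻¹, by
        rw [← eq_inv_of_mul_eq_one_left hg]; exact (σ (pM g)).2⟩ := Subtype.ext (eq_inv_of_mul_eq_one_left hg)
    have h1 : pM g = 1 := by
      rw [← hσ (pM g), hm, K.ν_ker]
      exact inv_mem (K.ι_mem _)
    rw [h1, map_one, Subgroup.coe_one, one_mul, ← K.ι_zero] at hg
    exact Ph0_ext (h1.trans (map_one pM).symm) ((K.ι_inj hg).trans (funext fun j => by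
      simp [pa, Matrix.one_apply, (Fin.succ_ne_zero j).symm]))
  · rw [hΦ, e03, pM_mk0, pa_mk0, map_one, Subgroup.coe_one, one_mul, ← K.ι_single.2.2]
    congr 1
    funext j; fin_cases j <;> simp
  · refine le_antisymm ?_ fun g hg => ?_
    · rintro _ ⟨g, rfl⟩
      exact mul_mem (σ (pM g)).2 (le_normalizer (K.ι_mem _))
    · have hA : ((σ (K.ν ⟨g, hg⟩))⁻¹ * ⟨g, hg⟩ : K.N).1 ∈ K.A :=
        (K.ν_ker _).1 (by rw [map_mul, map_inv, hσ, inv_mul_cancel])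
      refine ⟨mk0 (K.ν ⟨g, hg⟩) (K.ex ((σ (K.ν ⟨g, hg⟩))⁻¹ * ⟨g, hg⟩ : K.N).1), ?_⟩
      rw [hΦ, pM_mk0, pa_mk0, K.ι_ex hA]
      show (σ (K.ν ⟨g, hg⟩) : G) * ((σ (K.ν ⟨g, hg⟩) : G)⁻¹ * g) = g
      group
  · intro g hg
    have hgN : g ∈ K.N := K.Ct_le_N hg
    have hA : ((σ (K.ν ⟨g, hgN⟩))⁻¹ * ⟨g, hgN⟩ : K.N).1 ∈ K.A :=
      (K.ν_ker _).1 (by rw [map_mul, map_inv, hσ, inv_mul_cancel])
    refine ⟨mk0 (K.ν ⟨g, hgN⟩) (K.ex ((σ (K.ν ⟨g, hgN⟩))⁻¹ * ⟨g, hgN⟩ : K.N).1), ?_⟩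
    rw [hΦ, pM_mk0, pa_mk0, K.ι_ex hA]
    show (σ (K.ν ⟨g, hgN⟩) : G) * ((σ (K.ν ⟨g, hgN⟩) : G)⁻¹ * g) = g
    group
  · intro g hg hb
    have hblk : pM g = blk 1 (g.1.1 1 3) (g.1.1 2 3) := by
      obtain ⟨a, b, c⟩ := hg
      have h11 := congrFun (congrFun hb 0) 0
      have h12 := congrFun (congrFun hb 0) 1
      have h21 := congrFun (congrFun hb 1) 0
      have h22 := congrFun (congrFun hb 1) 1
      simp [midBlock] at h11 h12 h21 h22
      apply Subtype.ext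
      ext i j
      fin_cases i <;> fin_cases j <;> simp [pM, pMm, blk] <;> first | assumption | rfl
    obtain ⟨q1, q2⟩ := K.blk_Q hσ (g.1.1 1 3) (g.1.1 2 3)
    rw [hΦ, hblk]
    refine ⟨mul_mem q1 (hιQ _), ?_⟩
    rw [K.F.cd_mul _ q1 _ (hιQ _), q2, cd_ι]
    simp [pa]

end Frame

end CfsgLib.L43Rec
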