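import Cfsg.Agent.Lib.L43Rec.Layer
import Cfsg.Agent.Lib.Basic
import Cfsg.Prelude.Def_Transfer

/-!
The setting from the hypotheses of the recognition theorem.
-/

set_option autoImplicit false

namespace CfsgLib.L43Rec

open Subgroup Cfsg

universe u

theorem resid_SL23 {H : Type u} [Group H] (e : H ≃* SL23) : pResidual 2 H = ⊤ := by
  have cube : ∀ x : SL23, x * x * x = 1 → x ∈ (pResidual 2 H).map e.toMonoidHom := fun x hx => by
    refine ⟨e.symm x, subset_closure ?_, e.apply_symm_apply x⟩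
    show (orderOf (e.symm x)).Coprime 2
    rw [MulEquiv.orderOf_eq]
    exact Nat.Coprime.coprime_dvd_left (orderOf_dvd_of_pow_eq_one (by rw [pow_three']; exact hx)) (by norm_num)
  have hall : ∀ g : SL23, g ∈ (pResidual 2 H).map e.toMonoidHom := by
    intro g
    induction g using sl_induction with
    | h1 => exact one_mem _
    | hI g ih =>
      obtain ⟨x, y, hx, hy, he⟩ : ∃ x y : SL23, x * x * x = 1 ∧ y * y * y = 1 ∧ mI = x * y := by decide +kernel
      rw [he]
      exact mul_mem (mul_mem (cube x hx) (cube y hy)) ih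
    | hU g ih => exact mul_mem (cube mU sl_rels.2.2.2.2.2.2.2.2.2.2.2.2) ih
  refine eq_top_iff.2 fun h _ => ?_
  obtain ⟨h', hh', eh⟩ := hall (e h)
  rwa [← e.injective eh]

/-- A factor moved by the group has order at least nine. -/
theorem factor_nine {G : Type u} [Group G] [Finite G] {C Q A B : Subgroup G} (hQC : Q ≤ C) (hBQ : B ≤ Q)
    (φ : C →* SL23) (φ_surj : Function.Surjective φ) (hφk : ∀ x : C, φ x = 1 → (x : G) ∈ Q) (hAB : A ≤ B)
    (hcm : ∀ a ∈ Q, ∀ b ∈ Q, a * b * a⁻¹ * b⁻¹ ∈ A)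
    (hA : ∀ c ∈ C, ∀ a ∈ A, c * a * c⁻¹ ∈ A) (hB : ∀ c ∈ C, ∀ b ∈ B, c * b * c⁻¹ ∈ B)
    (hmove : ∃ k ∈ C, ∃ a ∈ B, k * a * k⁻¹ * a⁻¹ ∉ A) {n : ℕ} (hn : A.relIndex B = 3 ^ n) : 9 ≤ A.relIndex B := by
  by_contra hlt
  obtain ⟨k0, hk0, a0, ha0, hne⟩ := hmove
  have ha0A : a0 ∉ A := fun h => hne (mul_mem (hA k0 hk0 a0 h) (inv_mem h))
  have h3 : A.relIndex B = 3 := by
    rcases n with _ | _ | n
    · exfalso
      rw [pow_zero, relIndex_eq_one] at hn
      exact ha0A (hn ha0)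
    · simpa using hn
    · exfalso
      refine hlt ?_
      rw [hn, pow_succ, pow_succ]
      have : 0 < 3 ^ n := pow_pos (by norm_num) n
      nlinarith
  haveI hN : (A.subgroupOf B).Normal := ⟨fun x hx g => by
    rw [mem_subgroupOf] at hx ⊢
    exact hA _ (hQC (hBQ g.2)) _ hx⟩
  set W := B ⧸ A.subgroupOf B
  haveI : Fact (Nat.Prime 3) := ⟨Nat.prime_three⟩
  have hW : Nat.card W = 3 := h3
  have cyc : ∀ (a : B), (a : G) ∉ A → ∀ b : B, ∃ i < 3, (QuotientGroup.mk b : W) = (QuotientGroup.mk a : W) ^ i := by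
    intro a ha b
    have ha1 : (QuotientGroup.mk a : W) ≠ 1 := fun h => ha (mem_subgroupOf.1 ((QuotientGroup.eq_one_iff a).1 h))
    have hb : (QuotientGroup.mk b : W) ∈ zpowers (QuotientGroup.mk a : W) := mem_zpowers_of_prime_card hW ha1
    obtain ⟨j, hj⟩ := mem_zpowers_iff.1 hb
    refine ⟨(j % 3).toNat, by omega, ?_⟩
    rw [← hj, ← zpow_natCast, Int.toNat_of_nonneg (Int.emod_nonneg _ (by norm_num))]
    conv_lhs => rw [← zpow_mod_natCard, hW]
    rfl
  let c : G → G → G := fun k a => k * a * k⁻¹ * a⁻¹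
  have hfix3 : ∀ k : C, φ k * φ k * φ k = 1 → ∀ a ∈ B, c k a ∈ A := by
    intro k hk a ha
    have hkC : (k : G) ∈ C := k.2
    by_cases haA : a ∈ A
    · exact mul_mem (hA k hkC a haA) (inv_mem haA)
    let f : B →* B := MonoidHom.mk' (fun b => ⟨(k : G) * b * (k : G)⁻¹, hB k hkC b b.2⟩)
      (fun x y => Subtype.ext (by simp [mul_assoc]))
    let fq : W →* W := QuotientGroup.map _ _ f (fun b hb => by
      rw [mem_comap, mem_subgroupOf]; exact hA k hkC _ (mem_subgroupOf.1 hb))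
    set w : W := QuotientGroup.mk (⟨a, ha⟩ : B) with hw
    obtain ⟨i, hi, hiw⟩ := cyc ⟨a, ha⟩ haA (f ⟨a, ha⟩)
    have hf : fq w = w ^ i := hiw
    have h3' : fq (fq (fq w)) = w := by
      have hk3 : ((k * k * k : C) : G) ∈ Q := hφk _ (by rw [map_mul, map_mul, hk])
      show (QuotientGroup.mk (f (f (f ⟨a, ha⟩))) : W) = QuotientGroup.mk (⟨a, ha⟩ : B)
      rw [QuotientGroup.eq, mem_subgroupOf]
      have hc := hcm _ hk3 _ (hBQ (inv_mem ha))
      simpa [f, mul_assoc] using hc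
    rw [hf, map_pow, map_pow, hf, map_pow, hf, ← pow_mul, ← pow_mul] at h3'
    have hiw1 : i = 1 := by
      have hw3 : orderOf w = 3 := by
        have hd : orderOf w ∣ 3 := hW ▸ orderOf_dvd_natCard w
        rcases (Nat.dvd_prime Nat.prime_three).1 hd with h | h
        · exact absurd (mem_subgroupOf.1 ((QuotientGroup.eq_one_iff _).1 (orderOf_eq_one_iff.1 h))) haA
        · exact h
      have hmod := (pow_eq_pow_iff_modEq.1 (h3'.trans (pow_one w).symm))
      rw [hw3] at hmod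
      unfold Nat.ModEq at hmod
      interval_cases i <;> revert hmod <;> norm_num
    rw [hiw1, pow_one] at hiw
    have := (QuotientGroup.eq).1 hiw.symm
    rw [mem_subgroupOf] at this
    have h' := hA a (hQC (hBQ ha)) _ this
    simpa [c, f, mul_assoc] using h'
  have hmul : ∀ k l : C, (∀ a ∈ B, c k a ∈ A) → (∀ a ∈ B, c l a ∈ A) → ∀ a ∈ B, c (k * l : C) a ∈ A := by
    intro k l hk hl a ha
    have := mul_mem (hA k k.2 _ (hl a ha)) (hk a ha)
    rw [show c ((k * l : C) : G) a = (k : G) * c l a * (k : G)⁻¹ * c k a by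
      simp only [c, Subgroup.coe_mul]; group]
    exact this
  have hall : ∀ g : SL23, ∀ k : C, φ k = g → ∀ a ∈ B, c k a ∈ A := by
    intro g
    obtain ⟨x, y, hx, hy, he⟩ : ∃ x y : SL23, x * x * x = 1 ∧ y * y * y = 1 ∧ mI = x * y := by decide +kernel
    have step : ∀ x g : SL23, x * x * x = 1 → (∃ kx : C, φ kx = x) →
        (∀ k : C, φ k = g → ∀ a ∈ B, c k a ∈ A) → ∀ k : C, φ k = x * g → ∀ a ∈ B, c k a ∈ A := by
      rintro x g hx ⟨kx, hkx⟩ ih k hk
      have h1 := ih (kx⁻¹ * k) (by rw [map_mul, map_inv, hk, hkx, inv_mul_cancel_left])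
      have h2 := hmul kx (kx⁻¹ * k) (hfix3 kx (by rw [hkx]; exact hx)) h1
      rwa [mul_inv_cancel_left] at h2
    induction g using sl_induction with
    | h1 => exact fun k hk => hfix3 k (by rw [hk, one_mul, one_mul])
    | hI g ih =>
      intro k hk
      rw [he, mul_assoc] at hk
      exact step x (y * g) hx (φ_surj x) (step y g hy (φ_surj y) ih) k hk
    | hU g ih => exact step mU g sl_rels.2.2.2.2.2.2.2.2.2.2.2.2 (φ_surj mU) ih
  exact hne (hall _ ⟨k0, hk0⟩ rfl a0 ha0)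

end CfsgLib.L43Rec
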