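import Cfsg.Agent.Lib.L43Rec.Setup

/-!
The construction of the setting.
-/

set_option autoImplicit false

namespace CfsgLib.L43Rec

open Subgroup Cfsg
open scoped commutatorElement

universe u

theorem exists_setting {G : Type u} [Group G] [Finite G]
    (S : Sylow 3 G) (Z : Subgroup G) (hZ : Z = (S : Subgroup G) ⊓ Subgroup.centralizer ((S : Subgroup G) : Set G))
    (C : Subgroup G) (hCZ : C = Subgroup.centralizer (Z : Set G))
    (Q : Subgroup G) (hQ : Q = (Cfsg.pCore 3 C).map C.subtype)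
    (hQex : Cfsg.IsExtraspecial 3 Q) (hQcard : Nat.card Q = 3 ^ 5) (hQexp : ∀ a ∈ Q, a ^ 3 = 1)
    (hCQ : Subgroup.centralizer (Q : Set G) ≤ Q)
    (hZQ : ∃ x : G, Z.map (MulAut.conj x).toMonoidHom ≤ Q ∧ Z.map (MulAut.conj x).toMonoidHom ≠ Z)
    (K : Subgroup G) (hK : K = ((Cfsg.pResidual 2 (C ⧸ Cfsg.pCore 3 C)).comap (QuotientGroup.mk' (Cfsg.pCore 3 C))).map C.subtype)
    (r : ℕ) (A : Fin (r + 1) → Subgroup G) (hA0 : A 0 = Z) (hAr : A (Fin.last r) = Q)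
    (hmono : ∀ i : Fin r, A i.castSucc < A i.succ)
    (hinv : ∀ i : Fin (r + 1), ∀ k ∈ K, ∀ a ∈ A i, k * a * k⁻¹ ∈ A i)
    (hmax : ∀ i : Fin r, ∀ B : Subgroup G, A i.castSucc < B → B < A i.succ → ∃ k ∈ K, ∃ b ∈ B, k * b * k⁻¹ ∉ B)
    (e : C ⧸ Cfsg.pCore 3 C ≃* Matrix.SpecialLinearGroup (Fin 2) (ZMod 3))
    (htwo : ∃ i j : Fin r, i ≠ j ∧ (∃ k ∈ K, ∃ a ∈ A i.succ, k * a * k⁻¹ * a⁻¹ ∉ A i.castSucc) ∧ (∃ k ∈ K, ∃ a ∈ A j.succ, k * a * k⁻¹ * a⁻¹ ∉ A j.castSucc) ∧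
      ∀ l : Fin r, (∃ k ∈ K, ∃ a ∈ A l.succ, k * a * k⁻¹ * a⁻¹ ∉ A l.castSucc) → l = i ∨ l = j) :
    ∃ D : Setting G, ∃ g : G, g * D.z * g⁻¹ ∈ D.Q ∧ g * D.z * g⁻¹ ∉ D.Zc := by
  classical
  haveI : Fact (Nat.Prime 3) := ⟨Nat.prime_three⟩
  have hKC : K = C := by
    rw [hK, resid_SL23 e, comap_top, ← MonoidHom.range_eq_map, range_subtype]
  rw [hKC] at hinv hmax htwo
  clear hK hKC K
  have hQC : Q ≤ C := hQ ▸ map_subtype_le _
  have hSC : (S : Subgroup G) ≤ C := fun s hs => by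
    rw [hCZ]
    refine mem_centralizer_iff.2 fun z hz => ?_
    rw [hZ] at hz
    exact (mem_centralizer_iff.1 hz.2 s hs).symm
  have hQS : Q ≤ (S : Subgroup G) := by
    rw [hQ]
    rintro _ ⟨x, hx, rfl⟩
    exact CfsgLib.pCore_le_sylow (S.subtype hSC) hx
  have hmemQ : ∀ x : C, (x : G) ∈ Q ↔ x ∈ pCore 3 C := fun x => by
    rw [hQ]
    exact ⟨fun ⟨y, hy, ey⟩ => (Subtype.ext ey : y = x) ▸ hy, fun h => ⟨x, h, rfl⟩⟩
  haveI : (pCore 3 C).Normal := inferInstance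
  have hQn : ∀ c ∈ C, ∀ q ∈ Q, c * q * c⁻¹ ∈ Q := fun c hc q hq => by
    have := Subgroup.Normal.conj_mem (H := pCore 3 C) inferInstance _ ((hmemQ ⟨q, hQC hq⟩).1 hq) ⟨c, hc⟩
    exact (hmemQ (⟨c, hc⟩ * ⟨q, hQC hq⟩ * (⟨c, hc⟩ : C)⁻¹)).2 this
  -- the centre
  set CQ : Subgroup G := (center Q).map Q.subtype with hCQd
  have hcard : Nat.card CQ = 3 := by rw [hCQd, card_map_of_injective Q.subtype_injective, hQex.2]
  have hZle : Z ≤ CQ := fun z hz => by
    rw [hZ] at hz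
    have hzQ : z ∈ Q := hCQ (mem_centralizer_iff.2 fun q hq => mem_centralizer_iff.1 hz.2 q (hQS hq))
    exact ⟨⟨z, hzQ⟩, mem_center_iff.2 fun q => Subtype.ext (mem_centralizer_iff.1 hz.2 (q : G) (hQS q.2)), rfl⟩
  have hZeq : Z = CQ := by
    haveI : Nontrivial (S : Subgroup G) := by
      refine Finite.one_lt_card_iff_nontrivial.1 ?_
      calc 1 < Nat.card Q := by rw [hQcard]; norm_num
        _ ≤ _ := Nat.le_of_dvd Nat.card_pos (card_dvd_of_le hQS)
    haveI := S.isPGroup'.center_nontrivial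
    obtain ⟨c, hc⟩ := exists_ne (1 : center (S : Subgroup G))
    have hcZ : ((c : (S : Subgroup G)) : G) ∈ Z := by
      rw [hZ]
      exact ⟨(c : (S : Subgroup G)).2, mem_centralizer_iff.2 fun s hs =>
        congrArg Subtype.val (mem_center_iff.1 c.2 ⟨s, hs⟩)⟩
    refine eq_of_le_of_card_ge hZle ?_
    rw [hcard]
    rcases (Nat.dvd_prime Nat.prime_three).1 (hcard ▸ card_dvd_of_le hZle) with h | h
    · exact absurd (Subtype.ext (Subtype.ext (by rw [card_eq_one.1 h, mem_bot] at hcZ; exact hcZ))) hc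
    · exact h.ge
  have hZc : Nat.card Z = 3 := hZeq ▸ hcard
  obtain ⟨z0, hz0⟩ := exists_prime_orderOf_dvd_card' (G := Z) 3 (by rw [hZc])
  obtain ⟨z, hzd⟩ : ∃ z : G, z = z0.1 := ⟨_, rfl⟩
  have hz : orderOf z = 3 := by rw [hzd, orderOf_coe]; exact hz0
  have hZz : Z = zpowers z :=
    (eq_of_le_of_card_ge (zpowers_le.2 (hzd ▸ z0.2 : z ∈ Z)) (by rw [hZc, Nat.card_zpowers, hz])).symm
  have hCc : C = centralizer ({z} : Set G) := by
    rw [hCZ, hZz]
    ext g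
    rw [mem_centralizer_iff, mem_centralizer_singleton_iff]
    exact ⟨fun h => (h z (mem_zpowers z)).symm, fun h x hx => by
      obtain ⟨k, rfl⟩ := mem_zpowers_iff.1 hx
      exact ((show Commute g z from h).zpow_right k).eq.symm⟩
  subst hCc
  have hzQ : z ∈ Q := map_subtype_le _ (hZeq ▸ (hZz ▸ mem_zpowers z : z ∈ Z) : z ∈ CQ)
  have hcm : ∀ a ∈ Q, ∀ b ∈ Q, a * b * a⁻¹ * b⁻¹ ∈ Z := fun a ha b hb => by
    rw [hZeq]
    refine ⟨⁅(⟨a, ha⟩ : Q), ⟨b, hb⟩⁆, ?_, rfl⟩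
    rw [← hQex.1.2.2]
    exact commutator_mem_commutator (mem_top _) (mem_top _)
  set φ : centralizer ({z} : Set G) →* SL23 := e.toMonoidHom.comp (QuotientGroup.mk' _) with hφ
  have hφs : Function.Surjective φ := e.surjective.comp (QuotientGroup.mk'_surjective _)
  have hφk : ∀ x, φ x = 1 ↔ (x : G) ∈ Q := fun x => by
    rw [hmemQ]
    show e (QuotientGroup.mk' _ x) = 1 ↔ _
    rw [MulEquiv.map_eq_one_iff]
    exact QuotientGroup.eq_one_iff _
  -- the chain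
  have hmonot : StrictMono A := Fin.strictMono_iff_lt_succ.2 hmono
  have hleQ : ∀ l, A l ≤ Q := fun l => hAr ▸ hmonot.monotone (Fin.le_last l)
  have hZA : ∀ l, Z ≤ A l := fun l => hA0 ▸ hmonot.monotone (Fin.zero_le l)
  have nine : ∀ l : Fin r, (∃ k ∈ centralizer ({z} : Set G), ∃ a ∈ A l.succ, k * a * k⁻¹ * a⁻¹ ∉ A l.castSucc) →
      9 * Nat.card (A l.castSucc) ≤ Nat.card (A l.succ) ∧
      Nat.card (A l.castSucc) * (A l.castSucc).relIndex (A l.succ) = Nat.card (A l.succ) := by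
    intro l hl
    have hmul : Nat.card (A l.castSucc) * (A l.castSucc).relIndex (A l.succ) = Nat.card (A l.succ) := by
      rw [← relIndex_bot_left, ← relIndex_bot_left]
      exact relIndex_mul_relIndex ⊥ _ _ bot_le (hmono l).le
    refine ⟨?_, hmul⟩
    obtain ⟨n, -, hn⟩ := (Nat.dvd_prime_pow Nat.prime_three).1
      (show (A l.castSucc).relIndex (A l.succ) ∣ 3 ^ 5 from
        (Dvd.intro_left _ hmul).trans (hQcard ▸ card_dvd_of_le (hleQ _)))
    have h9 := factor_nine hQC (hleQ _) φ hφs (fun x => (hφk x).1) (hmono l).le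
      (fun a ha b hb => hZA _ (hcm a ha b hb)) (fun c hc a ha => hinv _ c hc a ha)
      (fun c hc b hb => hinv _ c hc b hb) hl hn
    rw [← hmul, mul_comm]
    exact Nat.mul_le_mul_left _ h9
  obtain ⟨i0, j0, hne, hi0, hj0, -⟩ := htwo
  obtain ⟨i, j, hij, hi, hj⟩ : ∃ i j : Fin r, i < j ∧
      (∃ k ∈ centralizer ({z} : Set G), ∃ a ∈ A i.succ, k * a * k⁻¹ * a⁻¹ ∉ A i.castSucc) ∧
      (∃ k ∈ centralizer ({z} : Set G), ∃ a ∈ A j.succ, k * a * k⁻¹ * a⁻¹ ∉ A j.castSucc) := by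
    rcases lt_or_gt_of_ne hne with h | h
    · exact ⟨i0, j0, h, hi0, hj0⟩
    · exact ⟨j0, i0, h, hj0, hi0⟩
  obtain ⟨hi9, hmi⟩ := nine i hi
  obtain ⟨hj9, hmj⟩ := nine j hj
  have hc3 : 3 ≤ Nat.card (A i.castSucc) := hZc ▸ Nat.le_of_dvd Nat.card_pos (card_dvd_of_le (hZA _))
  have hij' : i.succ ≤ j.castSucc := hij
  have hcij : Nat.card (A i.succ) ≤ Nat.card (A j.castSucc) :=
    Nat.le_of_dvd Nat.card_pos (card_dvd_of_le (hmonot.monotone hij'))
  have hcQ : Nat.card (A j.succ) ≤ 243 := by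
    have := Nat.le_of_dvd Nat.card_pos (card_dvd_of_le (hleQ j.succ))
    rw [hQcard] at this
    simpa using this
  have eZ : A i.castSucc = Z := (eq_of_le_of_card_ge (hZA _) (by rw [hZc]; omega)).symm
  have eM : A i.succ = A j.castSucc := eq_of_le_of_card_ge (hmonot.monotone hij') (by omega)
  have eQ : A j.succ = Q := eq_of_le_of_card_ge (hleQ _) (by rw [hQcard]; norm_num; omega)
  have ri : (A i.castSucc).relIndex (A i.succ) = 9 := by
    have c1 : Nat.card (A i.castSucc) = 3 := by omega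
    have c2 : Nat.card (A i.succ) = 27 := by omega
    rw [c1, c2] at hmi; omega
  have rj : (A j.castSucc).relIndex (A j.succ) = 9 := by
    have c1 : Nat.card (A j.castSucc) = 27 := by omega
    have c2 : Nat.card (A j.succ) = 243 := by omega
    rw [c1, c2] at hmj; omega
  have inv1 : ∀ x, φ x = -1 → ∀ q ∈ A i.succ, (x : G) * q * (x : G)⁻¹ * q ∈ Z := fun x hx q hq => eZ ▸
    layer_inv hQC (hZA i.castSucc) (hmono i).le (hleQ _) hcm φ hφs (fun x => (hφk x).1)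
      (fun c hc a ha => hinv _ c hc a ha) (fun c hc b hb => hinv _ c hc b hb) ri (hmax i) hx hq
  have inv2 : ∀ x, φ x = -1 → ∀ q ∈ Q, (x : G) * q * (x : G)⁻¹ * q ∈ A i.succ := fun x hx q hq => by
    rw [eM]
    exact layer_inv hQC (hZA j.castSucc) (hmono j).le (hleQ _) hcm φ hφs (fun x => (hφk x).1)
      (fun c hc a ha => hinv _ c hc a ha) (fun c hc b hb => hinv _ c hc b hb) rj (hmax j) hx (eQ.symm ▸ hq)
  have hzc : ∀ c ∈ centralizer ({z} : Set G), ∀ w ∈ Z, c * w * c⁻¹ = w := by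
    intro c hc w hw
    rw [hZz] at hw
    obtain ⟨k, rfl⟩ := mem_zpowers_iff.1 hw
    rw [((show Commute c z from mem_centralizer_singleton_iff.1 hc).zpow_right k).eq, mul_inv_cancel_right]
  have hneg : ∀ x : centralizer ({z} : Set G), φ x = -1 → ∀ q ∈ Q, (x : G) * q * (x : G)⁻¹ * q ∈ zpowers z := by
    intro x hx q hq
    rw [← hZz]
    set u := (x : G) * q * (x : G)⁻¹ * q with hu
    have huA := inv2 x hx q hq
    have h1 := inv1 x hx u huA
    -- the square of the element fixes the core modulo the centre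
    have hx2 : (x : G) * x ∈ Q := (hφk (x * x)).1 (by rw [map_mul, hx]; decide +kernel)
    have h2 : (x : G) * u * (x : G)⁻¹ * u⁻¹ ∈ Z := by
      have hc1 := hcm _ hx2 _ hq
      have hxq : (x : G) * q * (x : G)⁻¹ ∈ Q := hQn _ x.2 _ hq
      have hc2 := hcm q hq _ hxq
      have e : (x : G) * u * (x : G)⁻¹ * u⁻¹ =
          ((x : G) * x * q * ((x : G) * x)⁻¹ * q⁻¹) * (q * ((x : G) * q * (x : G)⁻¹) * q⁻¹ * ((x : G) * q * (x : G)⁻¹)⁻¹) := by
        simp only [hu]; group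
      rw [e]
      exact mul_mem hc1 hc2
    have h3 : u * u ∈ Z := by
      have := mul_mem (inv_mem h2) h1
      rwa [show ((x : G) * u * (x : G)⁻¹ * u⁻¹)⁻¹ * ((x : G) * u * (x : G)⁻¹ * u) = u * u by group] at this
    have h4 : u ^ 3 = 1 := hQexp u (mul_mem (hQn _ x.2 _ hq) hq)
    have : u = (u * u)⁻¹ := eq_inv_of_mul_eq_one_left (by rw [← pow_three]; exact h4)
    rw [this]
    exact inv_mem h3
  obtain ⟨g, hgQ, hgZ⟩ := hZQ
  refine ⟨{ z := z, z_ord := hz, Q := Q, Q_card := by rw [hQcard]; norm_num, z_Q := hzQ,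
            Q_z := fun q hq => mem_centralizer_singleton_iff.1 (hQC hq),
            Q_centre := fun q hq h => hZz ▸ hZeq ▸ ⟨⟨q, hq⟩, mem_center_iff.2 fun x => Subtype.ext (h x x.2).symm, rfl⟩,
            Q_comm := fun a ha b hb => hZz ▸ hcm a ha b hb,
            Q_exp := hQexp, Q_self := hCQ,
            Q_norm := fun c hc q hq => hQn c (mem_centralizer_singleton_iff.2 hc) q hq,
            φ := φ, φ_surj := hφs, φ_ker := hφk, neg_inv := hneg }, g, ?_, fun h => hgZ ?_⟩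
  · exact hgQ ⟨z, hZz ▸ mem_zpowers z, rfl⟩
  · refine eq_of_le_of_card_ge ?_ (by rw [card_map_of_injective (f := (MulAut.conj g).toMonoidHom) (MulAut.conj g).injective])
    rw [hZz, MonoidHom.map_zpowers]
    exact zpowers_le.2 h

end CfsgLib.L43Rec
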