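import Cfsg.Agent.Lib.L43Rec.TwoSwap
import Cfsg.Agent.Lib.L43Rec.Dual

/-!
The normalizers of the two planes, identified compatibly on the normalizer of the centre.
-/

set_option autoImplicit false

namespace CfsgLib.L43Rec

open Subgroup Matrix

universe u

/-- The compatible identifications. -/
structure Two (G : Type u) [Group G] where
  /-- the first -/
  S : Std G
  /-- the second -/
  Ψ : Ph3 →* G
  /-- equal on the first plane -/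
  agree_p : ∀ a1 a2 a3 : ZMod 3, Ψ (p3 a1 a2 a3) = S.Φ (cel a1 a2 a3 0 0 1)
  /-- equal on the second plane -/
  agree_q : ∀ c1 c2 : ZMod 3, Ψ (q3 c1 c2) = S.Φ (cel 0 0 0 c1 c2 1)
  /-- equal on the blocks -/
  agree_w : ∀ W : SL23, Ψ (w3 W) = S.Φ (cel 0 0 0 0 0 W)
  /-- compatible at the inverting elements -/
  agree_n : Ψ n3 = S.Φ s0
  /-- the second core at a conjugate in the second plane -/
  inter2 : ∀ g : G, g * S.D.z * g⁻¹ ∈ S.D.Q → g * S.D.z * g⁻¹ ∉ S.D.Zc →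
    (S.F.cd (g * S.D.z * g⁻¹)).1 = 0 ∧ (S.F.cd (g * S.D.z * g⁻¹)).2.1 = 0 →
    ∀ q ∈ S.D.Q, q ∈ (S.D.conj g).Q → (S.F.cd q).1 = 0 ∧ (S.F.cd q).2.1 = 0

theorem mU_move : ∀ k : ZMod 3, ∃ a2 c1 : ZMod 3, c1 ≠ 0 ∧ (k ≠ 0 → a2 ≠ 0) ∧
    (nel * (cel 0 0 0 0 0 mU * cel 0 0 k 0 0 1)).1.1 = (cel 0 a2 0 c1 0 1 * nel).1.1 := by decide +kernel

theorem w_mul : ∀ V W : SL23, (cel 0 0 0 0 0 (V * W)).1.1 = (cel 0 0 0 0 0 V * cel 0 0 0 0 0 W).1.1 := by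
  decide +kernel

theorem mI_four : mI * mI * (mI * mI) = 1 := by decide +kernel

theorem s0_flip : (∀ a1 a2 a3 : ZMod 3, (s0 * cel a1 a2 a3 0 0 1).1.1 = (cel a1 (-a2) (-a3) 0 0 1 * s0).1.1 ∧
      (n3 : SL43).1 * (cel a1 a2 a3 0 0 1).1.1 = (cel a1 (-a2) (-a3) 0 0 1).1.1 * (n3 : SL43).1) ∧
    (∀ c1 c2 : ZMod 3, (s0 * cel 0 0 0 c1 c2 1).1.1 = (cel 0 0 0 (-c1) c2 1 * s0).1.1 ∧
      (n3 : SL43).1 * (cel 0 0 0 c1 c2 1).1.1 = (cel 0 0 0 (-c1) c2 1).1.1 * (n3 : SL43).1) := by decide +kernel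

theorem tm_facts : (∀ a1 a2 : ZMod 3, (cel 0 0 0 0 0 (-1) * cel a1 a2 0 0 0 1).1.1 =
      (cel (-a1) (-a2) 0 0 0 1 * cel 0 0 0 0 0 (-1)).1.1) ∧
    (∀ c1 c2 : ZMod 3, (cel 0 0 0 0 0 (-1) * cel 0 0 0 c1 c2 1).1.1 =
      (cel 0 0 0 (-c1) (-c2) 1 * cel 0 0 0 0 0 (-1)).1.1) ∧
    (cel 0 0 0 0 0 (-1) * cel 0 0 0 0 0 (-1)).1.1 = 1 ∧
    (∀ W : SL23, (cel 0 0 0 0 0 (-1) * cel 0 0 0 0 0 W).1.1 = (cel 0 0 0 0 0 W * cel 0 0 0 0 0 (-1)).1.1) ∧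
    (∀ a1 a2 : ZMod 3, (cel (-a1) (-a2) 0 0 0 1).1.1 * (cel a1 a2 0 0 0 1).1.1 = 1) ∧
    (∀ c1 c2 : ZMod 3, (cel 0 0 0 (-c1) (-c2) 1).1.1 * (cel 0 0 0 c1 c2 1).1.1 = 1) := by decide +kernel

theorem Q_split : ∀ a1 a2 a3 c1 c2 : ZMod 3, ∃ k : ZMod 3, (cel a1 a2 a3 c1 c2 1).1.1 =
    (cel a1 a2 0 0 0 1).1.1 * (cel 0 0 0 c1 c2 1).1.1 * (cel 0 0 k 0 0 1).1.1 := by decide +kernel

theorem z_comm' : (cel 1 0 0 0 0 1).1.1 * (cel 0 0 0 1 0 1).1.1 * (cel (-1) 0 0 0 0 1).1.1 *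
    (cel 0 0 0 (-1) 0 1).1.1 = e03.1.1 := by decide +kernel

theorem cel_z : ∀ k : ZMod 3, (cel 0 0 k 0 0 1).1.1 = (e03 ^ k.val).1.1 := by decide +kernel

namespace Std

variable {G : Type u} [Group G]

theorem cel_φ_of (S' : Std G) (D : Setting G) (hD : S'.D = D) (W : SL23) :
    ∃ h : S'.Φ (cel 0 0 0 0 0 W) ∈ D.Ct, D.φ ⟨_, h⟩ = W := by
  subst hD; exact ⟨_, S'.cel_φ 0 0 0 0 0 W⟩

theorem cel_Q_of (S' : Std G) (D : Setting G) (hD : S'.D = D) (a1 a2 a3 c1 c2 : ZMod 3) :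
    S'.Φ (cel a1 a2 a3 c1 c2 1) ∈ D.Q ∧ S'.F.cd (S'.Φ (cel a1 a2 a3 c1 c2 1)) = (a2, -a1, c1, c2) := by
  subst hD; exact S'.cel_Q a1 a2 a3 c1 c2

theorem inter_of (S' : Std G) [Finite G] (D : Setting G) (hD : S'.D = D) {g : G}
    (h1 : g * D.z * g⁻¹ ∈ D.Q) (h2 : (S'.F.cd (g * D.z * g⁻¹)).2.2 = (0, 0)) (h3 : g * D.z * g⁻¹ ∉ D.Zc) :
    ∀ q ∈ D.Q, q ∈ (D.conj g).Q → (S'.F.cd q).2.2 = (0, 0) := by
  subst hD
  intro q hq hq'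
  exact ((S'.inter_cores ⟨h1, h2⟩ h3).le ⟨hq, hq'⟩).2

theorem plane_conj_of (S' : Std G) (D : Setting G) (hD : S'.D = D) {e : G} (h1 : e ∈ D.Q)
    (h2 : (S'.F.cd e).2.2 = (0, 0)) (h3 : e ∉ D.Zc) : IsConj D.z e := by
  subst hD
  obtain ⟨n, hn⟩ := S'.plane_conj ⟨h1, h2⟩ h3
  exact isConj_iff.2 ⟨_, hn⟩

theorem exists_Two [Finite G] (S : Std G) (hII : ¬ S.CaseOne) : ∃ T : Two G, T.S = S := by
  classical
  obtain ⟨S', hD, hcd'⟩ := S.exists_second hII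
  have hcd : ∀ q, S'.F.cd q = swp (S.F.cd q) := fun q => congrFun hcd' q
  obtain ⟨tA1, tA2, tsq, tW, iA1, iA2⟩ := tm_facts
  set T := S.Φ (cel 0 0 0 0 0 (-1)) with hT
  obtain ⟨hT'C, hT'φ⟩ := S'.cel_φ_of S.D hD (-1)
  set T' := S'.Φ (cel 0 0 0 0 0 (-1)) with hT'
  have hTC : T ∈ S.D.Ct := S.cel_Ct _ _ _ _ _ _
  have hT2 : T * T = 1 := by rw [hT, ← map_mul, ← map_one S.Φ]; exact S.eq_of tsq
  have hT'2 : T' * T' = 1 := by rw [hT', ← map_mul, ← map_one S'.Φ]; exact S'.eq_of tsq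
  set δ := T⁻¹ * T' with hδ
  have hδQ : δ ∈ S.D.Q := (S.D.φ_ker ⟨δ, mul_mem (inv_mem hTC) hT'C⟩).1 (by
    rw [show (⟨δ, mul_mem (inv_mem hTC) hT'C⟩ : S.D.Ct) = ⟨T, hTC⟩⁻¹ * ⟨T', hT'C⟩ from rfl, map_mul, map_inv,
      hT'φ, show S.D.φ ⟨T, hTC⟩ = -1 from S.cel_φ 0 0 0 0 0 (-1), inv_mul_cancel])
  have hTi : T⁻¹ = T := inv_eq_of_mul_eq_one_left hT2
  have hT'e : T' = T * δ := by rw [hδ, mul_inv_cancel_left]
  have hδinv : T * δ * T = δ⁻¹ := eq_inv_of_mul_eq_one_left (by rw [← hT'2, hT'e]; group)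
  set q := δ ^ 2 with hq
  have hqQ : q ∈ S.D.Q := pow_mem hδQ 2
  have hqT : q * T' * q⁻¹ = T := by
    have hδ3 : δ ^ 3 = 1 := S.D.Q_exp _ hδQ
    have e1 : T * q * T = q⁻¹ := by
      rw [hq, pow_two, ← show δ⁻¹ * δ⁻¹ = (δ * δ)⁻¹ from (_root_.mul_inv_rev δ δ).symm, ← hδinv]
      calc T * (δ * δ) * T = T * δ * (T * T) * δ * T := by rw [hT2]; group
        _ = _ := by group
    rw [mul_inv_eq_iff_eq_mul, hT'e, ← mul_assoc]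
    have e2 : q * T = T * q⁻¹ := by
      rw [← e1]
      calc q * T = T * T * q * T := by rw [hT2, one_mul]
        _ = _ := by group
    rw [e2, mul_assoc]
    congr 1
    rw [hq, inv_mul_eq_iff_eq_mul, ← pow_add, show 2 + 2 = 3 + 1 from rfl, pow_succ, hδ3, one_mul]
  let Ψ1 : Ph3 →* G := (MulAut.conj q).toMonoidHom.comp (S'.Φ.comp dual3)
  have hΨ1 : ∀ g, Ψ1 g = q * S'.Φ (dual3 g) * q⁻¹ := fun g => rfl
  have h1T : Ψ1 (w3 (-1)) = T := by rw [hΨ1, dual3_w, ← hT', hqT]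
  have hcdq : ∀ r ∈ S.D.Q, q * r * q⁻¹ ∈ S.D.Q ∧ S.F.cd (q * r * q⁻¹) = S.F.cd r := fun r hr => by
    refine ⟨mul_mem (mul_mem hqQ hr) (inv_mem hqQ), ?_⟩
    rw [S.F.cd_mul _ (mul_mem hqQ hr) _ (inv_mem hqQ), S.F.cd_mul _ hqQ _ hr, S.F.cd_inv hqQ]
    abel
  have hswp : ∀ v w : V4, swp v = w → v = swp w := fun v w h => by rw [← h]; rfl
  -- elements inverted by the involution with equal coordinates are equal
  have pin : ∀ r r' : G, r ∈ S.D.Q → r' ∈ S.D.Q → S.F.cd r = S.F.cd r' → T * r * T⁻¹ = r⁻¹ →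
      T * r' * T⁻¹ = r'⁻¹ → r = r' := by
    intro r r' hr hr' hv h1 h2
    have hz : r⁻¹ * r' ∈ S.D.Zc := (S.F.cd_zero _ (mul_mem (inv_mem hr) hr')).1 (by
      rw [S.F.cd_mul _ (inv_mem hr) _ hr', S.F.cd_inv hr, hv, neg_add_cancel])
    have h3 : T * (r⁻¹ * r') * T⁻¹ = r⁻¹ * r' := S.D.conj_Zc hTC hz
    rw [show T * (r⁻¹ * r') * T⁻¹ = (T * r * T⁻¹)⁻¹ * (T * r' * T⁻¹) by group, h1, h2, inv_inv,
      show r * r'⁻¹ = r * (r⁻¹ * r')⁻¹ * r⁻¹ by group, S.D.conj_Zc (S.D.Q_le_Ct hr) (inv_mem hz)] at h3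
    have h4 : (r⁻¹ * r') * (r⁻¹ * r') = 1 := by
      nth_rewrite 1 [← h3]
      exact inv_mul_cancel _
    have h5 : (r⁻¹ * r') ^ 3 = 1 := S.D.Q_exp _ (S.D.Zc_le_Q hz)
    rw [pow_succ, pow_two, h4, one_mul] at h5
    exact inv_mul_eq_one.1 h5
  have pT : ∀ a1 a2, T * S.Φ (cel a1 a2 0 0 0 1) * T⁻¹ = (S.Φ (cel a1 a2 0 0 0 1))⁻¹ := fun a1 a2 => by
    rw [hT, inv_eq_of_mul_eq_one_left (show S.Φ (cel (-a1) (-a2) 0 0 0 1) * S.Φ (cel a1 a2 0 0 0 1) = 1 by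
      rw [← map_mul, ← map_one S.Φ]; exact S.eq_of (iA1 a1 a2))]
    rw [mul_inv_eq_iff_eq_mul, ← map_mul, ← map_mul]
    exact S.eq_of (tA1 a1 a2)
  have qT : ∀ c1 c2, T * S.Φ (cel 0 0 0 c1 c2 1) * T⁻¹ = (S.Φ (cel 0 0 0 c1 c2 1))⁻¹ := fun c1 c2 => by
    rw [hT, inv_eq_of_mul_eq_one_left (show S.Φ (cel 0 0 0 (-c1) (-c2) 1) * S.Φ (cel 0 0 0 c1 c2 1) = 1 by
      rw [← map_mul, ← map_one S.Φ]; exact S.eq_of (iA2 c1 c2))]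
    rw [mul_inv_eq_iff_eq_mul, ← map_mul, ← map_mul]
    exact S.eq_of (tA2 c1 c2)
  have inv1 : ∀ (g g' : Ph3), (w3 (-1) * g : Ph3).1.1 = (g' * w3 (-1) : Ph3).1.1 → g'.1.1 * g.1.1 = 1 →
      T * Ψ1 g * T⁻¹ = (Ψ1 g)⁻¹ := by
    intro g g' h1 h2
    have e1 : w3 (-1) * g = g' * w3 (-1) := Subtype.ext (Subtype.ext h1)
    have e2 : g' * g = 1 := Subtype.ext (Subtype.ext h2)
    rw [← h1T, ← map_inv, ← map_mul, ← map_mul, ← map_inv, e1, mul_inv_cancel_right,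
      inv_eq_of_mul_eq_one_left e2]
  have hp : ∀ a1 a2, Ψ1 (p3 a1 a2 0) = S.Φ (cel a1 a2 0 0 0 1) := by
    intro a1 a2
    obtain ⟨hQ', hv'⟩ := S'.cel_Q_of S.D hD 0 0 0 a2 (-a1)
    obtain ⟨hQ1, hv1⟩ := hcdq _ hQ'
    obtain ⟨hQ, hv⟩ := S.cel_Q a1 a2 0 0 0
    have he : Ψ1 (p3 a1 a2 0) = q * S'.Φ (cel 0 0 0 a2 (-a1) 1) * q⁻¹ := by rw [hΨ1, dual3_p]
    rw [hcd] at hv'
    refine pin _ _ (he ▸ hQ1) hQ ?_ (inv1 _ (p3 (-a1) (-a2) 0) (tA1 a1 a2) (iA1 a1 a2)) (pT a1 a2)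
    rw [he, hv1, hv, hswp _ _ hv']
    simp [swp]
  have hq' : ∀ c1 c2, Ψ1 (q3 c1 c2) = S.Φ (cel 0 0 0 c1 c2 1) := by
    intro c1 c2
    obtain ⟨hQ', hv'⟩ := S'.cel_Q_of S.D hD (-c2) c1 0 0 0
    obtain ⟨hQ1, hv1⟩ := hcdq _ hQ'
    obtain ⟨hQ, hv⟩ := S.cel_Q 0 0 0 c1 c2
    have he : Ψ1 (q3 c1 c2) = q * S'.Φ (cel (-c2) c1 0 0 0 1) * q⁻¹ := by rw [hΨ1, dual3_q]
    rw [hcd] at hv'
    refine pin _ _ (he ▸ hQ1) hQ ?_ (inv1 _ (q3 (-c1) (-c2)) (tA2 c1 c2) (iA2 c1 c2)) (qT c1 c2)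
    rw [he, hv1, hv, hswp _ _ hv']
    simp [swp]
  have hz : Ψ1 (p3 0 0 1) = S.D.z := by
    have e : p3 0 0 1 = p3 1 0 0 * q3 1 0 * p3 (-1) 0 0 * q3 (-1) 0 := by
      refine Subtype.ext (Subtype.ext ?_)
      show (cel 0 0 1 0 0 1).1.1 = _
      rw [show (cel 0 0 1 0 0 1).1.1 = e03.1.1 by decide +kernel, ← z_comm']
      rfl
    rw [e, map_mul, map_mul, map_mul, hp, hp, hq', hq', ← map_mul, ← map_mul, ← map_mul, ← S.Φ_z]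
    exact S.eq_of z_comm'
  have hpk : ∀ a1 a2 a3, Ψ1 (p3 a1 a2 a3) = S.Φ (cel a1 a2 a3 0 0 1) := by
    intro a1 a2 a3
    have key : ∀ a1 a2 a3 : ZMod 3, (cel a1 a2 a3 0 0 1).1.1 =
        (cel a1 a2 0 0 0 1).1.1 * ((cel 0 0 1 0 0 1).1.1 ^ a3.val) ∧
        (cel 0 0 1 0 0 1).1.1 = e03.1.1 := by decide +kernel
    obtain ⟨k1, k2⟩ := key a1 a2 a3
    have e : p3 a1 a2 a3 = p3 a1 a2 0 * p3 0 0 1 ^ a3.val := by
      refine Subtype.ext (Subtype.ext ?_)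
      rw [Subgroup.coe_mul, SubgroupClass.coe_pow, Matrix.SpecialLinearGroup.coe_mul,
        Matrix.SpecialLinearGroup.coe_pow]
      exact k1
    rw [e, map_mul, map_pow, hp, hz, ← S.Φ_z, ← map_pow, ← map_mul]
    refine S.eq_of ?_
    rw [Subgroup.coe_mul, SubgroupClass.coe_pow, Matrix.SpecialLinearGroup.coe_mul,
      Matrix.SpecialLinearGroup.coe_pow, k1, k2]
  -- the blocks
  have hW : ∀ W, ∃ h : Ψ1 (w3 W) ∈ S.D.Ct, (S.Φ (cel 0 0 0 0 0 W))⁻¹ * Ψ1 (w3 W) ∈ S.D.Zc := by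
    intro W
    obtain ⟨h0, h0φ⟩ := S'.cel_φ_of S.D hD W
    have he : Ψ1 (w3 W) = q * S'.Φ (cel 0 0 0 0 0 W) * q⁻¹ := by rw [hΨ1, dual3_w]
    have hC : Ψ1 (w3 W) ∈ S.D.Ct := he ▸ mul_mem (mul_mem (S.D.Q_le_Ct hqQ) h0) (inv_mem (S.D.Q_le_Ct hqQ))
    refine ⟨hC, ?_⟩
    set a := S.Φ (cel 0 0 0 0 0 W) with ha
    have haC : a ∈ S.D.Ct := S.cel_Ct _ _ _ _ _ _
    set r := a⁻¹ * Ψ1 (w3 W) with hr
    have hφ : S.D.φ ⟨Ψ1 (w3 W), hC⟩ = W := by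
      rw [show (⟨Ψ1 (w3 W), hC⟩ : S.D.Ct) = ⟨q, S.D.Q_le_Ct hqQ⟩ * ⟨_, h0⟩ * (⟨q, S.D.Q_le_Ct hqQ⟩ : S.D.Ct)⁻¹ from
        Subtype.ext he, map_mul, map_mul, map_inv, (S.D.φ_ker ⟨q, _⟩).2 hqQ, h0φ, one_mul, inv_one, mul_one]
    have hrQ : r ∈ S.D.Q := (S.D.φ_ker ⟨r, mul_mem (inv_mem haC) hC⟩).1 (by
      rw [show (⟨r, mul_mem (inv_mem haC) hC⟩ : S.D.Ct) = ⟨a, haC⟩⁻¹ * ⟨Ψ1 (w3 W), hC⟩ from rfl, map_mul, map_inv,
        hφ, show S.D.φ ⟨a, haC⟩ = W from S.cel_φ 0 0 0 0 0 W, inv_mul_cancel])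
    have hTr : T * r * T⁻¹ = r := by
      have c1 : Commute T a := by
        show T * a = a * T
        rw [hT, ha, ← map_mul, ← map_mul]; exact S.eq_of (tW W)
      have c2 : Commute T (Ψ1 (w3 W)) := by
        rw [← h1T]
        refine Commute.map ?_ Ψ1
        exact Subtype.ext (Subtype.ext (tW W))
      rw [mul_inv_eq_iff_eq_mul]
      exact (c1.inv_right.mul_right c2).eq
    have hv := S.F.cd_act ⟨T, hTC⟩ r hrQ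
    rw [hTr, show S.D.φ ⟨T, hTC⟩ = -1 from S.cel_φ 0 0 0 0 0 (-1)] at hv
    have key : ∀ v : V4, v = act (-1) v → v = 0 := by decide +kernel
    exact (S.F.cd_zero _ hrQ).1 (key _ hv)
  let χ : SL23 → G := fun W => (S.Φ (cel 0 0 0 0 0 W))⁻¹ * Ψ1 (w3 W)
  have χmul : ∀ V W, χ (V * W) = χ V * χ W := by
    intro V W
    obtain ⟨hV, hVz⟩ := hW V
    have e1 : cel 0 0 0 0 0 (V * W) = cel 0 0 0 0 0 V * cel 0 0 0 0 0 W := by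
      exact Par.ph_ext (w_mul V W)
    have e2 : w3 (V * W) = w3 V * w3 W := by
      refine Subtype.ext ?_
      rw [Subgroup.coe_mul, w3_val, w3_val, w3_val, e1, Subgroup.coe_mul]
    simp only [χ]
    rw [e1, e2, map_mul, map_mul, _root_.mul_inv_rev]
    have hc := S.D.comm_Zc (S.D.mem_Ct.1 (inv_mem (S.cel_Ct 0 0 0 0 0 W))) hVz
    calc (S.Φ (cel 0 0 0 0 0 W))⁻¹ * (S.Φ (cel 0 0 0 0 0 V))⁻¹ * (Ψ1 (w3 V) * Ψ1 (w3 W))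
        = (S.Φ (cel 0 0 0 0 0 W))⁻¹ * ((S.Φ (cel 0 0 0 0 0 V))⁻¹ * Ψ1 (w3 V)) * Ψ1 (w3 W) := by group
      _ = _ := by rw [hc]; group
  have χone : χ 1 = 1 := by
    have := χmul 1 1
    rw [mul_one] at this
    exact left_eq_mul.1 this
  have χU : χ mU = 1 := by
    obtain ⟨i, hi, he⟩ := S.D.mem_Zc.1 (hW mU).2
    have hΨ : Ψ1 (w3 mU) = S.Φ (cel 0 0 0 0 0 mU) * S.D.z ^ i := by rw [← he, mul_inv_cancel_left]
    obtain ⟨a2, c1, hc1, ha2, e⟩ := mU_move (i : ZMod 3)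
    have hconj : IsConj (Ψ1 (w3 mU)) (S.Φ (cel 0 a2 0 c1 0 1)) := by
      refine isConj_iff.2 ⟨S.Φ nel, ?_⟩
      rw [hΨ, show S.D.z ^ i = S.Φ (cel 0 0 (i : ZMod 3) 0 0 1) by
        rw [← S.Φ_z, ← map_pow]
        refine S.eq_of ?_
        rw [cel_z, ZMod.val_natCast, Nat.mod_eq_of_lt hi], mul_inv_eq_iff_eq_mul, ← map_mul, ← map_mul, ← map_mul]
      exact S.eq_of e
    have hz' : IsConj S.D.z (Ψ1 (w3 mU)) := by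
      have h1 : IsConj (S'.Φ (cel 0 0 0 0 0 mU)) (Ψ1 (w3 mU)) := isConj_iff.2 ⟨q, by rw [hΨ1, dual3_w]⟩
      obtain ⟨b2, d1, hd1, -, e'⟩ := mU_move 0
      have h2 : IsConj (S'.Φ (cel 0 0 0 0 0 mU)) (S'.Φ (cel 0 b2 0 d1 0 1)) := by
        refine isConj_iff.2 ⟨S'.Φ nel, ?_⟩
        rw [mul_inv_eq_iff_eq_mul, ← map_mul, ← map_mul]
        refine S'.eq_of ?_
        rw [← e', show cel 0 0 0 0 0 1 = 1 from Par.ph_ext (by decide +kernel), mul_one]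
      have hb : b2 = 0 := by
        have key : ∀ b2 d1 : ZMod 3, (nel * (cel 0 0 0 0 0 mU * cel 0 0 0 0 0 1)).1.1 =
            (cel 0 b2 0 d1 0 1 * nel).1.1 → b2 = 0 := by decide +kernel
        exact key _ _ e'
      subst hb
      obtain ⟨hQ', hv'⟩ := S'.cel_Q_of S.D hD 0 0 0 d1 0
      rw [hcd] at hv'
      have hv := hswp _ _ hv'
      have hpl : S'.Φ (cel 0 0 0 d1 0 1) ∈ S.F.plane := ⟨hQ', by rw [hv]; simp [swp]⟩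
      exact ((S.conj_of_plane hpl (fun h => hd1 (by
        rw [h, S.F.cd_one] at hv
        simp [swp] at hv
        exact (congrArg Prod.fst hv).symm))).trans h2.symm).trans h1
    by_contra hne
    have hi0 : (i : ZMod 3) ≠ 0 := by
      intro h
      refine hne (Eq.trans he ?_)
      rw [ZMod.natCast_eq_zero_iff] at h
      rw [show i = 0 by omega, pow_zero]
    obtain ⟨hQ, hv⟩ := S.cel_Q 0 a2 0 c1 0
    have hnz : S.Φ (cel 0 a2 0 c1 0 1) ∉ S.D.Zc := fun h => hc1 (by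
      rw [(S.F.cd_zero _ hQ).2 h] at hv
      exact (congrArg (fun v : V4 => v.2.2.1) hv).symm)
    rcases S.conj_in_Q hQ hnz (hz'.trans hconj) with h | ⟨h, -⟩ <;> rw [hv] at h
    · exact hc1 (congrArg Prod.fst h)
    · exact ha2 hi0 h
  have χI : χ mI = 1 := by
    have h4 : χ mI * χ mI * (χ mI * χ mI) = 1 := by rw [← χmul, ← χmul, mI_four, χone]
    have h3 : χ mI ^ 3 = 1 := S.D.Q_exp _ (S.D.Zc_le_Q (hW mI).2)
    calc χ mI = χ mI ^ 3 * χ mI := by rw [h3, one_mul]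
      _ = χ mI * χ mI * (χ mI * χ mI) := by rw [pow_three']; group
      _ = 1 := h4
  have hw : ∀ W, Ψ1 (w3 W) = S.Φ (cel 0 0 0 0 0 W) := by
    intro W
    have h : χ W = 1 := by
      induction W using sl_induction with
      | h1 => exact χone
      | hI g ih => rw [χmul, χI, ih, one_mul]
      | hU g ih => rw [χmul, χU, ih, one_mul]
    exact (inv_mul_eq_one.1 h).symm
  -- the inverting elements
  set r0 := (Ψ1 n3)⁻¹ * S.Φ s0 with hr0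
  have hr0A : ∀ a1 a2 a3, r0 * S.Φ (cel a1 a2 a3 0 0 1) = S.Φ (cel a1 a2 a3 0 0 1) * r0 := by
    intro a1 a2 a3
    have e1 : S.Φ s0 * S.Φ (cel a1 a2 a3 0 0 1) = S.Φ (cel a1 (-a2) (-a3) 0 0 1) * S.Φ s0 := by
      rw [← map_mul, ← map_mul]; exact S.eq_of (s0_flip.1 a1 a2 a3).1
    have e2 : Ψ1 n3 * Ψ1 (p3 a1 a2 a3) = Ψ1 (p3 a1 (-a2) (-a3)) * Ψ1 n3 := by
      rw [← map_mul, ← map_mul]
      exact congrArg Ψ1 (Subtype.ext (Subtype.ext (s0_flip.1 a1 a2 a3).2))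
    rw [hpk, hpk] at e2
    rw [hr0, mul_assoc, e1, ← mul_assoc, ← mul_assoc]
    congr 1
    rw [inv_mul_eq_iff_eq_mul, ← mul_assoc, e2, mul_inv_cancel_right]
  have hr0B : ∀ c1 c2, r0 * S.Φ (cel 0 0 0 c1 c2 1) = S.Φ (cel 0 0 0 c1 c2 1) * r0 := by
    intro c1 c2
    have e1 : S.Φ s0 * S.Φ (cel 0 0 0 c1 c2 1) = S.Φ (cel 0 0 0 (-c1) c2 1) * S.Φ s0 := by
      rw [← map_mul, ← map_mul]; exact S.eq_of (s0_flip.2 c1 c2).1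
    have e2 : Ψ1 n3 * Ψ1 (q3 c1 c2) = Ψ1 (q3 (-c1) c2) * Ψ1 n3 := by
      rw [← map_mul, ← map_mul]
      exact congrArg Ψ1 (Subtype.ext (Subtype.ext (s0_flip.2 c1 c2).2))
    rw [hq', hq'] at e2
    rw [hr0, mul_assoc, e1, ← mul_assoc, ← mul_assoc]
    congr 1
    rw [inv_mul_eq_iff_eq_mul, ← mul_assoc, e2, mul_inv_cancel_right]
  have hr0c : r0 ∈ centralizer (S.D.Q : Set G) := by
    refine mem_centralizer_iff.2 fun x hx => ?_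
    obtain ⟨a1, a2, a3, c1, c2, rfl, -⟩ := S.exists_of_Q hx
    obtain ⟨k, hk⟩ := Q_split a1 a2 a3 c1 c2
    rw [show S.Φ (cel a1 a2 a3 c1 c2 1) =
      S.Φ (cel a1 a2 0 0 0 1) * S.Φ (cel 0 0 0 c1 c2 1) * S.Φ (cel 0 0 k 0 0 1) by
        rw [← map_mul, ← map_mul]; exact S.eq_of hk]
    exact (((show Commute r0 _ from hr0A a1 a2 0).mul_right (hr0B c1 c2)).mul_right (hr0A 0 0 k)).eq.symm
  have hr0z : r0 ∈ S.D.Zc :=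
    S.D.Q_centre r0 (S.D.Q_self hr0c) fun x hx => (mem_centralizer_iff.1 hr0c x hx).symm
  obtain ⟨i, -, hi⟩ := S.D.mem_Zc.1 hr0z
  have hns : Ψ1 n3 * S.D.z = S.D.z⁻¹ * Ψ1 n3 := by
    have e : n3 * p3 0 0 1 = (p3 0 0 1)⁻¹ * n3 := by
      rw [eq_inv_mul_iff_mul_eq]
      exact Subtype.ext (Subtype.ext (by decide +kernel))
    rw [← hz, ← map_inv, ← map_mul, ← map_mul, e]
  let Ψ : Ph3 →* G := (MulAut.conj (S.D.z ^ i)).toMonoidHom.comp Ψ1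
  have hfix : ∀ g, Ψ1 g ∈ S.D.Ct → Ψ g = Ψ1 g := fun g hg => by
    show S.D.z ^ i * Ψ1 g * (S.D.z ^ i)⁻¹ = Ψ1 g
    rw [mul_inv_eq_iff_eq_mul]
    exact ((S.D.comm_Zc (S.D.mem_Ct.1 hg) (pow_mem (mem_zpowers _) i))).symm
  refine ⟨{ S := S, Ψ := Ψ, agree_p := ?_, agree_q := ?_, agree_w := ?_, agree_n := ?_, inter2 := ?_ }, rfl⟩
  · intro a1 a2 a3
    rw [hfix _ (by rw [hpk]; exact S.D.Q_le_Ct (S.cel_Q _ _ _ _ _).1), hpk]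
  · intro c1 c2
    rw [hfix _ (by rw [hq']; exact S.D.Q_le_Ct (S.cel_Q _ _ _ _ _).1), hq']
  · intro W
    rw [hfix _ (by rw [hw]; exact S.cel_Ct _ _ _ _ _ _), hw]
  · have hs : S.Φ s0 = Ψ1 n3 * S.D.z ^ i := by rw [← hi, hr0, mul_inv_cancel_left]
    show S.D.z ^ i * Ψ1 n3 * (S.D.z ^ i)⁻¹ = S.Φ s0
    have hn : ∀ j : ℕ, Ψ1 n3 * (S.D.z ^ j) = (S.D.z ^ j)⁻¹ * Ψ1 n3 := fun j => by
      have h : SemiconjBy (Ψ1 n3) S.D.z S.D.z⁻¹ := hns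
      have h' := (h.pow_right j).eq
      rwa [inv_pow] at h'
    have h1 : S.D.z ^ i * Ψ1 n3 = Ψ1 n3 * (S.D.z ^ i)⁻¹ := by
      rw [eq_mul_inv_iff_mul_eq, mul_assoc, hn, mul_inv_cancel_left]
    rw [hs, h1, mul_assoc]
    congr 1
    rw [← _root_.mul_inv_rev, inv_eq_iff_mul_eq_one, ← pow_add, ← pow_add]
    rw [pow_eq_pow_mod _ S.D.z_cube, show (i + i + i) % 3 = 0 by omega, pow_zero]
  · intro g h1 h2 h3 q' hq1 hq2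
    have hv : (S'.F.cd (g * S.D.z * g⁻¹)).2.2 = (0, 0) := by
      rw [hcd]
      show ((S.F.cd _).1, (S.F.cd _).2.1) = _
      rw [h3.1, h3.2]
    have h := S'.inter_of S.D hD h1 hv h2 q' hq1 hq2
    rw [hcd] at h
    exact Prod.mk.inj h

end Std

end CfsgLib.L43Rec
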