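import Cfsg.Agent.Lib.L43Rec.TwoCent

/-!
All elements of order three in the subgroup fix a single coset.
-/

set_option autoImplicit false

namespace CfsgLib.L43Rec

open Subgroup Matrix CfsgLib.GoodPairs

universe u

namespace Two

variable {G : Type u} [Group G] (T : Two G) [Finite G]

theorem good_t2 (t a3 : ZMod 3) : GoodIn T.M (T.S.Φ (cel 0 t a3 1 0 1)) := by
  have h : GoodIn T.M (T.S.Φ (cel 0 t 0 1 0 1)) := by
    have key : ∀ x : ZMod 3, x = 0 ∨ x = 1 ∨ x = -1 := by decide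
    rcases key t with rfl | rfl | rfl
    · have ez : T.μ mel4 * T.D.z * (T.μ mel4)⁻¹ = T.S.Φ (cel 0 0 0 1 0 1) := by
        rw [show T.D.z = T.S.Φ (cel 0 0 1 0 0 1) by
          rw [← T.S.Φ_z]; exact T.S.eq_of (chain_facts.2.2.2.2.2.2.2.2.2).symm]
        exact T.μ_conj _ _ _ mel4_z
      rw [← ez]
      exact T.good_z.conj ⟨_, rfl⟩
    · exact T.good_bel ⟨1, 1, Or.inl rfl, Or.inr rfl⟩ rfl
    · have := (T.good_bel ⟨1, -1, Or.inr rfl, Or.inr rfl⟩ rfl).inv
      rwa [show (T.S.Φ (Par.bel ⟨1, -1, Or.inr rfl, Or.inr rfl⟩))⁻¹ = T.S.Φ (cel 0 (-1) 0 1 0 1) from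
        inv_eq_of_mul_eq_one_left (by
          rw [← map_mul, ← map_one T.S.Φ]
          exact T.S.eq_of neg_pure)] at this
  have := h.conj (m := T.S.Φ (cel a3 0 0 0 0 1)) (T.Φ_mem _)
  rwa [← map_mul, T.S.eq_of (shift_conj t a3), map_mul, mul_inv_cancel_right] at this

theorem good_core {q : G} (hq : q ∈ T.D.Q) (hq1 : q ≠ 1) : GoodIn T.M q := by
  have hqM : q ∈ T.M := T.core_le_M hq
  by_cases hd : dt (T.S.F.cd q) = 0
  · by_cases hp : (T.S.F.cd q).2.2 = (0, 0)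
    · exact T.good_conj_z hqM (T.S.conj_of_plane ⟨hq, hp⟩ hq1)
    · obtain ⟨W, t, hW⟩ := pure_orbit _ hd hp
      set m := T.S.Φ (cel 0 0 0 0 0 W) with hm
      have hmC : m ∈ T.D.Ct := T.S.cel_Ct _ _ _ _ _ _
      have hx : m * q * m⁻¹ ∈ T.D.Q := T.D.conj_Q hmC hq
      obtain ⟨a1, a2, a3, c1, c2, e, hv⟩ := T.S.exists_of_Q hx
      rw [T.S.F.cd_act ⟨m, hmC⟩ _ hq, T.S.cel_φ, hW] at hv
      simp only [Prod.mk.injEq] at hv
      obtain ⟨rfl, h1, rfl, rfl⟩ := hv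
      obtain rfl : a1 = 0 := by linear_combination h1
      have := (T.good_t2 t a3).conj (m := m⁻¹) (inv_mem (T.Φ_mem _))
      rwa [e, inv_inv, show m⁻¹ * (m * q * m⁻¹) * m = q by group] at this
  · exact T.good_nonpure ⟨hq, hd⟩

/-- Every element of order three of the subgroup. -/
theorem good3 {e : G} (he : e ∈ T.M) (h3 : e ^ 3 = 1) (h1 : e ≠ 1) : GoodIn T.M e := by
  obtain ⟨m, hm, hmQ⟩ := T.into_Q he h3
  have := (T.good_core hmQ fun h => h1 (conj_eq_one_iff.1 h)).conj (inv_mem hm)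
  rwa [inv_inv, show m⁻¹ * (m * e * m⁻¹) * m = e by group] at this

/-- A subgroup of three-power order meeting an element of order three of the subgroup. -/
theorem three_le_M {X : Subgroup G} (hX : IsPGroup 3 X) {r : G} (hrX : r ∈ X) (hr : r ∈ T.M) (hr3 : r ^ 3 = 1)
    (hr1 : r ≠ 1) : X ≤ T.M := by
  haveI : Fact (Nat.Prime 3) := ⟨Nat.prime_three⟩
  haveI : Nontrivial X := ⟨⟨⟨r, hrX⟩, 1, fun h => hr1 (congrArg Subtype.val h)⟩⟩
  haveI := hX.center_nontrivial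
  obtain ⟨n, hn0, hn⟩ := (hX.to_subgroup (center X)).nontrivial_iff_card.1 inferInstance
  have hdvd : 3 ∣ Nat.card (center X) := by rw [hn]; exact dvd_pow_self 3 hn0.ne'
  obtain ⟨c, hc⟩ := exists_prime_orderOf_dvd_card' 3 hdvd
  have hc3 : ((c : X) : G) ^ 3 = 1 := by
    have := congrArg (fun c : center X => ((c : X) : G)) (hc ▸ pow_orderOf_eq_one c)
    simpa using this
  have hc1 : ((c : X) : G) ≠ 1 := by
    intro h
    have : c = 1 := Subtype.ext (Subtype.ext h)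
    rw [this, orderOf_one] at hc
    omega
  have hcx : ∀ x ∈ X, x * ((c : X) : G) = ((c : X) : G) * x := fun x hx =>
    congrArg Subtype.val (mem_center_iff.1 c.2 ⟨x, hx⟩)
  have hcM : ((c : X) : G) ∈ T.M := (T.good3 hr hr3 hr1).cent (hcx r hrX).symm
  exact fun x hx => (T.good3 hcM hc3 hc1).cent (hcx x hx)

end Two

end CfsgLib.L43Rec
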