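import Cfsg.Agent.Lib.L43Rec.TwoGood
import Cfsg.Agent.Lib.L43Rec.OneCent

/-!
When both planes occur: the centralizers of the elements in the plane pair.
-/

set_option autoImplicit false

namespace CfsgLib.L43Rec

open Subgroup Matrix CfsgLib.GoodPairs CfsgLib.PositiveBound

universe u

theorem block_conj : ∀ A : Matrix (Fin 2) (Fin 2) (ZMod 3), A * A * A = 1 →
    ∃ W : SL23, ∃ l : ZMod 3, W.1 * A = !![1, l; 0, 1] * W.1 := by decide +kernel

theorem witness_pair : ∀ θ i : ZMod 3, (θ = 1 ∨ θ = -1) → ∃ a b c d a' b' c' d' : ZMod 3,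
    om (a, b, c, d) (1 + i, -θ, θ * i, 1) = 0 ∧ om (a', b', c', d') (1 + i, -θ, θ * i, 1) = 0 ∧
    om (a, b, c, d) (a', b', c', d') = 1 := by decide +kernel

/-- A block diagonal element commuting with the element of the plane pair. -/
def dblk (W : SL23) (θ : ZMod 3) (hθ : θ * θ = 1) : SL43 :=
  ⟨!![W.1 0 0, W.1 0 1, 0, 0; W.1 1 0, W.1 1 1, 0, 0; 0, 0, W.1 0 0, θ * W.1 0 1; 0, 0, θ * W.1 1 0, W.1 1 1], by
    have h := W.2
    rw [Matrix.det_fin_two] at h
    rw [Matrix.det_succ_row_zero]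
    simp [Fin.sum_univ_succ, Matrix.det_fin_three, Fin.succAbove]
    linear_combination (W.1 0 0 * W.1 1 1 - W.1 0 1 * W.1 1 0 + 1) * h -
      (W.1 0 1 * W.1 1 0 * (W.1 0 0 * W.1 1 1 - W.1 0 1 * W.1 1 0)) * hθ⟩

namespace Par

variable (p : Par)

theorem bel_top (k : ℕ) : (p.bel ^ k).1.1 0 0 = 1 ∧ (p.bel ^ k).1.1 0 1 = 0 ∧ (p.bel ^ k).1.1 1 0 = 0 ∧
    (p.bel ^ k).1.1 1 1 = 1 := by
  rw [p.bel_pow, p.U_val]
  simp [tb]

theorem comm_block (hη : p.η = 1) {g : SL43} (h : g * p.bel.1 = p.bel.1 * g) :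
    g.1 2 0 = 0 ∧ g.1 3 0 = 0 ∧ g.1 2 1 = 0 ∧ g.1 3 1 = 0 ∧ g.1 2 2 = g.1 0 0 ∧ g.1 3 2 = p.θ * g.1 1 0 ∧
      g.1 2 3 = p.θ * g.1 0 1 ∧ g.1 3 3 = g.1 1 1 ∧
      (g.1 0 0 * g.1 1 1 - g.1 0 1 * g.1 1 0) * (g.1 0 0 * g.1 1 1 - g.1 0 1 * g.1 1 0) = 1 := by
  have h' : g.1 * p.bel.1.1 = p.bel.1.1 * g.1 := congrArg Subtype.val h
  rw [bel_val, hη] at h'
  have e00 := congrFun (congrFun h' 0) 0
  have e10 := congrFun (congrFun h' 1) 0
  have e01 := congrFun (congrFun h' 0) 1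
  have e11 := congrFun (congrFun h' 1) 1
  have e02 := congrFun (congrFun h' 0) 2
  have e12 := congrFun (congrFun h' 1) 2
  have e03 := congrFun (congrFun h' 0) 3
  have e13 := congrFun (congrFun h' 1) 3
  simp [Matrix.mul_apply, Fin.sum_univ_four, p.θ_ne] at e00 e10 e01 e11 e02 e12 e03 e13
  have s := p.θ_sq
  have k20 : g.1 2 0 = 0 := by first | exact e00 | exact e00.symm
  have k30 : g.1 3 0 = 0 := by first | exact e10 | exact e10.symm
  have k21 : g.1 2 1 = 0 := by first | exact e01 | exact e01.symm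
  have k31 : g.1 3 1 = 0 := by first | exact e11 | exact e11.symm
  have k22 : g.1 2 2 = g.1 0 0 := by linear_combination -e02
  have k32 : g.1 3 2 = p.θ * g.1 1 0 := by linear_combination (-p.θ) * e12 - g.1 3 2 * s
  have k23 : g.1 2 3 = p.θ * g.1 0 1 := by linear_combination -e03
  have k33 : g.1 3 3 = g.1 1 1 := by
    apply mul_left_cancel₀ p.θ_ne
    linear_combination -e13
  refine ⟨k20, k30, k21, k31, k22, k32, k23, k33, ?_⟩
  have hd := g.2
  rw [Matrix.det_succ_row_zero] at hd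
  simp [Fin.sum_univ_succ, Matrix.det_fin_three, Fin.succAbove, k20, k30, k21, k31, k22, k32, k23, k33] at hd
  linear_combination hd + (g.1 0 1 * g.1 1 0 * (g.1 0 0 * g.1 1 1 - g.1 0 1 * g.1 1 0)) * s

end Par

namespace Two

variable {G : Type u} [Group G] (T : Two G) (p : Par)

/-- The image of the subgroup in the quotient. -/
noncomputable def MK : Subgroup (T.S.Kq p) := (T.M.subgroupOf (T.S.H0 p)).map (T.S.πq p)

theorem mem_MK {h : T.S.H0 p} : T.S.πq p h ∈ T.MK p ↔ (h : G) ∈ T.M := by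
  constructor
  · rintro ⟨h', hh', e⟩
    have hn := QuotientGroup.eq.1 e
    obtain ⟨k, hk⟩ := mem_zpowers_iff.1 hn
    have h1 : (h : G) = (h' : G) * (T.S.Φ p.bel) ^ k := by
      have := congrArg (fun g : T.S.H0 p => (g : G)) hk
      simp only [SubgroupClass.coe_zpow, Subgroup.coe_mul, InvMemClass.coe_inv] at this
      rw [this, mul_inv_cancel_left]
    rw [h1]
    exact mul_mem hh' (zpow_mem (T.Φ_mem p.bel) k)
  · exact fun hh => ⟨h, hh, rfl⟩

theorem rho_MK (t : T5) : T.S.rho p t ∈ T.MK p :=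
  (T.mem_MK p (h := ⟨_, T.S.U_mem p t⟩)).2 (T.Φ_mem _)

theorem good_lift {t : T5} (h : GoodIn T.M (T.S.Φ (p.U t))) : GoodIn (T.MK p) (T.S.rho p t) := by
  refine ⟨T.rho_MK p t, fun g hg => ?_⟩
  obtain ⟨g, rfl⟩ := QuotientGroup.mk'_surjective (T.S.N0 p) g
  rw [Std.rho, ← map_inv, ← map_mul, ← map_mul, T.mem_MK] at hg
  exact (T.mem_MK p).2 (h.2 g (by simpa using hg))

theorem bel_three : p.bel.1 ^ 3 = 1 := congrArg Subtype.val (Std.bel_cube p)

/-- Elements of the subgroup centralizing the element come from commuting matrices. -/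
theorem exists_comm {h : T.S.H0 p} (hh : (h : G) ∈ T.M) :
    ∃ g : SL43, T.μ g = (h : G) ∧ g * p.bel.1 = p.bel.1 * g := by
  obtain ⟨g, hg⟩ := hh
  refine ⟨g, hg, ?_⟩
  have e : T.μ (g * p.bel.1 * g⁻¹ * p.bel.1⁻¹) = 1 := by
    rw [map_mul, map_mul, map_mul, map_inv, map_inv, T.μ_Φ, hg,
      mem_centralizer_singleton_iff.1 h.2]
    group
  rcases T.μ_eq_one.1 e with e | e
  · calc g * p.bel.1 = (g * p.bel.1 * g⁻¹ * p.bel.1⁻¹) * (p.bel.1 * g) := by group
      _ = p.bel.1 * g := by rw [e, one_mul]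
  · exfalso
    rw [mul_inv_eq_iff_eq_mul] at e
    have h3 : (g * p.bel.1 * g⁻¹) ^ 3 = 1 := by rw [conj_pow, bel_three]; group
    have hc : Commute ng4 p.bel.1 := by
      refine Subtype.ext ?_
      show (-1 : Matrix (Fin 4) (Fin 4) (ZMod 3)) * p.bel.1.1 = p.bel.1.1 * -1
      simp
    rw [e, hc.mul_pow, bel_three, mul_one] at h3
    exact absurd (congrArg Subtype.val h3) (by decide +kernel)

theorem B_normal (hη : p.η = 1) {m : T.S.Kq p} (hm : m ∈ T.MK p) {y : T.S.Kq p} (hy : y ∈ (T.S.Bhom p).range) :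
    m * y * m⁻¹ ∈ (T.S.Bhom p).range := by
  obtain ⟨h, hh, rfl⟩ := hm
  obtain ⟨g, hg, hgc⟩ := T.exists_comm p (mem_subgroupOf.1 hh)
  obtain ⟨a, rfl⟩ := hy
  obtain ⟨k20, k30, k21, k31, k22, k32, k23, k33, hΔ⟩ := p.comm_block hη hgc
  set A00 := g.1 0 0
  set A01 := g.1 0 1
  set A10 := g.1 1 0
  set A11 := g.1 1 1
  set Δ := A00 * A11 - A01 * A10 with hΔd
  set q := a.toAdd.1
  set r := a.toAdd.2.1
  set s := a.toAdd.2.2
  set Y00 := A00 * r + A01 * q with hY00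
  set Y01 := A00 * s with hY01
  set Y10 := A10 * r + A11 * q with hY10
  set Y11 := A10 * s with hY11
  set t : T5 := (0, Δ * (Y10 * A11 - Y11 * (p.θ * A10)), Δ * (Y11 * A00 - Y10 * (p.θ * A01)),
    Δ * (Y00 * A11 - Y01 * (p.θ * A10)), Δ * (Y01 * A00 - Y00 * (p.θ * A01))) with ht
  have hmat : g.1 * (p.U (0, q, 0, r, s)).1.1 = (p.U t).1.1 * g.1 := by
    rw [p.U_val, p.U_val]
    have sθ := p.θ_sq
    ext i j
    fin_cases i <;> fin_cases j <;>
      simp [ht, hY00, hY01, hY10, hY11, Matrix.mul_apply, Fin.sum_univ_four, k20, k30, k21, k31, k22, k32, k23, k33,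
        show g.1 0 0 = A00 from rfl, show g.1 0 1 = A01 from rfl, show g.1 1 0 = A10 from rfl,
        show g.1 1 1 = A11 from rfl]
    · linear_combination (-(A00 * r + A01 * q)) * hΔ + (Δ * (A00 * r + A01 * q) * A01 * A10) * sθ
    · linear_combination (-(A00 * s)) * hΔ + (Δ * (A00 * s) * A01 * A10) * sθ
    · linear_combination (-(A10 * r + A11 * q)) * hΔ + (Δ * (A10 * r + A11 * q) * A01 * A10) * sθ
    · linear_combination (-(A10 * s)) * hΔ + (Δ * (A10 * s) * A01 * A10) * sθ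
  refine ⟨Multiplicative.ofAdd ((p.red t).2.1, (p.red t).2.2.2.1, (p.red t).2.2.2.2), ?_⟩
  show T.S.rho p (0, (p.red t).2.1, 0, (p.red t).2.2.2.1, (p.red t).2.2.2.2) = _
  rw [show ((0, (p.red t).2.1, 0, (p.red t).2.2.2.1, (p.red t).2.2.2.2) : T5) = p.red t from rfl, T.S.rho_red,
    eq_mul_inv_iff_mul_eq]
  show T.S.rho p t * T.S.πq p h = T.S.πq p h * T.S.rho p (0, q, 0, r, s)
  rw [Std.rho, Std.rho, ← map_mul, ← map_mul]
  refine congrArg (T.S.πq p) (Subtype.ext ?_)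
  show T.S.Φ (p.U t) * (h : G) = (h : G) * T.S.Φ (p.U (0, q, 0, r, s))
  rw [← hg, ← T.μ_Φ, ← T.μ_Φ, ← map_mul, ← map_mul]
  exact congrArg T.μ (Subtype.ext (by
    rw [Matrix.SpecialLinearGroup.coe_mul, Matrix.SpecialLinearGroup.coe_mul]; exact hmat.symm))

/-- Elements of order three are conjugate into the unipotent image. -/
theorem into_T (hη : p.η = 1) {y : T.S.Kq p} (hy : y ∈ T.MK p) (h3 : y ^ 3 = 1) :
    ∃ m ∈ T.MK p, ∃ t : T5, m * y * m⁻¹ = T.S.rho p t := by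
  obtain ⟨h, hh, rfl⟩ := hy
  rw [← map_pow] at h3
  obtain ⟨k, hk⟩ := mem_zpowers_iff.1 ((QuotientGroup.eq_one_iff _).1 h3)
  obtain ⟨g0, hg0, hgc0⟩ := T.exists_comm p (mem_subgroupOf.1 hh)
  obtain ⟨g, hg, hgc, hA⟩ : ∃ g : SL43, T.μ g = (h : G) ∧ g * p.bel.1 = p.bel.1 * g ∧
      ∃ n : ℕ, g ^ 3 = p.bel.1 ^ n := by
    obtain ⟨n, hn⟩ : ∃ n : ℕ, T.μ (g0 ^ 3) = T.μ (p.bel.1 ^ n) := by
      refine ⟨(k % 3).toNat, ?_⟩
      have hk' := congrArg (fun g : T.S.H0 p => (g : G)) hk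
      simp only [SubgroupClass.coe_zpow, SubgroupClass.coe_pow] at hk'
      rw [map_pow, hg0, ← hk', map_pow, T.μ_Φ, ← zpow_natCast (T.S.Φ p.bel),
        Int.toNat_of_nonneg (Int.emod_nonneg _ (by norm_num))]
      conv_lhs => rw [← Int.emod_add_mul_ediv k 3, _root_.zpow_add, _root_.zpow_mul,
        show T.S.Φ p.bel ^ (3 : ℤ) = 1 by
          rw [show (3 : ℤ) = ((3 : ℕ) : ℤ) from rfl, zpow_natCast, ← map_pow, Std.bel_cube, map_one],
        _root_.one_zpow, mul_one]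
    have hng : ∀ x : SL43, Commute ng4 x := fun x => by
      refine Subtype.ext ?_
      show (-1 : Matrix (Fin 4) (Fin 4) (ZMod 3)) * x.1 = x.1 * -1
      simp
    rcases T.μ_eq_one.1 (show T.μ ((p.bel.1 ^ n)⁻¹ * g0 ^ 3) = 1 by rw [map_mul, map_inv, hn, inv_mul_cancel]) with e | e
    · refine ⟨g0, hg0, hgc0, n, ?_⟩
      calc g0 ^ 3 = p.bel.1 ^ n * ((p.bel.1 ^ n)⁻¹ * g0 ^ 3) := by rw [mul_inv_cancel_left]
        _ = p.bel.1 ^ n := by rw [e, mul_one]
    · refine ⟨ng4 * g0, by rw [map_mul, T.μ_neg, one_mul, hg0], ?_, n, ?_⟩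
      · rw [mul_assoc, hgc0, ← mul_assoc, (hng _).eq, mul_assoc]
      · rw [(hng g0).mul_pow, show g0 ^ 3 = p.bel.1 ^ n * ng4 by rw [← e, mul_inv_cancel_left],
          ← mul_assoc, (hng _).pow_left 3 |>.eq, mul_assoc]
        rw [show ng4 ^ 3 * ng4 = 1 from Subtype.ext (by decide +kernel), mul_one]
  obtain ⟨n, hn⟩ := hA
  obtain ⟨k20, k30, k21, k31, -⟩ := p.comm_block hη hgc
  have hcube : (!![g.1 0 0, g.1 0 1; g.1 1 0, g.1 1 1] : Matrix (Fin 2) (Fin 2) (ZMod 3)) *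
      !![g.1 0 0, g.1 0 1; g.1 1 0, g.1 1 1] * !![g.1 0 0, g.1 0 1; g.1 1 0, g.1 1 1] = 1 := by
    have h' : g.1 * g.1 * g.1 = (p.bel ^ n).1.1 := by
      have := congrArg Subtype.val hn
      rw [pow_three', Matrix.SpecialLinearGroup.coe_mul, Matrix.SpecialLinearGroup.coe_mul] at this
      rw [this]; rfl
    obtain ⟨b00, b01, b10, b11⟩ := p.bel_top n
    have e00 := congrFun (congrFun h' 0) 0
    have e01 := congrFun (congrFun h' 0) 1
    have e10 := congrFun (congrFun h' 1) 0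
    have e11 := congrFun (congrFun h' 1) 1
    rw [b00] at e00; rw [b01] at e01; rw [b10] at e10; rw [b11] at e11
    simp [Matrix.mul_apply, Fin.sum_univ_four, k20, k30, k21, k31] at e00 e01 e10 e11
    ext i j
    fin_cases i <;> fin_cases j <;> simp [Matrix.mul_apply, Fin.sum_univ_two]
    · linear_combination e00
    · linear_combination e01
    · linear_combination e10
    · linear_combination e11
  obtain ⟨W, l, hW⟩ := block_conj _ hcube
  set m := dblk W p.θ p.θ_sq with hm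
  have hmc : m * p.bel.1 = p.bel.1 * m := by
    refine Subtype.ext ?_
    rw [Matrix.SpecialLinearGroup.coe_mul, Matrix.SpecialLinearGroup.coe_mul, p.bel_val, hη]
    have s := p.θ_sq
    ext i j
    fin_cases i <;> fin_cases j <;> simp [hm, dblk, Matrix.mul_apply, Fin.sum_univ_four] <;>
      first | ring1 | linear_combination (W.1 1 0) * s | linear_combination (-W.1 1 0) * s |
        linear_combination (W.1 0 1) * s | linear_combination (-W.1 0 1) * s
  set g' := m * g * m⁻¹ with hg'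
  have hg'c : g' * p.bel.1 = p.bel.1 * g' :=
    ((show Commute m p.bel.1 from hmc).mul_left hgc |>.mul_left (show Commute m p.bel.1 from hmc).inv_left).eq
  obtain ⟨j20, j30, j21, j31, j22, j32, j23, j33, -⟩ := p.comm_block hη hg'c
  have hmg : g'.1 * m.1 = m.1 * g.1 := by
    rw [← Matrix.SpecialLinearGroup.coe_mul, ← Matrix.SpecialLinearGroup.coe_mul, hg', inv_mul_cancel_right]
  have htop : g'.1 0 0 = 1 ∧ g'.1 0 1 = l ∧ g'.1 1 0 = 0 ∧ g'.1 1 1 = 1 := by
    have hdet := W.2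
    rw [Matrix.det_fin_two] at hdet
    have w00 := congrFun (congrFun hW 0) 0
    have w01 := congrFun (congrFun hW 0) 1
    have w10 := congrFun (congrFun hW 1) 0
    have w11 := congrFun (congrFun hW 1) 1
    simp [Matrix.mul_apply, Fin.sum_univ_two] at w00 w01 w10 w11
    have f00 := congrFun (congrFun hmg 0) 0
    have f01 := congrFun (congrFun hmg 0) 1
    have f10 := congrFun (congrFun hmg 1) 0
    have f11 := congrFun (congrFun hmg 1) 1
    simp [hm, dblk, Matrix.mul_apply, Fin.sum_univ_four] at f00 f01 f10 f11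
    refine ⟨?_, ?_, ?_, ?_⟩
    · linear_combination W.1 1 1 * (f00 + w00) - W.1 1 0 * (f01 + w01) - (g'.1 0 0 - 1) * hdet
    · linear_combination W.1 0 0 * (f01 + w01) - W.1 0 1 * (f00 + w00) - (g'.1 0 1 - l) * hdet
    · linear_combination W.1 1 1 * (f10 + w10) - W.1 1 0 * (f11 + w11) - g'.1 1 0 * hdet
    · linear_combination W.1 0 0 * (f11 + w11) - W.1 0 1 * (f10 + w10) - (g'.1 1 1 - 1) * hdet
  obtain ⟨t00, t01, t10, t11⟩ := htop
  set t : T5 := (p.θ * l, g'.1 1 2, g'.1 1 3, g'.1 0 2, g'.1 0 3) with ht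
  have hU : g' = (p.U t).1 := by
    refine Subtype.ext ?_
    rw [p.U_val, hη, ht]
    have s := p.θ_sq
    ext i j
    fin_cases i <;> fin_cases j <;> simp [t00, t01, t10, t11, j20, j30, j21, j31, j22, j32, j23, j33]
    linear_combination (-l) * s
  have hmH : T.μ m ∈ T.S.H0 p := by
    rw [mem_centralizer_singleton_iff, ← T.μ_Φ, ← map_mul, ← map_mul, hmc]
  refine ⟨T.S.πq p ⟨_, hmH⟩, (T.mem_MK p).2 ⟨m, rfl⟩, t, ?_⟩
  rw [← map_inv, ← map_mul, ← map_mul, Std.rho]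
  refine congrArg (T.S.πq p) (Subtype.ext ?_)
  show T.μ m * (h : G) * (T.μ m)⁻¹ = T.S.Φ (p.U t)
  rw [← hg, ← map_inv, ← map_mul, ← map_mul, ← T.μ_Φ, ← hU]

variable [Finite G]

theorem good_plane {r s : ZMod 3} (h : ¬(r = 0 ∧ s = 0)) : GoodIn (T.MK p) (T.S.rho p (0, 0, 0, r, s)) := by
  obtain ⟨h1, h2⟩ := T.S.cel_Q 0 r s 0 0
  refine T.good_lift p (T.good_conj_z (T.Φ_mem _) (T.S.conj_of_plane ?_ ?_))
  · rw [Std.U_plane]; exact ⟨h1, by rw [h2]⟩
  · intro e
    rw [← map_one T.S.Φ, ← p.U_zero] at e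
    have := p.U_inj (T.S.inj e)
    simp only [Prod.mk.injEq] at this
    exact h ⟨this.2.2.2.1, this.2.2.2.2⟩

theorem good_pure {b d e f : ZMod 3} (h : e * b + p.η * p.θ * b * d ≠ 0) :
    GoodIn (T.MK p) (T.S.rho p (b, 0, d, e, f)) := by
  obtain ⟨h1, h2⟩ := T.S.cel_Q (p.η * p.θ * b) e f d b
  refine T.good_lift p ?_
  rw [Std.U_core]
  refine T.good_nonpure ⟨h1, ?_⟩
  rw [h2, dt]
  intro hh
  exact h (by linear_combination hh)

theorem good_out (hη : p.η = 1) {b d e f : ZMod 3} (hb : b ≠ 0) :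
    GoodIn (T.MK p) (T.S.rho p (b, 0, d, e, f)) := by
  obtain ⟨i, hi⟩ : ∃ i : ZMod 3, e + p.θ * d + 2 * i = 1 := ⟨2 * (1 - e - p.θ * d), by
    have h3 : (3 : ZMod 3) = 0 := by decide
    linear_combination (1 - e - p.θ * d) * h3⟩
  rw [← mul_one (T.S.rho p (b, 0, d, e, f)), ← T.S.rho_tb p i, T.S.rho_mul]
  have e' : p.tm (b, 0, d, e, f) (p.tb i) = (b, 0, d + p.θ * i, e + i, f + p.θ * b * (p.θ * i)) := by
    simp only [Par.tm, Par.tb, hη, Prod.mk.injEq]
    refine ⟨?_, ?_, ?_, ?_, ?_⟩ <;> ring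
  rw [e']
  refine T.good_pure p ?_
  rw [hη]
  intro h0
  refine hb ?_
  linear_combination h0 - b * hi - b * i * p.θ_sq

theorem good_cube (hη : p.η = 1) {t : T5} (hb : t.1 ≠ 0) :
    GoodIn (T.MK p) (T.S.rho p t) ∨ GoodIn (T.MK p) (T.S.rho p t ^ 3) := by
  obtain ⟨b, c, d, e, f⟩ := t
  by_cases hc : c = 0
  · subst hc; exact Or.inl (T.good_out p hη hb)
  · refine Or.inr ?_
    rw [T.S.rho_cube, hη]
    exact T.good_plane p fun h => mul_ne_zero (mul_ne_zero (mul_ne_zero (mul_ne_zero one_ne_zero p.θ_ne) hb) hc) hb h.2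

theorem order3_out (hη : p.η = 1) {t : T5} (hb : t.1 ≠ 0) (h3 : T.S.rho p t ^ 3 = 1) :
    GoodIn (T.MK p) (T.S.rho p t) := by
  obtain ⟨b, c, d, e, f⟩ := t
  obtain rfl : c = 0 := by
    rw [T.S.rho_cube] at h3
    obtain ⟨i, hi⟩ := T.S.rho_eq p ((T.S.rho_one p).trans h3.symm)
    simp only [Par.tm, Par.tb, Par.tz, hη, Prod.mk.injEq] at hi
    obtain ⟨-, -, -, h4, h5⟩ := hi
    have hi0 : i = 0 := by linear_combination -h4
    by_contra hc
    refine mul_ne_zero (mul_ne_zero (mul_ne_zero p.θ_ne hb) hc) hb ?_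
    linear_combination h5
  exact T.good_out p hη hb

theorem cent_a (hη : p.η = 1) {k : T.S.Kq p} (hk : k * T.S.rho p (1, 0, 0, 1, 0) = T.S.rho p (1, 0, 0, 1, 0) * k) :
    ∃ b f : ZMod 3, k = T.S.rho p (b, 0, 0, b, f) := by
  obtain ⟨h, rfl⟩ := QuotientGroup.mk'_surjective (T.S.N0 p) k
  set w := T.S.Φ (p.U (1, 0, 0, 1, 0)) with hw
  have hk2 : T.S.πq p (⟨w, T.S.U_mem p _⟩ * h) = T.S.πq p (h * ⟨w, T.S.U_mem p _⟩) := by
    rw [map_mul, map_mul]; exact hk.symm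
  obtain ⟨j, hj⟩ := mem_zpowers_iff.1 (QuotientGroup.eq.1 hk2)
  have hj' := congrArg (fun g : T.S.H0 p => (g : G)) hj
  simp only [SubgroupClass.coe_zpow, Subgroup.coe_mul, InvMemClass.coe_inv] at hj'
  obtain ⟨i, hi⟩ : ∃ i : ZMod 3, (h : G) * w * (h : G)⁻¹ = T.S.Φ (p.U (p.tm (1, 0, 0, 1, 0) (p.tb i))) := by
    refine ⟨((j % 3).toNat : ℕ), ?_⟩
    rw [← p.U_mul, map_mul, ← hw, ← p.bel_pow, map_pow, ← zpow_natCast (T.S.Φ p.bel),
      Int.toNat_of_nonneg (Int.emod_nonneg _ (by norm_num)),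
      show T.S.Φ p.bel ^ (j % 3) = T.S.Φ p.bel ^ j by
        conv_rhs => rw [← Int.emod_add_mul_ediv j 3, _root_.zpow_add, _root_.zpow_mul,
          show T.S.Φ p.bel ^ (3 : ℤ) = 1 by
            rw [show (3 : ℤ) = ((3 : ℕ) : ℤ) from rfl, zpow_natCast, ← map_pow, Std.bel_cube, map_one],
          _root_.one_zpow, mul_one]]
    have hc : (h : G) * T.S.Φ p.bel ^ j = T.S.Φ p.bel ^ j * (h : G) :=
      ((show Commute (h : G) (T.S.Φ p.bel) from mem_centralizer_singleton_iff.1 h.2).zpow_right j).eq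
    rw [mul_inv_eq_iff_eq_mul, mul_assoc w, ← hc, hj']
    group
  set w' := T.S.Φ (p.U (p.tm (1, 0, 0, 1, 0) (p.tb i))) with hw'
  obtain ⟨hQ', hv'⟩ : w' ∈ T.D.Q ∧ T.S.F.cd w' = (1 + i, -p.θ, p.θ * i, 1) := by
    have e : p.tm (1, 0, 0, 1, 0) (p.tb i) = (1, 0, p.θ * i, 1 + i, p.θ * (p.θ * i)) := by
      simp only [Par.tm, Par.tb, hη, Prod.mk.injEq]
      refine ⟨?_, ?_, ?_, ?_, ?_⟩ <;> ring
    rw [hw', e, Std.U_core]
    obtain ⟨q1, q2⟩ := T.S.cel_Q (p.η * p.θ * 1) (1 + i) (p.θ * (p.θ * i)) (p.θ * i) 1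
    exact ⟨q1, q2.trans (by rw [hη]; simp)⟩
  obtain ⟨hwQ, hwd⟩ : w ∈ T.D.Q ∧ dt (T.S.F.cd w) ≠ 0 := by
    rw [hw, Std.U_core]
    obtain ⟨q1, q2⟩ := T.S.cel_Q (p.η * p.θ * 1) 1 0 0 1
    refine ⟨q1, ?_⟩
    rw [q2]
    simp [dt]
  obtain ⟨a1, b1, c1, d1, a2, b2, c2, d2, o1, o2, o3⟩ := witness_pair p.θ i p.hθ
  obtain ⟨q1, hq1, hv1⟩ := T.S.F.cd_surj (a1, b1, c1, d1)
  obtain ⟨q2, hq2, hv2⟩ := T.S.F.cd_surj (a2, b2, c2, d2)
  have hC : ∀ q ∈ T.D.Q, om (T.S.F.cd q) (T.S.F.cd w') = 0 → (h : G)⁻¹ * q * h ∈ T.D.Q := by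
    intro q hq ho
    refine T.cent_nonpure ⟨hwQ, hwd⟩ (mem_centralizer_singleton_iff.2 ?_)
    have hc := T.S.comm_of_om hq hQ' ho
    rw [← hi] at hc
    calc (h : G)⁻¹ * q * h * w = (h : G)⁻¹ * (q * ((h : G) * w * (h : G)⁻¹)) * h := by group
      _ = (h : G)⁻¹ * ((h : G) * w * (h : G)⁻¹ * q) * h := by rw [hc]
      _ = _ := by group
  have hz : (h : G)⁻¹ * T.D.z * h ∈ T.D.Zc := by
    have hcm := T.S.F.cd_cm q1 hq1 q2 hq2
    rw [hv1, hv2, o3, show ((1 : ZMod 3)).val = 1 from rfl, pow_one] at hcm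
    rw [← hcm, show (h : G)⁻¹ * (q1 * q2 * q1⁻¹ * q2⁻¹) * h = (h : G)⁻¹ * q1 * h * ((h : G)⁻¹ * q2 * h) *
      ((h : G)⁻¹ * q1 * h)⁻¹ * ((h : G)⁻¹ * q2 * h)⁻¹ by group]
    exact T.D.Q_comm _ (hC q1 hq1 (by rw [hv1, hv', o1])) _ (hC q2 hq2 (by rw [hv2, hv', o2]))
  obtain ⟨g, hg, -⟩ := T.S.normalizer_mem (h := (h : G)⁻¹) (by rwa [inv_inv])
  have hP : (h : G) ∈ T.S.P := inv_mem_iff.1 ⟨g, hg⟩
  obtain ⟨t, ht, htc⟩ := T.S.mem_cent p (Or.inl (by simp)) ((T.S.mem_Mq p).2 hP) hk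
  obtain ⟨b, c, d, x, y⟩ := t
  obtain ⟨i', h1, h2, h3⟩ := p.cm_eqs htc
  rw [hη] at h2 h3
  obtain ⟨rfl, hx⟩ := Par.x_eqs p.θ b c d i' x p.hθ h1 h2 h3
  refine ⟨b, y - p.η * p.θ * b * d, ?_⟩
  rw [ht, ← T.S.rho_red p (b, 0, d, x, y)]
  congr 1
  simp only [Par.red, hη, Prod.mk.injEq]
  exact ⟨trivial, trivial, trivial, hx, trivial⟩

theorem MK_top (hη : p.η = 1) : T.MK p = ⊤ := by
  classical
  set a := T.S.rho p (1, 0, 0, 1, 0) with ha
  have hag : GoodIn (T.MK p) a := T.good_pure p (by simp)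
  have ha3 : a ^ 3 = 1 := T.S.rho_cube_one p (by simp)
  have hC : ∀ e : T.S.Kq p, e ≠ 1 → e * a = a * e → ∀ g, g * e = e * g → g ∈ T.MK p := by
    intro e he1 hec g hg
    obtain ⟨b, f, rfl⟩ := T.cent_a p hη hec
    refine GoodIn.cent ?_ hg
    by_cases hb : b = 0
    · subst hb
      exact T.good_plane p fun h => he1 (by rw [h.2]; exact T.S.rho_one p)
    · exact T.good_out p hη hb
  have hcc : cc a ≤ 9 := by
    show Nat.card (centralizer ({a} : Set (T.S.Kq p))) ≤ 9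
    refine (Nat.card_mono (Set.toFinite (Set.range fun x : ZMod 3 × ZMod 3 => T.S.rho p (x.1, 0, 0, x.1, x.2)))
      fun k hk => ?_).trans ((Finite.card_range_le _).trans (by simp [Nat.card_prod, Nat.card_zmod]))
    obtain ⟨b, f, e⟩ := T.cent_a p hη (mem_centralizer_singleton_iff.1 hk)
    exact ⟨(b, f), e.symm⟩
  have hBgood : ∀ y ∈ (T.S.Bhom p).range, y ≠ 1 → y ^ 3 = 1 := by
    rintro _ ⟨x, rfl⟩ -
    exact T.S.rho_cube_one p (by simp)
  have hb := GoodPairs.index_bound (T.MK p) (T.S.Bhom p).range (fun _ : Unit => a) (fun _ => 1)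
    (fun i j hij => absurd (Subsingleton.elim i j) hij)
    (fun _ g hg => hag.cent (mem_centralizer_singleton_iff.1 hg)) (fun _ => hag.1) (fun _ _ => true)
    (fun _ _ y hy hy1 g h hg hh hgy => by
      refine ⟨rfl, (pair_mem hag hag ha3 ha3 hC (hBgood y hy hy1) ?_ ?_ hg hh hgy).1⟩
      · intro hc
        have e2 : a * a = a⁻¹ := eq_inv_of_mul_eq_one_left (by rw [← pow_three']; exact ha3)
        by_cases hyM : y ∈ T.MK p
        · obtain ⟨m, hm, hme⟩ := (e2 ▸ hag.inv).mconj hyM hc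
          have h2 := T.B_normal p hη (inv_mem hm) hy
          rw [← hme, show m⁻¹ * (m * (a * a) * m⁻¹) * m⁻¹⁻¹ = a * a by group] at h2
          obtain ⟨x, hx⟩ := h2
          have hx' : T.S.rho p (0, x.toAdd.1, 0, x.toAdd.2.1, x.toAdd.2.2) =
              T.S.rho p (p.tm (1, 0, 0, 1, 0) (1, 0, 0, 1, 0)) := hx.trans (T.S.rho_mul p _ _)
          obtain ⟨i, hi⟩ := T.S.rho_eq p hx'
          simp only [Par.tm, Par.tb, Prod.mk.injEq] at hi
          exact absurd (show (1 : ZMod 3) + 1 = 0 by linear_combination hi.1) (by decide)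
        · obtain ⟨x, rfl⟩ := hy
          exact hyM (T.rho_MK p _)
      · by_cases hyg : GoodIn (T.MK p) y
        · exact Or.inl hyg
        refine Or.inr fun g' h' hg' hh' hc => hyg ?_
        obtain ⟨m, hm, rfl⟩ := hg'
        obtain ⟨m', hm', rfl⟩ := hh'
        set y' := m * a * m⁻¹ * (m' * a * m'⁻¹)⁻¹ with hy'
        have hy'M : y' ∈ T.MK p :=
          mul_mem (mul_mem (mul_mem hm hag.1) (inv_mem hm)) (inv_mem (mul_mem (mul_mem hm' hag.1) (inv_mem hm')))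
        obtain ⟨k, hk⟩ := isConj_iff.1 hc
        have hyM : y ∈ T.MK p := by obtain ⟨x, rfl⟩ := hy; exact T.rho_MK p _
        have back : GoodIn (T.MK p) y' → GoodIn (T.MK p) y := by
          intro hg0
          obtain ⟨n, hn, hne⟩ := hg0.mconj hyM hc.symm
          rw [← hne]; exact hg0.conj hn
        apply back
        have hy'3 : y' ^ 3 = 1 := by rw [← hk, conj_pow, hBgood y hy hy1]; group
        obtain ⟨n, hn, t, ht⟩ := T.into_T p hη hy'M hy'3
        have hny : y' = n⁻¹ * T.S.rho p t * n⁻¹⁻¹ := by rw [← ht]; group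
        by_cases htb : t.1 = 0
        · have hB' : T.S.rho p t ∈ (T.S.Bhom p).range := by
            refine ⟨Multiplicative.ofAdd ((p.red t).2.1, (p.red t).2.2.2.1, (p.red t).2.2.2.2), ?_⟩
            show T.S.rho p (0, (p.red t).2.1, 0, (p.red t).2.2.2.1, (p.red t).2.2.2.2) = _
            rw [show ((0, (p.red t).2.1, 0, (p.red t).2.2.2.1, (p.red t).2.2.2.2) : T5) = p.red t from
              Prod.ext htb.symm rfl, T.S.rho_red]
          have hB1 := T.B_normal p hη (inv_mem hn) hB'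
          rw [← hny] at hB1
          have hB2 := T.B_normal p hη (inv_mem hm) hB1
          obtain ⟨x, hx⟩ := hB2
          set v : T5 := (0, x.toAdd.1, 0, x.toAdd.2.1, x.toAdd.2.2) with hv
          have hx' : T.S.rho p v = m⁻¹ * y' * m⁻¹⁻¹ := hx
          set c := m⁻¹ * (m' * a * m'⁻¹) * m with hc'
          have hc3 : c ^ 3 = 1 := by
            have := conj_pow (i := 3) (a := m⁻¹) (b := m' * a * m'⁻¹)
            rw [inv_inv] at this
            rw [hc', this, conj_pow, ha3]; group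
          have hcv : c = T.S.rho p (p.tm (p.ti v) (1, 0, 0, 1, 0)) := by
            rw [← T.S.rho_mul, show T.S.rho p (p.ti v) = (T.S.rho p v)⁻¹ from eq_inv_of_mul_eq_one_right (by
              rw [Std.rho, Std.rho, ← map_mul, ← map_one (T.S.πq p)]
              exact congrArg (T.S.πq p) (Subtype.ext (show T.S.Φ (p.U _) * T.S.Φ (p.U _) = 1 by
                rw [← map_mul, p.U_ti, map_one]))), hx', ← ha, hy', hc']
            group
          rw [hcv, T.S.rho_cube] at hc3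
          obtain ⟨i, hi⟩ := T.S.rho_eq p ((T.S.rho_one p).trans hc3.symm)
          simp only [hv, Par.tm, Par.ti, Par.tb, Par.tz, hη, Prod.mk.injEq] at hi
          obtain ⟨-, -, -, h4, h5⟩ := hi
          have hq0 : x.toAdd.1 = 0 := by
            refine (mul_eq_zero.1 (?_ : p.θ * x.toAdd.1 = 0)).resolve_left p.θ_ne
            linear_combination -h5
          have hne : m⁻¹ * y' * m⁻¹⁻¹ ≠ 1 := fun e => by
            have : y' = 1 := by
              calc y' = m * (m⁻¹ * y' * m⁻¹⁻¹) * m⁻¹ := by group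
                _ = 1 := by rw [e]; group
            rw [this] at hk
            exact hy1 (conj_eq_one_iff.1 hk)
          have hg2 : GoodIn (T.MK p) (m⁻¹ * y' * m⁻¹⁻¹) := by
            rw [← hx', hv, hq0]
            refine T.good_plane p fun hh => hne ?_
            rw [← hx', hv, hq0, hh.1, hh.2]; exact T.S.rho_one p
          have := hg2.conj hm
          rwa [show m * (m⁻¹ * y' * m⁻¹⁻¹) * m⁻¹ = y' by group] at this
        · rw [hny]
          refine (T.order3_out p hη htb ?_).conj (inv_mem hn)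
          rw [← ht, conj_pow, hy'3]; group)
  let f := fun x : ZMod 3 × ZMod 3 × ZMod 3 × ZMod 3 => T.S.rho p (x.1, x.2.1, 0, x.2.2.1, x.2.2.2)
  have hall : ∀ t, T.S.rho p t ∈ Set.range f := fun t =>
    ⟨((p.red t).1, (p.red t).2.1, (p.red t).2.2.2.1, (p.red t).2.2.2.2), T.S.rho_red p t⟩
  let U : Subgroup (T.S.Kq p) :=
    { carrier := Set.range f
      one_mem' := by rw [← T.S.rho_one p]; exact hall _
      mul_mem' := by
        intro x y hx hy
        obtain ⟨a, rfl⟩ := hx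
        obtain ⟨b, rfl⟩ := hy
        show T.S.rho p _ * T.S.rho p _ ∈ _
        rw [T.S.rho_mul]; exact hall _
      inv_mem' := by
        intro x hx
        obtain ⟨a, rfl⟩ := hx
        show (T.S.rho p _)⁻¹ ∈ _
        rw [inv_eq_of_mul_eq_one_right (b := T.S.rho p (p.ti _)) (by
          rw [Std.rho, Std.rho, ← map_mul, ← map_one (T.S.πq p)]
          exact congrArg (T.S.πq p) (Subtype.ext (show T.S.Φ (p.U _) * T.S.Φ (p.U _) = 1 by
            rw [← map_mul, p.U_ti, map_one])))]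
        exact hall _ }
  have hUc : Nat.card U = 3 ^ 4 := by
    show Nat.card (Set.range f) = _
    rw [Nat.card_range_of_injective, Nat.card_prod, Nat.card_prod, Nat.card_prod, Nat.card_zmod]
    · rfl
    · rintro ⟨a, b, c, d⟩ ⟨a', b', c', d'⟩ e
      obtain ⟨i, hi⟩ := T.S.rho_eq p e
      simp only [Par.tm, Par.tb, Prod.mk.injEq] at hi
      obtain ⟨h1, h2, h3, h4, h5⟩ := hi
      have hi0 : i = 0 := (mul_eq_zero.1 (show p.θ * i = 0 by linear_combination -h3)).resolve_left p.θ_ne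
      subst hi0
      simp only [Prod.mk.injEq]
      exact ⟨by linear_combination -h1, by linear_combination -h2, by linear_combination -h4,
        by linear_combination -h5⟩
  haveI : Fact (Nat.Prime 3) := ⟨Nat.prime_three⟩
  have hd := GoodPairs.index_mod (T.MK p) U (by rintro _ ⟨x, rfl⟩; exact T.rho_MK p _) hUc (j := 1) (fun R hR hc => by
    by_cases hb : ∃ e ∈ R, ∃ t : T5, e = T.S.rho p t ∧ t.1 ≠ 0
    · obtain ⟨e, he, t, rfl, ht⟩ := hb
      rcases T.good_cube p hη ht with h | h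
      · exact ⟨_, he, h⟩
      · exact ⟨_, pow_mem he 3, h⟩
    push Not at hb
    choose g hg using fun e : R => hR e.2
    obtain ⟨x, y, hxy, e⟩ : ∃ x y : R, x ≠ y ∧ (g x).2.1 = (g y).2.1 := by
      by_contra hne
      push Not at hne
      have := Nat.card_le_card_of_injective (fun x : R => (g x).2.1) (fun x y e => by_contra fun h => hne x y h e)
      rw [Nat.card_zmod] at this
      norm_num at hc
      omega
    refine ⟨(x : T.S.Kq p)⁻¹ * y, mul_mem (inv_mem x.2) y.2, ?_⟩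
    set tx : T5 := ((g x).1, (g x).2.1, 0, (g x).2.2.1, (g x).2.2.2)
    set ty : T5 := ((g y).1, (g y).2.1, 0, (g y).2.2.1, (g y).2.2.2)
    have ex : (x : T.S.Kq p) = T.S.rho p tx := (hg x).symm
    have ey : (y : T.S.Kq p) = T.S.rho p ty := (hg y).symm
    have bx : (g x).1 = 0 := hb x x.2 tx ex
    have by' : (g y).1 = 0 := hb y y.2 ty ey
    have ev : (x : T.S.Kq p)⁻¹ * y = T.S.rho p (p.red (p.tm (p.ti tx) ty)) := by
      rw [T.S.rho_red, ← T.S.rho_mul, ← ey, show T.S.rho p (p.ti tx) = (T.S.rho p tx)⁻¹ from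
        eq_inv_of_mul_eq_one_right (by
          rw [Std.rho, Std.rho, ← map_mul, ← map_one (T.S.πq p)]
          exact congrArg (T.S.πq p) (Subtype.ext (show T.S.Φ (p.U _) * T.S.Φ (p.U _) = 1 by
            rw [← map_mul, p.U_ti, map_one]))), ← ex]
    have hne : (x : T.S.Kq p)⁻¹ * y ≠ 1 := fun h => hxy (Subtype.ext (inv_mul_eq_one.1 h))
    rw [ev] at hne ⊢
    obtain ⟨v1, v2, v3⟩ : (p.red (p.tm (p.ti tx) ty)).1 = 0 ∧ (p.red (p.tm (p.ti tx) ty)).2.1 = 0 ∧
        (p.red (p.tm (p.ti tx) ty)).2.2.1 = 0 := by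
      refine ⟨?_, ?_, rfl⟩
      · simp [Par.red, Par.tm, Par.ti, tx, ty, bx, by']
      · simp [Par.red, Par.tm, Par.ti, tx, ty, e]
    set v := p.red (p.tm (p.ti tx) ty)
    have evv : v = (0, 0, 0, v.2.2.2.1, v.2.2.2.2) := Prod.ext v1 (Prod.ext v2 (Prod.ext v3 rfl))
    rw [evv] at hne ⊢
    exact T.good_plane p fun hh => hne (by rw [hh.1, hh.2]; exact T.S.rho_one p))
  rw [← index_eq_one]
  have hpos : 0 < (T.MK p).index := Nat.pos_of_ne_zero index_ne_zero_of_finite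
  simp only [one_pow, one_mul, if_true, Fintype.sum_unique, Finset.sum_const, Finset.card_univ, Fintype.card_unit,
    T.S.card_B p, smul_eq_mul, mul_one] at hb
  obtain ⟨k, hk⟩ := hd
  norm_num at hk hb
  have hmul : (T.MK p).index * cc a ≤ (T.MK p).index * 9 := Nat.mul_le_mul_left _ hcc
  omega

/-- The centralizers in the plane pair lie in the subgroup. -/
theorem cent_bel (hη : p.η = 1) : centralizer ({T.S.Φ p.bel} : Set G) ≤ T.M := fun g hg =>
  (T.mem_MK p (h := ⟨g, hg⟩)).1 (by rw [T.MK_top p hη]; exact mem_top _)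

theorem good_bel (hη : p.η = 1) : GoodIn T.M (T.S.Φ p.bel) :=
  T.good_of_cent (T.Φ_mem _) (by rw [← map_pow, Std.bel_cube, map_one]) (T.cent_bel p hη)

end Two

end CfsgLib.L43Rec
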