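import Cfsg.Agent.Lib.L43Rec.TwoInvE

/-!
When both planes occur, the group is PSL(4,3).
-/

set_option autoImplicit false

namespace CfsgLib.L43Rec

open Subgroup Matrix CfsgLib.GoodPairs CfsgLib.PositiveBound

universe u

theorem wel_sq : (wel.1.1 - 1) * (wel.1.1 - 1) ≠ 0 := by decide +kernel

theorem prod_conj {G : Type u} [Group G] {g h : G} (hg : g ^ 3 = 1) (hgh : (g * h) ^ 3 = 1) (hh : h * h = 1) :
    IsConj g (g * h) := by
  have h3 : g * g * g = 1 := by rw [← pow_three']; exact hg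
  have e : g * h * g * h = h * g⁻¹ := by
    rw [pow_three'] at hgh
    calc g * h * g * h = (g * h * (g * h) * (g * h)) * (h⁻¹ * g⁻¹) := by group
      _ = _ := by rw [hgh, one_mul, inv_eq_of_mul_eq_one_left hh]
  have e2 : g * h * g⁻¹ * g * (g * h * g⁻¹)⁻¹ = h * g := by
    calc g * h * g⁻¹ * g * (g * h * g⁻¹)⁻¹ = g * h * g * h⁻¹ * g⁻¹ := by group
      _ = h * g⁻¹ * g⁻¹ := by rw [inv_eq_of_mul_eq_one_left hh, e]
      _ = h * g := by
        rw [mul_assoc]
        congr 1
        rw [← _root_.mul_inv_rev]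
        exact inv_eq_of_mul_eq_one_left (by rw [← mul_assoc]; exact h3)
  refine (isConj_iff.2 ⟨_, e2⟩).trans (isConj_iff.2 ⟨g, ?_⟩)
  group

namespace Two

variable {G : Type u} [Group G] (T : Two G) [Finite G]

theorem B81_facts {y : G} (hy : y ∈ T.S.B81) :
    ∃ b : Ph0, y = T.S.Φ b ∧ (b.1.1 - 1) * (b.1.1 - 1) = 0 ∧ b ^ 3 = 1 := by
  obtain ⟨⟨a2, a3, c, x⟩, rfl⟩ := hy
  refine ⟨_, rfl, B_sq a2 a3 c x, ?_⟩
  have h3 : ∀ u : ZMod 3, u + u + u = 0 := by decide
  rw [pow_three', B_mul, B_mul, h3, h3, h3, h3, B_one]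

theorem not_conj_B {a b : Ph0} (ha3 : a ^ 3 = 1) (hb3 : b ^ 3 = 1) (ha : (a.1.1 - 1) * (a.1.1 - 1) ≠ 0)
    (hb : (b.1.1 - 1) * (b.1.1 - 1) = 0) : ¬ IsConj (T.S.Φ a) (T.S.Φ b) := by
  intro hc
  have ha1 : T.S.Φ a ≠ 1 := fun h => ha (by
    rw [T.S.inj (h.trans (map_one T.S.Φ).symm)]
    simp)
  have hg := T.good3 (T.Φ_mem a) (by rw [← map_pow, ha3, map_one]) ha1
  obtain ⟨_, ⟨m, rfl⟩, hm⟩ := hg.mconj (T.Φ_mem b) hc
  rw [← T.μ_Φ, ← T.μ_Φ, ← map_inv, ← map_mul, ← map_mul] at hm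
  have e : m * a.1 * m⁻¹ = b.1 := by
    rcases T.μ_eq_one.1 (hom_eq_one T.μ hm) with e | e
    · exact mul_inv_eq_one.1 e
    · exfalso
      rw [mul_inv_eq_iff_eq_mul] at e
      have h := congrArg (· ^ 3) e
      rw [conj_pow, (show Commute ng4 b.1 from ng4_comm _).mul_pow,
        show a.1 ^ 3 = 1 from congrArg Subtype.val ha3, show b.1 ^ 3 = 1 from congrArg Subtype.val hb3,
        mul_one, mul_one, mul_inv_cancel] at h
      exact absurd (congrArg Subtype.val h) (by decide +kernel)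
  have h : m.1 * a.1.1 = b.1.1 * m.1 := by
    have := congrArg (fun x : SL43 => x.1) (mul_inv_eq_iff_eq_mul.1 e : m * a.1 = b.1 * m)
    rwa [Matrix.SpecialLinearGroup.coe_mul, Matrix.SpecialLinearGroup.coe_mul] at this
  refine ha ?_
  have h1 : m.1 * ((a.1.1 - 1) * (a.1.1 - 1)) = 0 := by
    have e : m.1 * (a.1.1 - 1) = (b.1.1 - 1) * m.1 := by rw [mul_sub, sub_mul, h, mul_one, one_mul]
    rw [← mul_assoc, e, mul_assoc, e, ← mul_assoc, hb, zero_mul]
  calc (a.1.1 - 1) * (a.1.1 - 1) = (m⁻¹).1 * m.1 * ((a.1.1 - 1) * (a.1.1 - 1)) := by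
        rw [← Matrix.SpecialLinearGroup.coe_mul, inv_mul_cancel, Matrix.SpecialLinearGroup.coe_one, one_mul]
    _ = 0 := by rw [mul_assoc, h1, mul_zero]

/-- The subgroup is everything. -/
theorem M_top : T.M = ⊤ := by
  classical
  haveI : Fact (Nat.Prime 3) := ⟨Nat.prime_three⟩
  haveI : Fact (Nat.Prime 2) := ⟨Nat.prime_two⟩
  have hd := GoodPairs.index_mod T.M T.S.U729 (fun x hx => T.Ct_le_M hx.1) T.S.card_U729 (j := 0)
    (fun X hX hc => by
      obtain ⟨k, -, hk⟩ := (Nat.dvd_prime_pow Nat.prime_three).1 (T.S.card_U729 ▸ card_dvd_of_le hX)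
      obtain ⟨x, hx⟩ := exists_prime_orderOf_dvd_card' (G := X) 3 (by
        rw [hk] at hc ⊢
        rcases k with _ | k
        · norm_num at hc
        · exact dvd_pow_self 3 (Nat.succ_ne_zero k))
      refine ⟨x, x.2, T.good3 (T.Ct_le_M (hX x.2).1) ?_ fun h => ?_⟩
      · exact congrArg Subtype.val (hx ▸ pow_orderOf_eq_one x)
      · rw [show x = 1 from Subtype.ext h, orderOf_one] at hx; omega)
  set a : Bool → G := fun b => if b then T.S.Φ wel else T.t with ha
  set w := T.S.Φ wel with hw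
  have hwQ : w ∈ T.D.Q := T.S.wel_cd.1
  have hw3 : w ^ 3 = 1 := T.D.Q_exp _ hwQ
  have hwn : T.S.Nonpure w := ⟨hwQ, by rw [T.S.wel_cd.2]; decide⟩
  have hwC := T.cent_nonpure hwn
  have hw1 : w ≠ 1 := fun h => wel_sq (by rw [T.S.inj (h.trans (map_one T.S.Φ).symm)]; simp)
  have hwel3 : wel ^ 3 = 1 := T.S.inj (by rw [map_pow, map_one]; exact hw3)
  have hwg : GoodIn T.M w := T.good_nonpure hwn
  have hC : ∀ e : G, e ≠ 1 → e * w = w * e → ∀ g, g * e = e * g → g ∈ T.M := fun e he hew g hg =>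
    (T.good_core (hwC (mem_centralizer_singleton_iff.2 hew)) he).cent hg
  have hcw : cc w ≤ 81 := by
    show Nat.card (centralizer ({w} : Set G)) ≤ _
    refine ((Nat.card_mono (Set.toFinite (Set.range fun a : ZMod 3 × ZMod 3 × ZMod 3 × ZMod 3 =>
      T.S.Φ (cel a.1 a.2.1 a.2.2.1 a.1 a.2.2.2 1))) ?_).trans (Finite.card_range_le _)).trans
        (by simp [Nat.card_prod, Nat.card_zmod])
    intro g hg
    obtain ⟨a1, a2, a3, c1, c2, rfl, -⟩ := T.S.exists_of_Q (hwC hg)
    have h := mem_centralizer_singleton_iff.1 hg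
    rw [hw, ← map_mul, ← map_mul] at h
    have := wel_cent a1 a2 a3 c1 c2 (congrArg (fun g : Ph0 => g.1.1) (T.S.inj h))
    refine ⟨(a1, a2, a3, c2), ?_⟩
    show T.S.Φ (cel a1 a2 a3 a1 c2 1) = _
    rw [this]
  have hnc : ¬ IsConj w T.t := fun h => by
    obtain ⟨k, hk⟩ := isConj_iff.1 h
    have h3 : T.t ^ 3 = 1 := by rw [← hk, conj_pow, hw3]; group
    rw [pow_three', T.t_sq, one_mul] at h3
    exact T.t_ne h3
  have h := index_bound T.M T.S.B81 a (fun b => if b then 13 else 1)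
    (fun i j hij => by
      cases i <;> cases j
      · exact absurd rfl hij
      · exact fun h => hnc h.symm
      · exact hnc
      · exact absurd rfl hij)
    (fun i => by
      cases i
      · exact T.H_le_M
      · exact hwC.trans T.core_le_M)
    (fun i => by
      cases i
      · exact ⟨_, rfl⟩
      · exact T.Φ_mem _)
    (fun i j => i == j)
    (fun i j y hy hy1 g h hg hh hgy => by
      obtain ⟨b, hyb, hb0, hb3⟩ := T.B81_facts hy
      have hy3 : y ^ 3 = 1 := by rw [hyb, ← map_pow, hb3, map_one]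
      have hyM : y ∈ T.M := hyb ▸ T.Φ_mem b
      have hyg : GoodIn T.M y := T.good3 hyM hy3 hy1
      have hw2 : ¬ IsConj (w * w) y := by
        rw [hw, hyb, ← map_mul]
        refine T.not_conj_B ?_ hb3 wv_sq.1 hb0
        rw [(Commute.refl wel).mul_pow, hwel3, one_mul]
      have ord2 : ∀ {x : G}, IsConj T.t x → x * x = 1 := fun {x} hx => by
        obtain ⟨k, rfl⟩ := isConj_iff.1 hx
        rw [show k * T.t * k⁻¹ * (k * T.t * k⁻¹) = k * (T.t * T.t) * k⁻¹ by group, T.t_sq]; group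
      have ord3 : ∀ {x : G}, IsConj w x → x ^ 3 = 1 := fun {x} hx => by
        obtain ⟨k, rfl⟩ := isConj_iff.1 hx
        rw [conj_pow, hw3]; group
      cases i <;> cases j
      · have hg2 := ord2 hg
        have hh2 := ord2 hh
        have hgM : g ∈ T.M := hyg.2 g (by
          have : g⁻¹ * y * g = y⁻¹ := by
            rw [← hgy, _root_.mul_inv_rev, inv_inv, inv_eq_of_mul_eq_one_left hh2, inv_eq_of_mul_eq_one_left hg2,
              ← mul_assoc, hg2, one_mul]
          rw [this]; exact inv_mem hyM)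
        have hg1 : g ≠ 1 := fun e => by
          obtain ⟨k, hk⟩ := isConj_iff.1 (show IsConj T.t g from hg)
          rw [e] at hk
          exact T.t_ne (conj_eq_one_iff.1 hk)
        refine ⟨rfl, (T.invol_class hgM hg2 hg1).resolve_right ?_⟩
        rintro ⟨k, -, hk⟩
        exact T.not_conj_ts ((show IsConj T.t g from hg).trans (isConj_iff.2 ⟨k, hk⟩).symm)
      · exfalso
        have hg2 := ord2 hg
        have hh3 : h⁻¹ ^ 3 = 1 := by rw [inv_pow, ord3 hh, inv_one]
        have hc : IsConj (h⁻¹ * g) y := isConj_iff.2 ⟨g, by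
          rw [inv_eq_of_mul_eq_one_left hg2, ← mul_assoc, mul_assoc (g * h⁻¹), hg2, mul_one]; exact hgy⟩
        have hp := prod_conj hh3 (by
          obtain ⟨k, hk⟩ := isConj_iff.1 hc.symm
          rw [← hk, conj_pow, hy3]; group) hg2
        refine hw2 (IsConj.trans ?_ (hp.trans hc))
        obtain ⟨k, hk⟩ := isConj_iff.1 (show IsConj w h from hh)
        refine isConj_iff.2 ⟨k, ?_⟩
        rw [← hk, show w * w = w⁻¹ from eq_inv_of_mul_eq_one_left (by rw [← pow_three']; exact hw3)]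
        group
      · exfalso
        have hh2 := ord2 hh
        rw [inv_eq_of_mul_eq_one_left hh2] at hgy
        have hp := prod_conj (ord3 hg) (by rw [hgy]; exact hy3) hh2
        refine T.not_conj_B hwel3 hb3 wel_sq hb0 ?_
        rw [← hw, ← hyb, ← hgy]
        exact (show IsConj w g from hg).trans hp
      · exact ⟨rfl, (pair_mem hwg hwg hw3 hw3 hC hy3 hw2 (Or.inl hyg) hg hh hgy).1⟩)
  have hct : cc (a false) ≤ 1152 := T.cc_t
  have hca : cc (a true) ≤ 81 := hcw
  simp only [Fintype.sum_bool, T.S.card_B81] at h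
  simp at h
  obtain ⟨k, hk⟩ := hd
  rw [← index_eq_one]
  have hpos : 0 < T.M.index := Nat.pos_of_ne_zero index_ne_zero_of_finite
  have hodd := T.index_odd
  norm_num at hk h
  by_contra hne
  have h730 : T.M.index = 730 ∨ 1459 ≤ T.M.index := by omega
  rcases h730 with e | e
  · exact hodd (e ▸ (by norm_num))
  · nlinarith

end Two

/-- The identification in the second case. -/
theorem Two.equiv_two {G : Type u} [Group G] [Finite G] (T : Two G) :
    Nonempty (G ≃* Matrix.ProjectiveSpecialLinearGroup (Fin 4) (ZMod 3)) := by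
  obtain ⟨f⟩ := T.equiv_M
  exact ⟨((Subgroup.topEquiv.symm).trans (MulEquiv.subgroupCongr T.M_top.symm)).trans f⟩

end CfsgLib.L43Rec
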