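import Cfsg.Agent.Lib.L43Rec.TwoMu
import Cfsg.Agent.Lib.L43Rec.OneFinal

/-!
Elements of order three in the subgroup.
-/

set_option autoImplicit false

namespace CfsgLib.L43Rec

open Subgroup Matrix CfsgLib.GoodPairs

universe u

/-- A cyclic permutation of the first three vectors. -/
def cyc4 : SL43 := ⟨!![0, 1, 0, 0; 0, 0, 1, 0; 1, 0, 0, 0; 0, 0, 0, 1], by decide +kernel⟩

theorem cyc4_conj : ∀ c : ZMod 3, cyc4.1 * (cel 0 0 0 0 c mU).1.1 = (cel 1 0 0 c 0 1).1.1 * cyc4.1 := by decide +kernel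

theorem mel4_z : mel4.1 * (cel 0 0 1 0 0 1).1.1 = (cel 0 0 0 1 0 1).1.1 * mel4.1 := chain_facts.2.1

theorem SL23_orbit : ∀ W : SL23, W * W * W = 1 → W ≠ 1 →
    ∃ V : SL23, V * W = mU * V ∨ V * W = mU * mU * V := by decide +kernel

theorem fix_vector {g : SL43} (hg : g ^ 3 = 1) : ∃ v : Fin 4 → ZMod 3, v ≠ 0 ∧ g.1 *ᵥ v = v := by
  haveI : Fact (Nat.Prime 3) := ⟨Nat.prime_three⟩
  letI : MulAction (zpowers g) (Fin 4 → ZMod 3) :=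
    { smul := fun k v => (k : SL43).1 *ᵥ v
      one_smul := fun v => by
        show ((1 : zpowers g) : SL43).1 *ᵥ v = v
        simp
      mul_smul := fun a b v => by
        show ((a * b : zpowers g) : SL43).1 *ᵥ v = (a : SL43).1 *ᵥ ((b : SL43).1 *ᵥ v)
        rw [Subgroup.coe_mul, Matrix.SpecialLinearGroup.coe_mul, Matrix.mulVec_mulVec] }
  have hp : IsPGroup 3 (zpowers g) := fun k => ⟨1, Subtype.ext (by
    obtain ⟨n, hn⟩ := mem_zpowers_iff.1 k.2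
    rw [pow_one, SubgroupClass.coe_pow, ← hn, ← zpow_natCast, ← _root_.zpow_mul, mul_comm, _root_.zpow_mul, zpow_natCast,
      hg, _root_.one_zpow]; rfl)⟩
  obtain ⟨v, hv, hv0⟩ := hp.exists_fixed_point_of_prime_dvd_card_of_fixed_point (Fin 4 → ZMod 3)
    (by rw [Nat.card_fun, Nat.card_zmod, Nat.card_eq_fintype_card, Fintype.card_fin]; norm_num)
    (a := (0 : Fin 4 → ZMod 3)) (fun k => by show (k : SL43).1 *ᵥ 0 = 0; simp)
  exact ⟨v, fun h => hv0 h.symm, hv ⟨g, mem_zpowers g⟩⟩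

theorem exists_to_v {v : Fin 4 → ZMod 3} (hv : v ≠ 0) : ∃ m : SL43, m.1 *ᵥ Pi.single 0 1 = v := by
  have base : ∀ v : Fin 4 → ZMod 3, v 0 ≠ 0 → ∃ m : SL43, m.1 *ᵥ Pi.single 0 1 = v := by
    intro v h0
    have h2 : v 0 * v 0 = 1 := by
      have : ∀ x : ZMod 3, x ≠ 0 → x * x = 1 := by decide
      exact this _ h0
    refine ⟨⟨!![v 0, 0, 0, 0; v 1, v 0, 0, 0; v 2, 0, 1, 0; v 3, 0, 0, 1], ?_⟩, ?_⟩
    · rw [Matrix.det_succ_row_zero]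
      simp [Fin.sum_univ_succ, Matrix.det_fin_three, h2]
    · funext i
      rw [Matrix.mulVec_single_one, Matrix.col_apply]
      fin_cases i <;> simp
  by_cases h0 : v 0 = 0
  · obtain ⟨i, hi⟩ : ∃ i, v i ≠ 0 := by
      by_contra h
      push Not at h
      exact hv (funext h)
    have hi0 : (0 : Fin 4) ≠ i := fun e => hi (e ▸ h0)
    set r : SL43 := CfsgLib.CTRec.TypeA.tv 0 i (1 : ZMod 3)
    have hr : (r.1 *ᵥ v) 0 = v i := by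
      rw [CfsgLib.CTRec.TypeA.tv_val hi0, Matrix.add_mulVec, Matrix.one_mulVec, Matrix.single_mulVec]
      simp [h0]
    obtain ⟨m, hm⟩ := base (r.1 *ᵥ v) (hr ▸ hi)
    refine ⟨r⁻¹ * m, ?_⟩
    rw [Matrix.SpecialLinearGroup.coe_mul, ← Matrix.mulVec_mulVec, hm, Matrix.mulVec_mulVec,
      ← Matrix.SpecialLinearGroup.coe_mul, inv_mul_cancel, Matrix.SpecialLinearGroup.coe_one, Matrix.one_mulVec]
  · exact base v h0

theorem into_Ph0 {g : SL43} (hg : g ^ 3 = 1) : ∃ m : SL43, m * g * m⁻¹ ∈ Ph0 := by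
  obtain ⟨v, hv, hgv⟩ := fix_vector hg
  obtain ⟨m, hm⟩ := exists_to_v hv
  refine ⟨m⁻¹, ?_⟩
  have h : (m⁻¹ * g * m⁻¹⁻¹).1 *ᵥ Pi.single 0 (1 : ZMod 3) = Pi.single 0 1 := by
    rw [inv_inv, Matrix.SpecialLinearGroup.coe_mul, Matrix.SpecialLinearGroup.coe_mul, ← Matrix.mulVec_mulVec,
      ← Matrix.mulVec_mulVec, hm, hgv, ← hm, Matrix.mulVec_mulVec, ← Matrix.SpecialLinearGroup.coe_mul, inv_mul_cancel,
      Matrix.SpecialLinearGroup.coe_one, Matrix.one_mulVec]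
  have hc : ∀ i, (m⁻¹ * g * m⁻¹⁻¹).1 i 0 = (Pi.single 0 1 : Fin 4 → ZMod 3) i := fun i => by
    have := congrFun h i
    rwa [Matrix.mulVec_single_one, Matrix.col_apply] at this
  exact ⟨by rw [hc]; simp, by rw [hc]; simp, by rw [hc]; simp, by rw [hc]; simp⟩

namespace Two

variable {G : Type u} [Group G] (T : Two G)

theorem core_le_M : T.D.Q ≤ T.M := T.D.Q_le_Ct.trans T.Ct_le_M

theorem Φ_mem (g : Ph0) : T.S.Φ g ∈ T.M := T.P_le_M ⟨g, rfl⟩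

theorem μ_conj (m : SL43) (g h : Ph0) (e : m.1 * g.1.1 = h.1.1 * m.1) :
    T.μ m * T.S.Φ g * (T.μ m)⁻¹ = T.S.Φ h := by
  rw [mul_inv_eq_iff_eq_mul, ← T.μ_Φ, ← T.μ_Φ, ← map_mul, ← map_mul]
  exact congrArg T.μ (Subtype.ext (by rw [Matrix.SpecialLinearGroup.coe_mul, Matrix.SpecialLinearGroup.coe_mul]; exact e))

theorem lift_three {e : G} (he : e ∈ T.M) (h3 : e ^ 3 = 1) : ∃ g : SL43, T.μ g = e ∧ g ^ 3 = 1 := by
  obtain ⟨g, rfl⟩ := he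
  rcases T.μ_eq_one.1 (show T.μ (g ^ 3) = 1 by rw [map_pow, h3]) with h | h
  · exact ⟨g, rfl, h⟩
  · refine ⟨ng4 * g, by rw [map_mul, T.μ_neg, one_mul], ?_⟩
    have hc : Commute ng4 g := by
      refine Subtype.ext ?_
      show (-1 : Matrix (Fin 4) (Fin 4) (ZMod 3)) * g.1 = g.1 * -1
      simp
    rw [hc.mul_pow, h]
    exact Subtype.ext (by decide +kernel)

variable [Finite G]

/-- Elements of order three are conjugate into the core. -/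
theorem into_Q {e : G} (he : e ∈ T.M) (h3 : e ^ 3 = 1) : ∃ m ∈ T.M, m * e * m⁻¹ ∈ T.D.Q := by
  obtain ⟨g, rfl, hg⟩ := T.lift_three he h3
  obtain ⟨m0, hm0⟩ := into_Ph0 hg
  set g0 : Ph0 := ⟨_, hm0⟩
  set e0 := T.S.Φ g0 with he0
  have hce : T.μ m0 * T.μ g * (T.μ m0)⁻¹ = e0 := by
    rw [he0, ← T.μ_Φ, ← map_mul, ← map_inv, ← map_mul]
  suffices h : ∃ m ∈ T.M, m * e0 * m⁻¹ ∈ T.D.Q by
    obtain ⟨m, hm, hmQ⟩ := h
    refine ⟨m * T.μ m0, mul_mem hm ⟨_, rfl⟩, ?_⟩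
    rwa [show m * T.μ m0 * T.μ g * (m * T.μ m0)⁻¹ = m * (T.μ m0 * T.μ g * (T.μ m0)⁻¹) * m⁻¹ by group, hce]
  have he03 : e0 ^ 3 = 1 := by
    rw [← hce, conj_pow, h3]; group
  obtain ⟨a, ha, ha1, hae⟩ := T.S.exists_fixed (fun a ha => T.S.normal_plane ⟨g0, rfl⟩ ha) he03
  obtain ⟨n, hn, hne⟩ : ∃ n ∈ T.S.P, n * T.D.z * n⁻¹ = a := by
    by_cases hz : a ∈ T.D.Zc
    · obtain ⟨i, hi, rfl⟩ := T.D.mem_Zc.1 hz
      interval_cases i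
      · simp at ha1
      · exact ⟨1, one_mem _, by simp⟩
      · exact ⟨_, ⟨s0, rfl⟩, T.S.s0_z.trans (inv_eq_of_mul_eq_one_left (by rw [← pow_succ]; exact T.D.z_cube))⟩
    · obtain ⟨n, hn⟩ := T.S.plane_conj ha hz
      exact ⟨_, ⟨n, rfl⟩, hn⟩
  set e1 := n⁻¹ * e0 * n with he1
  have he1C : e1 ∈ T.D.Ct := by
    rw [T.D.mem_Ct]
    calc n⁻¹ * e0 * n * T.D.z = n⁻¹ * (e0 * (n * T.D.z * n⁻¹)) * n := by group
      _ = n⁻¹ * (n * T.D.z * n⁻¹ * e0) * n := by rw [hne, hae]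
      _ = _ := by rw [he1]; group
  have he13 : e1 ^ 3 = 1 := by
    rw [he1]
    have := conj_pow (i := 3) (a := n⁻¹) (b := e0)
    rw [inv_inv] at this
    rw [this, he03]; group
  suffices h : ∃ m ∈ T.M, m * e1 * m⁻¹ ∈ T.D.Q by
    obtain ⟨m, hm, hmQ⟩ := h
    refine ⟨m * n⁻¹, mul_mem hm (inv_mem (T.P_le_M hn)), ?_⟩
    rwa [show m * n⁻¹ * e0 * (m * n⁻¹)⁻¹ = m * e1 * m⁻¹ by rw [he1]; group]
  by_cases hφ : T.D.φ ⟨e1, he1C⟩ = 1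
  · exact ⟨1, one_mem _, by simpa using (T.D.φ_ker _).1 hφ⟩
  obtain ⟨V, hV⟩ := SL23_orbit _ (by
    rw [← map_mul, ← map_mul, show (⟨e1, he1C⟩ : T.D.Ct) * ⟨e1, he1C⟩ * ⟨e1, he1C⟩ = 1 from Subtype.ext (by
      show e1 * e1 * e1 = 1; rw [← pow_three']; exact he13), map_one]) hφ
  set m : T.D.Ct := ⟨T.S.Φ (cel 0 0 0 0 0 V), T.S.cel_Ct _ _ _ _ _ _⟩
  have hm : T.D.φ m = V := T.S.cel_φ _ _ _ _ _ _
  have main : ∀ f : T.D.Ct, (f : G) ^ 3 = 1 → T.D.φ f = mU → ∃ m ∈ T.M, m * (f : G) * m⁻¹ ∈ T.D.Q := by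
    intro f hf3 hfφ
    obtain ⟨a1, a2, a3, c1, c2, W', e', hW'⟩ := T.S.exists_cel_of f.2
    rw [hfφ] at hW'
    subst hW'
    by_cases h2 : c2 = 0
    · subst h2
      obtain ⟨b1, b2, b3, h⟩ : ∃ b1 b2 b3 : ZMod 3,
          (hel c1 * cel a1 a2 a3 c1 0 mU).1.1 = (cel b1 b2 b3 1 0 1 * hel c1).1.1 := by
        by_cases h1 : a1 = 0
        · subst h1; exact transvection_into a2 a3 c1
        · exact transvection_into' a1 a2 a3 c1 h1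
      refine ⟨_, T.Φ_mem (hel c1), ?_⟩
      rw [← e', ← map_mul, T.S.eq_of h, map_mul, mul_inv_cancel_right]
      exact (T.S.cel_Q _ _ _ _ _).1
    · have ha1' : a1 = 0 := regular_order a1 a2 a3 c1 c2 h2 (by
        have h := congrArg (fun g : Ph0 => g.1.1)
          (T.S.inj (show T.S.Φ (cel a1 a2 a3 c1 c2 mU ^ 3) = T.S.Φ 1 by rw [map_pow, map_one, e', hf3]))
        simpa [pow_succ, Matrix.SpecialLinearGroup.coe_mul] using h)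
      subst ha1'
      obtain ⟨p, q, r, h⟩ := regular_conj a2 a3 c1 c2 h2
      refine ⟨T.μ cyc4 * T.S.Φ (cel p q 0 0 r 1), mul_mem ⟨_, rfl⟩ (T.Φ_mem _), ?_⟩
      rw [← e', show T.μ cyc4 * T.S.Φ (cel p q 0 0 r 1) * T.S.Φ (cel 0 a2 a3 c1 c2 mU) *
        (T.μ cyc4 * T.S.Φ (cel p q 0 0 r 1))⁻¹ = T.μ cyc4 * (T.S.Φ (cel p q 0 0 r 1) *
          T.S.Φ (cel 0 a2 a3 c1 c2 mU) * (T.S.Φ (cel p q 0 0 r 1))⁻¹) * (T.μ cyc4)⁻¹ by group,
        ← map_mul, T.S.eq_of h, map_mul, mul_inv_cancel_right, T.μ_conj _ _ _ (cyc4_conj c2)]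
      exact (T.S.cel_Q _ _ _ _ _).1
  have conjM : ∀ f : G, (∃ k ∈ T.M, k * ((m : G) * f * (m : G)⁻¹) * k⁻¹ ∈ T.D.Q) → ∃ k ∈ T.M, k * f * k⁻¹ ∈ T.D.Q := by
    rintro f ⟨k, hk, hkQ⟩
    refine ⟨k * m, mul_mem hk (T.Φ_mem _), ?_⟩
    rwa [show k * (m : G) * f * (k * (m : G))⁻¹ = k * ((m : G) * f * (m : G)⁻¹) * k⁻¹ by group]
  rcases hV with hV | hV
  · refine conjM e1 (main (m * ⟨e1, he1C⟩ * m⁻¹) ?_ ?_)
    · rw [Subgroup.coe_mul, Subgroup.coe_mul, Subgroup.coe_inv, conj_pow, he13]; group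
    · rw [map_mul, map_mul, map_inv, hm, hV, mul_inv_cancel_right]
  · obtain ⟨k, hk, hkQ⟩ := conjM e1⁻¹ (main (m * (⟨e1, he1C⟩ : T.D.Ct)⁻¹ * m⁻¹) (by
      rw [Subgroup.coe_mul, Subgroup.coe_mul, Subgroup.coe_inv, Subgroup.coe_inv, conj_pow, inv_pow, he13]; group) (by
      rw [map_mul, map_mul, map_inv, map_inv, hm,
        show V * (T.D.φ ⟨e1, he1C⟩)⁻¹ * V⁻¹ = (V * T.D.φ ⟨e1, he1C⟩ * V⁻¹)⁻¹ by group, hV, mul_inv_cancel_right,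
        show (mU * mU)⁻¹ = mU from inv_eq_of_mul_eq_one_left (by decide +kernel)]))
    refine ⟨k, hk, ?_⟩
    have := inv_mem hkQ
    rwa [show (k * e1⁻¹ * k⁻¹)⁻¹ = k * e1 * k⁻¹ by group] at this

/-- Fusion of the centre in the subgroup. -/
theorem conj_z {e : G} (he : e ∈ T.M) (hc : IsConj T.D.z e) : MConj T.M T.D.z e := by
  have he3 : e ^ 3 = 1 := by
    obtain ⟨g, rfl⟩ := isConj_iff.1 hc
    rw [conj_pow, T.D.z_cube]; group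
  obtain ⟨m, hm, hmQ⟩ := T.into_Q he he3
  set q := m * e * m⁻¹
  have hqc : IsConj T.D.z q := hc.trans (isConj_iff.2 ⟨m, rfl⟩)
  suffices h : MConj T.M T.D.z q by
    obtain ⟨k, hk, hke⟩ := h
    refine ⟨m⁻¹ * k, mul_mem (inv_mem hm) hk, ?_⟩
    rw [show m⁻¹ * k * T.D.z * (m⁻¹ * k)⁻¹ = m⁻¹ * (k * T.D.z * k⁻¹) * m by group, hke]
    show m⁻¹ * (m * e * m⁻¹) * m = e
    group
  by_cases hqz : q ∈ T.D.Zc
  · obtain ⟨i, hi, hqi⟩ := T.D.mem_Zc.1 hqz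
    rw [hqi]
    interval_cases i
    · exfalso
      rw [pow_zero] at hqi
      obtain ⟨g, hg⟩ := isConj_iff.1 hqc
      rw [hqi] at hg
      exact T.D.z_ne (conj_eq_one_iff.1 hg)
    · exact ⟨1, one_mem _, by simp⟩
    · exact ⟨_, T.Φ_mem s0, T.S.s0_z.trans (inv_eq_of_mul_eq_one_left (by rw [← pow_succ]; exact T.D.z_cube))⟩
  rcases T.S.conj_in_Q hmQ hqz hqc with h | ⟨h1, h2⟩
  · obtain ⟨n, hn⟩ := T.S.plane_conj ⟨hmQ, h⟩ hqz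
    exact ⟨_, T.Φ_mem n, hn⟩
  · have hd : dt (T.S.F.cd q) = 0 := by rw [dt, h1, h2]; ring
    have hp : (T.S.F.cd q).2.2 ≠ (0, 0) := fun h => hqz ((T.S.F.cd_zero _ hmQ).1 (Prod.ext h1 (Prod.ext h2 h)))
    obtain ⟨W, t, hW⟩ := pure_orbit _ hd hp
    set n := T.S.Φ (cel 0 0 0 0 0 W)
    have hnC : n ∈ T.D.Ct := T.S.cel_Ct _ _ _ _ _ _
    obtain ⟨a1, a2, a3, c1, c2, e', hv⟩ := T.S.exists_of_Q (T.D.conj_Q hnC hmQ)
    rw [T.S.F.cd_act ⟨n, hnC⟩ _ hmQ, T.S.cel_φ, hW] at hv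
    simp only [Prod.mk.injEq] at hv
    obtain ⟨rfl, g1, rfl, rfl⟩ := hv
    obtain rfl : a1 = 0 := by linear_combination g1
    have ht0 : t = 0 := by
      have h0 := congrArg Prod.fst hW
      simp [act, h1, h2] at h0
      exact h0.symm
    subst ht0
    refine ⟨n⁻¹ * T.S.Φ (cel a3 0 0 0 0 1) * T.μ mel4,
      mul_mem (mul_mem (inv_mem (T.Φ_mem _)) (T.Φ_mem _)) ⟨_, rfl⟩, ?_⟩
    have ez : T.μ mel4 * T.D.z * (T.μ mel4)⁻¹ = T.S.Φ (cel 0 0 0 1 0 1) := by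
      rw [show T.D.z = T.S.Φ (cel 0 0 1 0 0 1) by
        rw [← T.S.Φ_z]; exact T.S.eq_of (chain_facts.2.2.2.2.2.2.2.2.2).symm]
      exact T.μ_conj _ _ _ mel4_z
    rw [show n⁻¹ * T.S.Φ (cel a3 0 0 0 0 1) * T.μ mel4 * T.D.z * (n⁻¹ * T.S.Φ (cel a3 0 0 0 0 1) * T.μ mel4)⁻¹ =
      n⁻¹ * (T.S.Φ (cel a3 0 0 0 0 1) * (T.μ mel4 * T.D.z * (T.μ mel4)⁻¹) * (T.S.Φ (cel a3 0 0 0 0 1))⁻¹) * n by group,
      ez, ← map_mul, T.S.eq_of (shift_conj 0 a3), map_mul, mul_inv_cancel_right, e']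
    group

/-- The centre fixes one coset. -/
theorem good_z : GoodIn T.M T.D.z := by
  refine ⟨T.Ct_le_M (T.D.mem_Ct.2 rfl), fun g hg => ?_⟩
  obtain ⟨m, hm, hme⟩ := T.conj_z hg (isConj_iff.2 ⟨g⁻¹, by rw [inv_inv]⟩)
  have hC : g * m ∈ T.D.Ct := by
    rw [T.D.mem_Ct]
    calc g * m * T.D.z = g * (m * T.D.z * m⁻¹) * m := by group
      _ = _ := by rw [hme]; group
  have := mul_mem (T.Ct_le_M hC) (inv_mem hm)
  rwa [mul_inv_cancel_right] at this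

theorem good_conj_z {e : G} (he : e ∈ T.M) (hc : IsConj T.D.z e) : GoodIn T.M e := by
  obtain ⟨m, hm, rfl⟩ := T.conj_z he hc
  exact T.good_z.conj hm

/-- An element of order three with centralizer in the subgroup. -/
theorem good_of_cent {e : G} (he : e ∈ T.M) (he3 : e ^ 3 = 1) (hC : centralizer ({e} : Set G) ≤ T.M) :
    GoodIn T.M e := by
  refine ⟨he, fun g hg => ?_⟩
  obtain ⟨m, hm, hmQ⟩ := T.into_Q hg (by
    have := conj_pow (i := 3) (a := g⁻¹) (b := e)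
    rw [inv_inv] at this
    rw [this, he3]; group)
  set z' := m⁻¹ * T.D.z * m with hz'
  have hz'c : z' * (g⁻¹ * e * g) = g⁻¹ * e * g * z' := by
    have h := T.D.Q_z _ hmQ
    calc m⁻¹ * T.D.z * m * (g⁻¹ * e * g) = m⁻¹ * (T.D.z * (m * (g⁻¹ * e * g) * m⁻¹)) * m := by group
      _ = m⁻¹ * (m * (g⁻¹ * e * g) * m⁻¹ * T.D.z) * m := by rw [h]
      _ = _ := by rw [hz']; group
  have h1 : g * z' * g⁻¹ ∈ T.M := hC (mem_centralizer_singleton_iff.2 (by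
    calc g * z' * g⁻¹ * e = g * (z' * (g⁻¹ * e * g)) * g⁻¹ := by group
      _ = g * (g⁻¹ * e * g * z') * g⁻¹ := by rw [hz'c]
      _ = _ := by group))
  have hgood := T.good_conj_z h1 (isConj_iff.2 ⟨g * m⁻¹, by rw [hz']; group⟩)
  refine hgood.2 g ?_
  rw [show g⁻¹ * (g * z' * g⁻¹) * g = z' by group]
  exact mul_mem (mul_mem (inv_mem hm) T.good_z.1) hm

/-- The two planes are the intersections of cores. -/
theorem hplane : ∀ g : G, g * T.D.z * g⁻¹ ∈ T.D.Q → g * T.D.z * g⁻¹ ∉ T.D.Zc →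
    ∀ q ∈ T.D.Q, q ∈ (T.D.conj g).Q → dt (T.S.F.cd q) = 0 := by
  intro g h1 h2 q hq hq'
  rcases T.S.conj_in_Q h1 h2 (isConj_iff.2 ⟨g, rfl⟩) with h | h
  · have h3 := ((T.S.inter_cores ⟨h1, h⟩ h2).le ⟨hq, hq'⟩).2
    generalize T.S.F.cd q = v at h3
    obtain ⟨a, b, c, d⟩ := v
    obtain ⟨rfl, rfl⟩ : c = 0 ∧ d = 0 := Prod.mk.inj h3
    simp [dt]
  · obtain ⟨k1, k2⟩ := T.inter2 g h1 h2 h q hq hq'
    rw [dt, k1, k2]; ring

theorem cent_nonpure {q : G} (hq : T.S.Nonpure q) : centralizer ({q} : Set G) ≤ T.D.Q :=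
  T.S.centW T.hplane hq

theorem good_nonpure {q : G} (hq : T.S.Nonpure q) : GoodIn T.M q :=
  T.good_of_cent (T.core_le_M hq.1) (T.D.Q_exp _ hq.1) ((T.cent_nonpure hq).trans T.core_le_M)

end Two

end CfsgLib.L43Rec
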