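import Cfsg.Agent.Lib.L43Rec.TwoCent

/-!
The centralizer of an involution in SL(4,3), by blocks.
-/

set_option autoImplicit false

namespace CfsgLib.L43Rec

open Matrix

theorem bd_det (a b : SL23) :
    (!![a.1 0 0, a.1 0 1, 0, 0; a.1 1 0, a.1 1 1, 0, 0; 0, 0, b.1 0 0, b.1 0 1; 0, 0, b.1 1 0, b.1 1 1] :
      Matrix (Fin 4) (Fin 4) (ZMod 3)).det = 1 := by
  have ha := a.2
  have hb := b.2
  rw [Matrix.det_fin_two] at ha hb
  rw [Matrix.det_succ_row_zero]
  simp [Fin.sum_univ_succ, Matrix.det_fin_three, Fin.succAbove]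
  linear_combination (b.1 0 0 * b.1 1 1 - b.1 0 1 * b.1 1 0) * ha + hb

/-- The block diagonal embedding. -/
def bd : SL23 × SL23 →* SL43 where
  toFun a := ⟨!![a.1.1 0 0, a.1.1 0 1, 0, 0; a.1.1 1 0, a.1.1 1 1, 0, 0; 0, 0, a.2.1 0 0, a.2.1 0 1;
    0, 0, a.2.1 1 0, a.2.1 1 1], bd_det _ _⟩
  map_one' := by
    refine Subtype.ext ?_
    ext i j
    fin_cases i <;> fin_cases j <;> simp
  map_mul' a b := by
    refine Subtype.ext ?_
    refine Eq.trans ?_ (Matrix.SpecialLinearGroup.coe_mul _ _).symm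
    ext i j
    fin_cases i <;> fin_cases j <;> simp [Matrix.mul_apply, Fin.sum_univ_four, Fin.sum_univ_two]

theorem bd_val (a : SL23 × SL23) : (bd a).1 = !![a.1.1 0 0, a.1.1 0 1, 0, 0; a.1.1 1 0, a.1.1 1 1, 0, 0;
    0, 0, a.2.1 0 0, a.2.1 0 1; 0, 0, a.2.1 1 0, a.2.1 1 1] := rfl

theorem bd_inj : Function.Injective bd := by
  rintro ⟨a, b⟩ ⟨a', b'⟩ e
  have e' := congrArg Subtype.val e
  refine Prod.ext (Subtype.ext ?_) (Subtype.ext ?_) <;> ext i j <;> fin_cases i <;> fin_cases j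
  exacts [congrFun (congrFun e' 0) 0, congrFun (congrFun e' 0) 1, congrFun (congrFun e' 1) 0,
    congrFun (congrFun e' 1) 1, congrFun (congrFun e' 2) 2, congrFun (congrFun e' 2) 3, congrFun (congrFun e' 3) 2,
    congrFun (congrFun e' 3) 3]

/-- The outer diagonal element. -/
def d4 : SL43 := ⟨!![1, 0, 0, 0; 0, -1, 0, 0; 0, 0, 1, 0; 0, 0, 0, -1], by decide +kernel⟩

/-- The block exchange. -/
def sw4 : SL43 := ⟨!![0, 0, 1, 0; 0, 0, 0, 1; 1, 0, 0, 0; 0, 1, 0, 0], by decide +kernel⟩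

/-- The representatives. -/
def cs : Bool → Bool → SL43
  | false, false => 1
  | true, false => d4
  | false, true => sw4
  | true, true => d4 * sw4

theorem cs_facts : d4 * d4 = 1 ∧ sw4 * sw4 = 1 ∧ d4 * sw4 = sw4 * d4 ∧
    d4 * ns0 = ns0 * d4 ∧ sw4 * ns0 = ng4 * ns0 * sw4 ∧ ns0 * ns0 = 1 ∧ ng4 * ng4 = 1 ∧
    bd (-1, 1) = ns0 ∧ bd (-1, -1) = ng4 ∧ bd (1, -1) = ng4 * ns0 := by decide +kernel

theorem ng4_comm (g : SL43) : ng4 * g = g * ng4 := by
  refine Subtype.ext ?_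
  show (-1 : Matrix (Fin 4) (Fin 4) (ZMod 3)) * g.1 = g.1 * -1
  simp

theorem sw4_bd (a b : SL23) : sw4 * bd (a, b) = bd (b, a) * sw4 := by
  refine Subtype.ext ?_
  rw [Matrix.SpecialLinearGroup.coe_mul, Matrix.SpecialLinearGroup.coe_mul, bd_val, bd_val]
  ext i j
  fin_cases i <;> fin_cases j <;> simp [sw4, Matrix.mul_apply, Fin.sum_univ_four]

theorem flip_val (a : SL23) : (flipEquiv a).1 = !![a.1 0 0, -a.1 0 1; -a.1 1 0, a.1 1 1] := rfl

theorem d4_bd (a b : SL23) : d4 * bd (a, b) = bd (flipEquiv a, flipEquiv b) * d4 := by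
  refine Subtype.ext ?_
  rw [Matrix.SpecialLinearGroup.coe_mul, Matrix.SpecialLinearGroup.coe_mul, bd_val, bd_val]
  ext i j
  fin_cases i <;> fin_cases j <;> simp [d4, flip_val, Matrix.mul_apply, Fin.sum_univ_four]

theorem flip_flip (a : SL23) : flipEquiv (flipEquiv a) = a := flipEquiv.left_inv a

theorem ns0_bd (a b : SL23) : ns0 * bd (a, b) = bd (a, b) * ns0 := by
  rw [← cs_facts.2.2.2.2.2.2.2.1, ← map_mul, ← map_mul]
  refine congrArg bd (Prod.ext ?_ ?_) <;> refine Subtype.ext ?_ <;> simp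

theorem pm_one : ∀ x : ZMod 3, x * x = 1 → x = 1 ∨ x = -1 := by decide

/-- The centralizer of the involution in SL(4,3), up to sign. -/
theorem block_cases {g : SL43} (h : g * ns0 = ns0 * g ∨ g * ns0 = ng4 * ns0 * g) :
    ∃ v : SL23 × SL23, ∃ i j : Bool, g = bd v * cs i j := by
  have main : ∀ g : SL43, g * ns0 = ns0 * g → ∃ v : SL23 × SL23, ∃ i : Bool, g = bd v * cs i false := by
    intro g hg
    have h' : g.1 * ns0.1 = ns0.1 * g.1 := congrArg Subtype.val hg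
    have e02 := congrFun (congrFun h' 0) 2
    have e03 := congrFun (congrFun h' 0) 3
    have e12 := congrFun (congrFun h' 1) 2
    have e13 := congrFun (congrFun h' 1) 3
    have e20 := congrFun (congrFun h' 2) 0
    have e21 := congrFun (congrFun h' 2) 1
    have e30 := congrFun (congrFun h' 3) 0
    have e31 := congrFun (congrFun h' 3) 1
    simp [ns0, Matrix.mul_apply, Fin.sum_univ_four] at e02 e03 e12 e13 e20 e21 e30 e31
    have key : ∀ x : ZMod 3, (x = -x → x = 0) ∧ (-x = x → x = 0) := by decide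
    have k02 : g.1 0 2 = 0 := by first | exact (key _).1 e02 | exact (key _).2 e02
    have k03 : g.1 0 3 = 0 := by first | exact (key _).1 e03 | exact (key _).2 e03
    have k12 : g.1 1 2 = 0 := by first | exact (key _).1 e12 | exact (key _).2 e12
    have k13 : g.1 1 3 = 0 := by first | exact (key _).1 e13 | exact (key _).2 e13
    have k20 : g.1 2 0 = 0 := by first | exact (key _).1 e20 | exact (key _).2 e20
    have k21 : g.1 2 1 = 0 := by first | exact (key _).1 e21 | exact (key _).2 e21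
    have k30 : g.1 3 0 = 0 := by first | exact (key _).1 e30 | exact (key _).2 e30
    have k31 : g.1 3 1 = 0 := by first | exact (key _).1 e31 | exact (key _).2 e31
    have hd := g.2
    rw [Matrix.det_succ_row_zero] at hd
    simp [Fin.sum_univ_succ, Matrix.det_fin_three, Fin.succAbove, k02, k03, k12, k13, k20, k21, k30, k31] at hd
    set a := g.1 0 0 * g.1 1 1 - g.1 0 1 * g.1 1 0 with ha
    set b := g.1 2 2 * g.1 3 3 - g.1 2 3 * g.1 3 2 with hb
    have hab : a * b = 1 := by rw [ha, hb]; linear_combination hd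
    have key2 : ∀ a b : ZMod 3, a * b = 1 → (a = 1 ∧ b = 1) ∨ (a = -1 ∧ b = -1) := by decide
    rcases key2 a b hab with ⟨h1, h2⟩ | ⟨h1, h2⟩
    · refine ⟨(⟨!![g.1 0 0, g.1 0 1; g.1 1 0, g.1 1 1], by rw [Matrix.det_fin_two]; simpa [ha] using h1⟩,
        ⟨!![g.1 2 2, g.1 2 3; g.1 3 2, g.1 3 3], by rw [Matrix.det_fin_two]; simpa [hb] using h2⟩), false, ?_⟩
      rw [show cs false false = 1 from rfl, mul_one]
      refine Subtype.ext ?_
      rw [bd_val]
      ext i j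
      fin_cases i <;> fin_cases j <;> simp [k02, k03, k12, k13, k20, k21, k30, k31]
    · refine ⟨(⟨!![g.1 0 0, -g.1 0 1; g.1 1 0, -g.1 1 1], by
          rw [Matrix.det_fin_two]; simp; linear_combination -h1⟩,
        ⟨!![g.1 2 2, -g.1 2 3; g.1 3 2, -g.1 3 3], by rw [Matrix.det_fin_two]; simp; linear_combination -h2⟩),
        true, ?_⟩
      refine Subtype.ext ?_
      rw [show cs true false = d4 from rfl, Matrix.SpecialLinearGroup.coe_mul, bd_val]
      ext i j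
      fin_cases i <;> fin_cases j <;>
        simp [d4, Matrix.mul_apply, Fin.sum_univ_four, k02, k03, k12, k13, k20, k21, k30, k31]
  rcases h with h | h
  · obtain ⟨v, i, e⟩ := main g h; exact ⟨v, i, false, e⟩
  · obtain ⟨v, i, e⟩ := main (g * sw4) (by
      rw [mul_assoc, cs_facts.2.2.2.2.1, ← mul_assoc, ← mul_assoc, ← ng4_comm g, mul_assoc ng4, h, ← mul_assoc ng4,
        ← mul_assoc ng4, cs_facts.2.2.2.2.2.2.1, one_mul, mul_assoc])
    refine ⟨v, i, true, ?_⟩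
    have e' : g = bd v * cs i false * sw4 := by rw [← e, mul_assoc, cs_facts.2.1, mul_one]
    rw [e', mul_assoc]
    congr 1
    cases i
    · exact one_mul _
    · rfl

/-- Lying in the quaternion group. -/
def IsQ (a : SL23) : Prop := a * a * a * a = 1

instance (a : SL23) : Decidable (IsQ a) := by unfold IsQ; infer_instance

theorem Q_facts : (∀ a b : SL23, IsQ a → IsQ b → IsQ (a * b)) ∧ (∀ a : SL23, IsQ a → IsQ a⁻¹) ∧
    (∀ a : SL23, IsQ a → IsQ (flipEquiv a) ∧ (∀ v : SL23, IsQ (v * a * v⁻¹))) ∧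
    (∀ a : SL23, IsQ a → a = 1 ∨ a = -1 ∨ a * a = -1) ∧ (∀ a : SL23, a ^ 8 = 1 → IsQ a) := by decide +kernel

theorem Q_orbit : ∀ a : SL23, a * a = -1 → ∃ x : SL23, x * a = mI * x := by decide +kernel

theorem Q_two : ∀ a : SL23, IsQ a → ∃ x y : SL23, x * x = -1 ∧ y * y = -1 ∧ a = x * y := by decide +kernel

theorem d_sq : ∀ a : SL23, (a * flipEquiv a = 1 → ∃ x : SL23, x * a = flipEquiv x) ∧ a * flipEquiv a ≠ -1 := by
  decide +kernel

theorem cent_Q : ∀ a : SL23, a * mI = mI * a → a * mJ = mJ * a → a = 1 ∨ a = -1 := by decide +kernel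

theorem cent_Q_flip : ∀ a : SL23, ¬(a * flipEquiv mI = mI * a ∧ a * flipEquiv mJ = mJ * a) := by decide +kernel

theorem aut_Q : ∀ A B : SL23, A * A = -1 → B * B = -1 → A * B ≠ B * A →
    (∃ W : SL23, W * mI * W⁻¹ = A ∧ W * mJ * W⁻¹ = B) ∨
      (∃ W : SL23, W * flipEquiv mI * W⁻¹ = A ∧ W * flipEquiv mJ * W⁻¹ = B) := by decide +kernel

theorem aut_odd : ∀ W : SL23, ¬(W * flipEquiv W * W * flipEquiv mI = mI * (W * flipEquiv W * W) ∧
    W * flipEquiv W * W * flipEquiv mJ = mJ * (W * flipEquiv W * W)) := by decide +kernel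

theorem norm_U : ∀ a : SL23, (∃ i : ZMod 3, a * Par.upW 1 = Par.upW i * a ∨ a * Par.upW 1 = -1 * Par.upW i * a) →
    a * Par.upW 1 = Par.upW 1 * a := by decide +kernel

theorem U_moves : ∀ i : ZMod 3, Par.upW i * mI = mI * Par.upW i → i = 0 := by decide +kernel

/-- The reference element squaring to the scalar. -/
def sI : SL43 := bd (mI, mI)

theorem class_witness : (∃ m : SL43, m * sw4 = ns0 * m) ∧ (∃ m : SL43, m * (d4 * sw4) = ns0 * m) ∧
    (∃ m : SL43, m * d4 = ns0 * m) ∧ (∃ m : SL43, m * (d4 * ns0) = ns0 * m) ∧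
    (∃ m : SL43, m * (sw4 * ns0) = sI * m) ∧ (∃ m : SL43, m * (d4 * sw4 * ns0) = sI * m) := by
  refine ⟨⟨⟨!![1, 0, -1, 0; 0, 1, 0, -1; 1, 0, 1, 0; 0, 1, 0, 1], by decide +kernel⟩, by decide +kernel⟩,
    ⟨⟨!![-1, 0, 1, 0; 0, 1, 0, 1; 1, 0, 1, 0; 0, 1, 0, -1], by decide +kernel⟩, by decide +kernel⟩,
    ⟨⟨!![0, -1, 0, 0; 0, 0, 0, 1; 1, 0, 0, 0; 0, 0, 1, 0], by decide +kernel⟩, by decide +kernel⟩,
    ⟨⟨!![1, 0, 0, 0; 0, 0, 0, 1; 0, 1, 0, 0; 0, 0, 1, 0], by decide +kernel⟩, by decide +kernel⟩,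
    ⟨⟨!![1, 0, 0, 0; 0, 0, -1, 0; 0, 1, 0, 1; 0, 1, 0, -1], by decide +kernel⟩, by decide +kernel⟩,
    ⟨⟨!![1, 0, 0, 0; 0, 0, -1, 0; 0, 1, 0, 0; 0, 0, 0, 1], by decide +kernel⟩, by decide +kernel⟩⟩

/-- The elements of order three commuting with the reference element. -/
def xs (a b : ZMod 3) : Ph0 := cel 0 a (-b) a 0 (Par.upW b)

theorem xs_facts : (∀ a b a' b' : ZMod 3, (xs a b * xs a' b').1.1 = (xs (a + a') (b + b')).1.1) ∧
    (∀ a b : ZMod 3, (xs a b).1.1 * sI.1 = sI.1 * (xs a b).1.1) ∧ (xs 0 0).1.1 = 1 := by decide +kernel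

theorem xs_det : ∀ a b : ZMod 3, a * a - -b * b = 0 → a = 0 ∧ b = 0 := by decide

theorem bd_up : ∀ i : ZMod 3, (bd (Par.upW i, 1)).1 = (cel i 0 0 0 0 1).1.1 := by decide +kernel

theorem Q_gen : ∀ a : SL23, IsQ a → ∃ i : Fin 4, ∃ j : Fin 2, a = mI ^ i.val * mJ ^ j.val := by decide +kernel

theorem mI_split : ∃ x y : SL23, x * x * x = 1 ∧ y * y * y = 1 ∧ mI = x * y := by decide +kernel

theorem pow24 : ∀ a : SL23, a ^ 24 = 1 := by decide +kernel

theorem cs_mul : ∀ i j k l : Bool, cs i j * cs k l = cs (xor i k) (xor j l) := by decide +kernel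

/-- The action of the representatives on the pairs. -/
def tw (i j : Bool) (v : SL23 × SL23) : SL23 × SL23 :=
  let w := if j then (v.2, v.1) else v
  if i then (flipEquiv w.1, flipEquiv w.2) else w

theorem cs_bd (i j : Bool) (v : SL23 × SL23) : cs i j * bd v = bd (tw i j v) * cs i j := by
  obtain ⟨a, b⟩ := v
  cases i <;> cases j <;> simp only [cs, tw, Bool.false_eq_true, if_false, if_true, one_mul, mul_one]
  · exact sw4_bd a b
  · exact d4_bd a b
  · rw [mul_assoc, sw4_bd, ← mul_assoc, d4_bd, mul_assoc]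

theorem tw_Q {v : SL23 × SL23} (h : IsQ v.1 ∧ IsQ v.2) (i j : Bool) : IsQ (tw i j v).1 ∧ IsQ (tw i j v).2 := by
  obtain ⟨a, b⟩ := v
  cases i <;> cases j <;> simp only [tw, Bool.false_eq_true, if_false, if_true]
  exacts [h, ⟨h.2, h.1⟩, ⟨(Q_facts.2.2.1 a h.1).1, (Q_facts.2.2.1 b h.2).1⟩,
    ⟨(Q_facts.2.2.1 b h.2).1, (Q_facts.2.2.1 a h.1).1⟩]

theorem bd_neg (v : SL23 × SL23) : bd (-v.1, -v.2) = ng4 * bd v := by
  rw [← cs_facts.2.2.2.2.2.2.2.2.1, ← map_mul]
  refine congrArg bd (Prod.ext ?_ ?_) <;> simp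

end CfsgLib.L43Rec
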