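import Cfsg.Agent.Lib.L43Rec.TwoAll
import Cfsg.Agent.Lib.L43Rec.TwoInvModel
import Cfsg.Agent.Lib.CoprimeGen

/-!
The centralizer of an involution: the three-subgroups, and the normalizer of the normal two-subgroup.
-/

set_option autoImplicit false

namespace CfsgLib.L43Rec

open Subgroup Matrix CfsgLib.GoodPairs

universe u

theorem hom_eq_one {A B : Type*} [Group A] [Group B] (f : A →* B) {x y : A} (h : f x = f y) : f (x * y⁻¹) = 1 := by
  rw [map_mul, map_inv, h, mul_inv_cancel]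

namespace Two

variable {G : Type u} [Group G] (T : Two G)

/-- The block subgroup. -/
noncomputable def e2 : SL23 × SL23 →* G := T.μ.comp bd

/-- The involution. -/
noncomputable abbrev t : G := T.μ ns0

/-- Its centralizer. -/
noncomputable abbrev H : Subgroup G := centralizer ({T.t} : Set G)

/-- The representatives. -/
noncomputable abbrev c (i j : Bool) : G := T.μ (cs i j)

/-- The block image. -/
noncomputable abbrev K0 : Subgroup G := T.e2.range

/-- The pairs from the quaternion groups. -/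
def QQ : Subgroup (SL23 × SL23) where
  carrier := {v | IsQ v.1 ∧ IsQ v.2}
  one_mem' := ⟨by decide +kernel, by decide +kernel⟩
  mul_mem' ha hb := ⟨Q_facts.1 _ _ ha.1 hb.1, Q_facts.1 _ _ ha.2 hb.2⟩
  inv_mem' ha := ⟨Q_facts.2.1 _ ha.1, Q_facts.2.1 _ ha.2⟩

/-- The normal two-subgroup. -/
noncomputable abbrev E : Subgroup G := QQ.map T.e2

/-- The three-subgroup. -/
noncomputable def τ : Multiplicative (ZMod 3 × ZMod 3) →* G :=
  T.e2.comp (MonoidHom.mk' (fun a => (Par.upW a.toAdd.1, Par.upW a.toAdd.2))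
    (fun a b => Prod.ext (upW_mul _ _).symm (upW_mul _ _).symm))

/-- Its image. -/
noncomputable abbrev T9 : Subgroup G := T.τ.range

/-- The reference element of order three. -/
noncomputable abbrev r : G := T.e2 (Par.upW 1, 1)

theorem e2_neg (v : SL23 × SL23) : T.e2 (-v.1, -v.2) = T.e2 v := by
  show T.μ (bd _) = T.μ (bd v)
  rw [bd_neg, map_mul, T.μ_neg, one_mul]

theorem e2_one {v : SL23 × SL23} : T.e2 v = 1 ↔ v = 1 ∨ v = (-1, -1) := by
  constructor
  · intro h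
    rcases T.μ_eq_one.1 h with e | e
    · exact Or.inl (bd_inj (e.trans (map_one bd).symm))
    · exact Or.inr (bd_inj (e.trans cs_facts.2.2.2.2.2.2.2.2.1.symm))
  · rintro (rfl | rfl)
    · exact map_one _
    · exact (T.e2_neg 1).trans (map_one _)

theorem e2_eq {v w : SL23 × SL23} : T.e2 v = T.e2 w ↔ v = w ∨ v = (-w.1, -w.2) := by
  constructor
  · intro h
    rcases T.e2_one.1 (show T.e2 (v * w⁻¹) = 1 by rw [map_mul, map_inv, h, mul_inv_cancel]) with e | e
    · exact Or.inl (mul_inv_eq_one.1 e)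
    · refine Or.inr ?_
      rw [mul_inv_eq_iff_eq_mul] at e
      rw [e]
      exact Prod.ext (neg_one_mul w.1) (neg_one_mul w.2)
  · rintro (rfl | rfl)
    · rfl
    · exact T.e2_neg w

theorem t_eq : T.t = T.e2 (-1, 1) := by
  show T.μ ns0 = T.μ (bd _); rw [cs_facts.2.2.2.2.2.2.2.1]

theorem t_eq' : T.t = T.e2 (1, -1) := by
  rw [T.t_eq, ← T.e2_neg (-1, 1)]
  simp

theorem t_sq : T.t * T.t = 1 := by rw [← map_mul, cs_facts.2.2.2.2.2.1, map_one]

theorem t_ne : T.t ≠ 1 := fun h => by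
  rw [T.t_eq, T.e2_one] at h
  rcases h with h | h
  · exact absurd (congrArg (fun v : SL23 × SL23 => v.1) h) (show (-1 : SL23) ≠ 1 by decide +kernel)
  · exact absurd (congrArg (fun v : SL23 × SL23 => v.2) h) (show (1 : SL23) ≠ -1 by decide +kernel)

theorem e2_H (v : SL23 × SL23) : T.e2 v ∈ T.H := by
  rw [mem_centralizer_singleton_iff]
  show T.μ (bd v) * T.μ ns0 = T.μ ns0 * T.μ (bd v)
  rw [← map_mul, ← map_mul, ns0_bd v.1 v.2]

theorem e2_M (v : SL23 × SL23) : T.e2 v ∈ T.M := ⟨_, rfl⟩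

theorem c_M (i j : Bool) : T.c i j ∈ T.M := ⟨_, rfl⟩

theorem c_H (i j : Bool) : T.c i j ∈ T.H := by
  obtain ⟨-, -, -, h4, h5, -⟩ := cs_facts
  have hd : T.μ d4 * T.t = T.t * T.μ d4 := by rw [← map_mul, ← map_mul, h4]
  have hs : T.μ sw4 * T.t = T.t * T.μ sw4 := by
    rw [← map_mul, ← map_mul, h5, map_mul, map_mul, T.μ_neg, one_mul, map_mul]
  rw [mem_centralizer_singleton_iff]
  cases i <;> cases j
  · show T.μ 1 * _ = _ * T.μ 1; simp
  · exact hs
  · exact hd
  · show T.μ (d4 * sw4) * _ = _ * T.μ (d4 * sw4)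
    rw [map_mul]
    exact ((show Commute _ _ from hd).mul_left hs).eq

theorem c_mul (i j k l : Bool) : T.c i j * T.c k l = T.c (xor i k) (xor j l) := by rw [← map_mul, cs_mul]

theorem c_one : T.c false false = 1 := map_one _

theorem c_sq (i j : Bool) : T.c i j * T.c i j = 1 := by rw [c_mul, Bool.xor_self, Bool.xor_self, c_one]

theorem c_e2 (i j : Bool) (v : SL23 × SL23) : T.c i j * T.e2 v = T.e2 (tw i j v) * T.c i j := by
  show T.μ _ * T.μ _ = T.μ _ * T.μ _
  rw [← map_mul, ← map_mul, cs_bd]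

theorem H_cases {g : G} (hg : g ∈ T.H) (hM : g ∈ T.M) : ∃ v : SL23 × SL23, ∃ i j : Bool, g = T.e2 v * T.c i j := by
  obtain ⟨m, rfl⟩ := hM
  have gen : ∀ x y : SL43, T.μ x = T.μ y → x = y ∨ x = ng4 * y := fun x y h => by
    rcases T.μ_eq_one.1 (hom_eq_one T.μ h) with e | e
    · exact Or.inl (mul_inv_eq_one.1 e)
    · exact Or.inr (mul_inv_eq_iff_eq_mul.1 e)
  have h : T.μ (m * ns0) = T.μ (ns0 * m) :=
    (map_mul T.μ m ns0).trans ((mem_centralizer_singleton_iff.1 hg).trans (map_mul T.μ ns0 m).symm)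
  obtain ⟨v, i, j, e⟩ := block_cases (g := m) ((gen _ _ h).imp id fun e => e.trans (mul_assoc _ _ _).symm)
  exact ⟨v, i, j, by rw [e, map_mul]; rfl⟩

/-- An element of odd order is in the block image. -/
theorem odd_K0 {g : G} (hg : g ∈ T.H) (hM : g ∈ T.M) {n : ℕ} (hn : Odd n) (hgn : g ^ n = 1) : g ∈ T.K0 := by
  obtain ⟨v, i, j, e⟩ := T.H_cases hg hM
  have h2 : g ^ 2 ∈ T.K0 := by
    refine ⟨v * tw i j v, ?_⟩
    rw [pow_two, e, map_mul]
    calc T.e2 v * T.e2 (tw i j v) = T.e2 v * (T.e2 (tw i j v) * T.c i j) * T.c i j := by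
          rw [mul_assoc, mul_assoc, T.c_sq, mul_one]
      _ = _ := by rw [← T.c_e2]; group
  obtain ⟨k, rfl⟩ := hn
  have : g = (g ^ 2) ^ (k + 1) := by
    rw [← pow_mul, show 2 * (k + 1) = (2 * k + 1) + 1 by ring, pow_succ, hgn, one_mul]
  rw [this]
  exact pow_mem h2 _

theorem τ_inj : Function.Injective T.τ := by
  rw [injective_iff_map_eq_one]
  intro a ha
  have key : ∀ x : ZMod 3, (Par.upW x = 1 → x = 0) ∧ Par.upW x ≠ -1 := by decide +kernel
  rcases T.e2_one.1 ha with e | e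
  · exact Multiplicative.toAdd.injective (Prod.ext ((key _).1 (Prod.mk.inj e).1) ((key _).1 (Prod.mk.inj e).2))
  · exact absurd (Prod.mk.inj e).1 (key _).2

theorem card_T9 : Nat.card T.T9 = 9 := by
  rw [← Nat.card_congr (MonoidHom.ofInjective T.τ_inj).toEquiv, Nat.card_congr Multiplicative.toAdd,
    Nat.card_prod, Nat.card_zmod]

theorem T9_le : T.T9 ≤ T.H ⊓ T.M := by
  rintro _ ⟨a, rfl⟩
  exact ⟨T.e2_H _, T.e2_M _⟩

theorem T9_three {x : G} (hx : x ∈ T.T9) : x ^ 3 = 1 := by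
  obtain ⟨a, rfl⟩ := hx
  rw [← map_pow, show a ^ 3 = 1 from Multiplicative.toAdd.injective (by
    rw [toAdd_pow, toAdd_one]
    generalize a.toAdd = p
    revert p
    decide), map_one]

theorem T9_comm {x y : G} (hx : x ∈ T.T9) (hy : y ∈ T.T9) : x * y = y * x := by
  obtain ⟨a, rfl⟩ := hx
  obtain ⟨b, rfl⟩ := hy
  rw [← map_mul, ← map_mul, mul_comm]

theorem r_T9 : T.r ∈ T.T9 :=
  ⟨Multiplicative.ofAdd (1, 0), congrArg T.e2 (Prod.ext rfl upW_zero)⟩

theorem r_ne : T.r ≠ 1 := fun h => by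
  rcases T.e2_one.1 h with e | e
  · exact absurd (Prod.mk.inj e).1 (by decide +kernel)
  · exact absurd (Prod.mk.inj e).1 (by decide +kernel)

theorem T9_norm_E : T.T9 ≤ normalizer (T.E : Set G) := by
  rintro _ ⟨a, rfl⟩
  have key : ∀ (v : SL23 × SL23) (x : G), x ∈ T.E → T.e2 v * x * (T.e2 v)⁻¹ ∈ T.E := by
    rintro v _ ⟨w, hw, rfl⟩
    refine ⟨v * w * v⁻¹, ⟨(Q_facts.2.2.1 _ hw.1).2 _, (Q_facts.2.2.1 _ hw.2).2 _⟩, ?_⟩
    rw [map_mul, map_mul, map_inv]
  refine mem_normalizer_iff.2 fun x => ⟨key _ x, fun hx => ?_⟩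
  have := key (Par.upW a.toAdd.1, Par.upW a.toAdd.2)⁻¹ _ hx
  rw [map_inv, inv_inv, show T.τ a = T.e2 (Par.upW a.toAdd.1, Par.upW a.toAdd.2) from rfl] at this
  rwa [show (T.e2 (Par.upW a.toAdd.1, Par.upW a.toAdd.2))⁻¹ * (T.e2 (Par.upW a.toAdd.1, Par.upW a.toAdd.2) * x *
    (T.e2 (Par.upW a.toAdd.1, Par.upW a.toAdd.2))⁻¹) * T.e2 (Par.upW a.toAdd.1, Par.upW a.toAdd.2) = x by group] at this

variable [Finite G]

theorem good_T9 {x : G} (hx : x ∈ T.T9) (hx1 : x ≠ 1) : GoodIn T.M x :=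
  T.good3 (T.T9_le hx).2 (T.T9_three hx) hx1

/-- Three-subgroups of the centralizer containing the reference element. -/
theorem three_K0 {X : Subgroup G} (hX : IsPGroup 3 X) (hXH : X ≤ T.H) (hr : T.r ∈ X) :
    X ≤ T.K0 ∧ Nat.card X ≤ 9 := by
  haveI : Fact (Nat.Prime 3) := ⟨Nat.prime_three⟩
  have hM := T.three_le_M hX hr (T.e2_M _) (T.T9_three T.r_T9) T.r_ne
  have h0 : X ≤ T.K0 := fun x hx => by
    obtain ⟨k, hk⟩ := hX ⟨x, hx⟩
    exact T.odd_K0 (hXH hx) (hM hx) (Odd.pow (by decide : Odd 3)) (congrArg Subtype.val hk)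
  refine ⟨h0, ?_⟩
  obtain ⟨k, hk⟩ := IsPGroup.iff_card.1 hX
  have h1 : Nat.card X ∣ Nat.card (SL23 × SL23) :=
    (card_dvd_of_le h0).trans (card_range_dvd T.e2)
  rw [Nat.card_prod, show Nat.card SL23 = 24 by rw [Nat.card_eq_fintype_card]; decide +kernel, hk] at h1
  rw [hk]
  rcases Nat.lt_or_ge k 3 with h | h
  · calc 3 ^ k ≤ 3 ^ 2 := Nat.pow_le_pow_right (by norm_num) (by omega)
      _ = 9 := by norm_num
  · exact absurd ((pow_dvd_pow 3 h).trans h1) (by norm_num)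

/-- The three-part of the centralizer. -/
theorem not_27 {X : Subgroup G} (hX : X ≤ T.H) : ¬ 27 ∣ Nat.card X ∨ ¬ T.T9 ≤ X := by
  by_contra h
  push Not at h
  obtain ⟨h27, hT⟩ := h
  haveI : Fact (Nat.Prime 3) := ⟨Nat.prime_three⟩
  obtain ⟨P, hP⟩ := IsPGroup.exists_le_sylow (G := X) (P := T.T9.subgroupOf X) (p := 3) (IsPGroup.of_card (n := 2) (by
    rw [Nat.card_congr (subgroupOfEquivOfLe hT).toEquiv, T.card_T9]; norm_num))
  have h3 : 27 ∣ Nat.card P := by
    have := P.pow_dvd_card_of_pow_dvd_card (n := 3) (by simpa using h27)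
    simpa using this
  have hle := (T.three_K0 (X := (P : Subgroup X).map X.subtype) (P.isPGroup'.map _) ((map_subtype_le _).trans hX)
    ⟨⟨T.r, hT T.r_T9⟩, hP (mem_subgroupOf.2 T.r_T9), rfl⟩).2
  rw [card_map_of_injective X.subtype_injective] at hle
  have := Nat.le_of_dvd Nat.card_pos h3
  omega

/-- Subgroups normalized by the three-subgroup of order prime to three. -/
theorem coprime_le_M {W : Subgroup G} (hW : T.T9 ≤ normalizer (W : Set G)) (h3 : ¬ 3 ∣ Nat.card W) : W ≤ T.M := by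
  haveI : IsMulCommutative T.T9 := ⟨⟨fun a b => Subtype.ext (T.T9_comm a.2 b.2)⟩⟩
  have hnc : ¬ IsCyclic T.T9 := by
    intro hc
    have h := hc.exponent_eq_card
    have he : Monoid.exponent T.T9 ∣ 3 :=
      Monoid.exponent_dvd_of_forall_pow_eq_one fun x => Subtype.ext (T.T9_three x.2)
    rw [h, T.card_T9] at he
    omega
  rw [← coprime_generated_by_centralizers hnc hW (by
    rw [T.card_T9, show (9 : ℕ) = 3 ^ 2 by norm_num]
    exact Nat.Coprime.pow_left 2 ((Nat.Prime.coprime_iff_not_dvd Nat.prime_three).2 h3))]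
  exact iSup₂_le fun a ha => fun w hw =>
    (T.good_T9 ha.1 ha.2).cent (mem_centralizer_singleton_iff.1 hw.2)

end Two

end CfsgLib.L43Rec
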