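import Cfsg.Agent.Lib.L43Rec.TwoInvA

/-!
The normalizer of the normal two-subgroup of the involution centralizer lies in the subgroup.
-/

set_option autoImplicit false

namespace CfsgLib.L43Rec

open Subgroup Matrix CfsgLib.GoodPairs

universe u

theorem Q_small : IsQ mI ∧ IsQ mJ ∧ IsQ (-1) ∧ IsQ (1 : SL23) ∧ mI * mI = -1 ∧ mJ * mJ = -1 ∧ mI * mJ ≠ mJ * mI ∧
    (-1 : SL23) * -1 = 1 ∧ (-1 : SL23) ≠ 1 := by unfold IsQ; decide +kernel

theorem neg_facts : ∀ a : SL23, (-1 : SL23) * a = a * -1 ∧ flipEquiv (-a) = -flipEquiv a ∧ -a ≠ a ∧ a * -1 = -a := by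
  decide +kernel

namespace Two

variable {G : Type u} [Group G] (T : Two G)

/-- The first factor. -/
noncomputable abbrev i1 : SL23 →* G := T.e2.comp (MonoidHom.inl _ _)

/-- The second factor. -/
noncomputable abbrev i2 : SL23 →* G := T.e2.comp (MonoidHom.inr _ _)

theorem i1_inj : Function.Injective T.i1 := by
  rw [injective_iff_map_eq_one]
  intro a ha
  rcases T.e2_one.1 (show T.e2 (a, 1) = 1 from ha) with e | e
  · exact (Prod.mk.inj e).1
  · exact absurd (Prod.mk.inj e).2 Q_small.2.2.2.2.2.2.2.2.symm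

theorem i2_inj : Function.Injective T.i2 := by
  rw [injective_iff_map_eq_one]
  intro a ha
  rcases T.e2_one.1 (show T.e2 (1, a) = 1 from ha) with e | e
  · exact (Prod.mk.inj e).2
  · exact absurd (Prod.mk.inj e).1 Q_small.2.2.2.2.2.2.2.2.symm

theorem i12_comm (a b : SL23) : T.i1 a * T.i2 b = T.i2 b * T.i1 a := by
  show T.e2 (a, 1) * T.e2 (1, b) = T.e2 (1, b) * T.e2 (a, 1)
  rw [← map_mul, ← map_mul]
  exact congrArg T.e2 (Prod.ext ((mul_one a).trans (one_mul a).symm) ((one_mul b).trans (mul_one b).symm))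

theorem e2_split (a b : SL23) : T.e2 (a, b) = T.i1 a * T.i2 b := by
  show _ = T.e2 (a, 1) * T.e2 (1, b)
  rw [← map_mul]
  exact congrArg T.e2 (Prod.ext (mul_one a).symm (one_mul b).symm)

theorem QQ_first {a : SL23} {b : SL23} (h : (a, b) ∈ QQ) : IsQ a := h.1

theorem i1_E {a : SL23} (h : IsQ a) : T.i1 a ∈ T.E := ⟨(a, 1), ⟨h, Q_small.2.2.2.1⟩, rfl⟩

theorem i2_E {a : SL23} (h : IsQ a) : T.i2 a ∈ T.E := ⟨(1, a), ⟨Q_small.2.2.2.1, h⟩, rfl⟩

theorem E_le_K0 : T.E ≤ T.K0 := by rintro _ ⟨v, -, rfl⟩; exact ⟨v, rfl⟩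

theorem E_cases {g : G} (hg : g ∈ T.E) : ∃ a b, IsQ a ∧ IsQ b ∧ g = T.e2 (a, b) := by
  obtain ⟨⟨a, b⟩, h, rfl⟩ := hg; exact ⟨a, b, h.1, h.2, rfl⟩

theorem cE_le : centralizer (T.E : Set G) ≤ T.H := fun g hg => mem_centralizer_singleton_iff.2
  (mem_centralizer_iff.1 hg T.t (by rw [T.t_eq]; exact ⟨(-1, 1), ⟨Q_small.2.2.1, Q_small.2.2.2.1⟩, rfl⟩)).symm

theorem cE_M {g : G} (hg : g ∈ centralizer (T.E : Set G)) (hM : g ∈ T.M) : g = 1 ∨ g = T.t := by
  obtain ⟨⟨a, b⟩, i, j, rfl⟩ := T.H_cases (T.cE_le hg) hM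
  have hc : ∀ x y, IsQ x → IsQ y → T.e2 ((a, b) * tw i j (x, y)) = T.e2 ((x, y) * (a, b)) := fun x y hx hy => by
    have h := mem_centralizer_iff.1 hg (T.e2 (x, y)) ⟨(x, y), ⟨hx, hy⟩, rfl⟩
    rw [mul_assoc, T.c_e2, ← mul_assoc, ← mul_assoc, ← map_mul, ← map_mul] at h
    exact (mul_right_cancel h).symm
  have key : ∀ x y, IsQ x → IsQ y → (a * (tw i j (x, y)).1 = x * a ∧ b * (tw i j (x, y)).2 = y * b) ∨
      (a * (tw i j (x, y)).1 = -(x * a) ∧ b * (tw i j (x, y)).2 = -(y * b)) := fun x y hx hy => by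
    rcases T.e2_eq.1 (hc x y hx hy) with e | e
    · exact Or.inl (Prod.mk.inj e)
    · exact Or.inr (Prod.mk.inj e)
  obtain ⟨qI, qJ, -, q1, sI', -, hIJ, -, -⟩ := Q_small
  have one_out : ∀ z : SL23, z * 1 = 1 * z ∧ z * 1 ≠ -(1 * z) := fun z => by
    rw [mul_one, one_mul]; exact ⟨rfl, fun h => (neg_facts z).2.2.1 h.symm⟩
  have f1 : flipEquiv 1 = 1 := map_one flipEquiv
  cases j
  · have hA : ∀ x, IsQ x → a * (tw i false (x, 1)).1 = x * a := fun x hx => by
      rcases key x 1 hx q1 with ⟨h, -⟩ | ⟨-, h⟩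
      · exact h
      · exfalso
        cases i
        · exact (one_out b).2 h
        · simp only [tw, Bool.false_eq_true, if_false, if_true, f1] at h
          exact (one_out b).2 h
    have hB : ∀ y, IsQ y → b * (tw i false (1, y)).2 = y * b := fun y hy => by
      rcases key 1 y q1 hy with ⟨-, h⟩ | ⟨h, -⟩
      · exact h
      · exfalso
        cases i
        · exact (one_out a).2 h
        · simp only [tw, Bool.false_eq_true, if_false, if_true, f1] at h
          exact (one_out a).2 h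
    cases i
    · have ha := cent_Q a (hA mI qI) (hA mJ qJ)
      have hb := cent_Q b (hB mI qI) (hB mJ qJ)
      rw [T.c_one, mul_one]
      rcases ha with rfl | rfl <;> rcases hb with rfl | rfl
      · exact Or.inl (map_one _)
      · exact Or.inr T.t_eq'.symm
      · exact Or.inr T.t_eq.symm
      · exact Or.inl (T.e2_one.2 (Or.inr rfl))
    · exact absurd ⟨hA mI qI, hA mJ qJ⟩ (cent_Q_flip a)
  · exfalso
    -- the exchange moves the first factor
    rcases key mI 1 qI q1 with ⟨h, -⟩ | ⟨h, -⟩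
    · cases i
      · have h' : a = mI * a := by simpa [tw] using h
        exact absurd (mul_eq_right.1 h'.symm) (fun e => by rw [e] at hIJ; exact hIJ (by rw [one_mul, mul_one]))
      · have h' : a = mI * a := by simpa [tw, f1] using h
        exact absurd (mul_eq_right.1 h'.symm) (fun e => by rw [e] at hIJ; exact hIJ (by rw [one_mul, mul_one]))
    · have h' : a = -(mI * a) := by
        cases i
        · simpa [tw] using h
        · simpa [tw, f1] using h
      have h2 : (-1 : SL23) * mI = 1 := by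
        refine mul_right_cancel (b := a) ?_
        rw [mul_assoc, neg_one_mul, one_mul]
        exact h'.symm
      have h3 : mI = -1 := by
        rw [← mul_right_inj (-1 : SL23), h2, Q_small.2.2.2.2.2.2.2.1]
      exact hIJ (by rw [h3]; exact (neg_facts mJ).1)

variable [Finite G]

theorem cE_three : ¬ 3 ∣ Nat.card (centralizer (T.E : Set G)) := by
  intro h3
  set C := centralizer (T.E : Set G) with hC
  have hN : T.T9 ≤ normalizer (C : Set G) := T.T9_norm_E.trans (fun g hg => by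
    refine mem_normalizer_iff.2 fun x => ?_
    have key : ∀ g ∈ normalizer (T.E : Set G), ∀ x ∈ C, g * x * g⁻¹ ∈ C := fun g hg x hx => by
      refine mem_centralizer_iff.2 fun e he => ?_
      have he' : g⁻¹ * e * g ∈ T.E := by
        have := (mem_normalizer_iff.1 (inv_mem hg) e).1 he
        rwa [inv_inv] at this
      have h := mem_centralizer_iff.1 hx _ he'
      calc e * (g * x * g⁻¹) = g * ((g⁻¹ * e * g) * x) * g⁻¹ := by group
        _ = g * (x * (g⁻¹ * e * g)) * g⁻¹ := by rw [h]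
        _ = _ := by group
    refine ⟨key g hg x, fun hx => ?_⟩
    have := key g⁻¹ (inv_mem hg) _ hx
    rwa [inv_inv, show g⁻¹ * (g * x * g⁻¹) * g = x by group] at this)
  have hdisj : C ⊓ T.T9 = ⊥ := by
    rw [eq_bot_iff]
    rintro x ⟨hx, a, rfl⟩
    rw [mem_bot]
    have key : ∀ (z : SL23), IsQ z → T.τ a * T.e2 (z, 1) = T.e2 (z, 1) * T.τ a ∧
        T.τ a * T.e2 (1, z) = T.e2 (1, z) * T.τ a := fun z hz =>
      ⟨(mem_centralizer_iff.1 hx _ (T.i1_E hz)).symm, (mem_centralizer_iff.1 hx _ (T.i2_E hz)).symm⟩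
    obtain ⟨k1, k2⟩ := key mI Q_small.1
    have conv : ∀ v w : SL23 × SL23, T.e2 v * T.e2 w = T.e2 w * T.e2 v → v * w = w * v ∨
        v * w = (-(w * v).1, -(w * v).2) := fun v w h => T.e2_eq.1 (by rw [map_mul, map_mul, h])
    have h1 : a.toAdd.1 = 0 := by
      rcases conv (Par.upW a.toAdd.1, Par.upW a.toAdd.2) (mI, 1) k1 with e | e
      · exact U_moves _ (Prod.mk.inj e).1
      · refine absurd (Prod.mk.inj e).2 ?_
        show _ * 1 ≠ -(1 * _)
        rw [mul_one, one_mul]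
        exact fun h => (neg_facts _).2.2.1 h.symm
    have h2 : a.toAdd.2 = 0 := by
      rcases conv (Par.upW a.toAdd.1, Par.upW a.toAdd.2) (1, mI) k2 with e | e
      · exact U_moves _ (Prod.mk.inj e).2
      · refine absurd (Prod.mk.inj e).1 ?_
        show _ * 1 ≠ -(1 * _)
        rw [mul_one, one_mul]
        exact fun h => (neg_facts _).2.2.1 h.symm
    rw [show a = 1 from Multiplicative.toAdd.injective (Prod.ext h1 h2), map_one]
  refine (T.not_27 (X := C ⊔ T.T9) (sup_le T.cE_le (T.T9_le.trans inf_le_left))).elim (fun h => h ?_)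
    (fun h => h le_sup_right)
  have e1 : C.relIndex (C ⊔ T.T9) = 9 := by
    have hCN : C ≤ normalizer (C : Set G) := le_normalizer
    rw [← relIndex_subgroupOf (sup_le hCN hN), subgroupOf_sup hCN hN, relIndex_sup_left, relIndex_subgroupOf hN,
      ← T.card_T9, ← inf_relIndex_right, hdisj, relIndex_bot_left]
  have e2' := relIndex_mul_relIndex ⊥ C (C ⊔ T.T9) bot_le le_sup_left
  rw [relIndex_bot_left, relIndex_bot_left, e1] at e2'
  rw [← e2']
  obtain ⟨k, hk⟩ := h3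
  exact ⟨k, by rw [hk]; ring⟩

theorem cE_cases {g : G} (hg : g ∈ centralizer (T.E : Set G)) : g = 1 ∨ g = T.t :=
  T.cE_M hg (T.coprime_le_M (W := centralizer (T.E : Set G)) (T.T9_norm_E.trans (fun g hg => by
    refine mem_normalizer_iff.2 fun x => ?_
    have key : ∀ g ∈ normalizer (T.E : Set G), ∀ x ∈ centralizer (T.E : Set G),
        g * x * g⁻¹ ∈ centralizer (T.E : Set G) := fun g hg x hx => by
      refine mem_centralizer_iff.2 fun e he => ?_
      have he' : g⁻¹ * e * g ∈ T.E := by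
        have := (mem_normalizer_iff.1 (inv_mem hg) e).1 he
        rwa [inv_inv] at this
      have h := mem_centralizer_iff.1 hx _ he'
      calc e * (g * x * g⁻¹) = g * ((g⁻¹ * e * g) * x) * g⁻¹ := by group
        _ = g * (x * (g⁻¹ * e * g)) * g⁻¹ := by rw [h]
        _ = _ := by group
    refine ⟨key g hg x, fun hx => ?_⟩
    have := key g⁻¹ (inv_mem hg) _ hx
    rwa [inv_inv, show g⁻¹ * (g * x * g⁻¹) * g = x by group] at this)) T.cE_three hg)

omit [Finite G] in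
theorem Q_ext {f g : SL23 →* G} (hI : f mI = g mI) (hJ : f mJ = g mJ) {a : SL23} (ha : IsQ a) : f a = g a := by
  obtain ⟨i, j, rfl⟩ := Q_gen a ha
  rw [map_mul, map_mul, map_pow, map_pow, map_pow, map_pow, hI, hJ]

omit [Finite G] in
/-- Order-four elements of the two-subgroup lie in one factor. -/
theorem order4 {a b : SL23} (ha : IsQ a) (hb : IsQ b) (h : T.e2 (a, b) * T.e2 (a, b) = T.t) :
    (∃ A, A * A = -1 ∧ T.e2 (a, b) = T.i1 A) ∨ ∃ B, B * B = -1 ∧ T.e2 (a, b) = T.i2 B := by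
  rw [← map_mul, T.t_eq, T.e2_eq] at h
  have key : ∀ b : SL23, b * b = 1 → b = 1 ∨ b = -1 := by decide +kernel
  have hn : ∀ a : SL23, -a * -a = a * a := by decide +kernel
  rcases h with h | h <;> obtain ⟨h1, h2⟩ := Prod.mk.inj h
  · rcases key b h2 with rfl | rfl
    · exact Or.inl ⟨a, h1, rfl⟩
    · refine Or.inl ⟨-a, by rw [hn]; exact h1, ?_⟩
      show _ = T.e2 (-a, 1)
      rw [← T.e2_neg (a, -1)]
      simp
  · rcases key a (h1.trans (by simp)) with rfl | rfl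
    · exact Or.inr ⟨b, h2, rfl⟩
    · refine Or.inr ⟨-b, by rw [hn]; exact h2, ?_⟩
      show _ = T.e2 (1, -b)
      rw [← T.e2_neg (-1, b)]
      simp

/-- Preserving the factors. -/
theorem pres_M {g : G} (h1 : ∀ a, IsQ a → ∃ A, g * T.i1 a * g⁻¹ = T.i1 A ∧ IsQ A)
    (h2 : ∀ a, IsQ a → ∃ B, g * T.i2 a * g⁻¹ = T.i2 B ∧ IsQ B) : g ∈ T.M := by
  obtain ⟨qI, qJ, qn, q1, sI', sJ', hIJ, -, -⟩ := Q_small
  -- inverse also preserves the factors
  have hsur : ∀ (f : SL23 →* G), Function.Injective f → (∀ a, IsQ a → ∃ A, g * f a * g⁻¹ = f A ∧ IsQ A) →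
      ∀ a, IsQ a → ∃ A, g⁻¹ * f a * g = f A ∧ IsQ A := by
    intro f hf h a ha
    choose A hA using fun x : {x : SL23 // IsQ x} => h x.1 x.2
    let F : {x : SL23 // IsQ x} → {x : SL23 // IsQ x} := fun x => ⟨A x, (hA x).2⟩
    have hF : Function.Injective F := fun x y e => by
      refine Subtype.ext (hf (mul_left_cancel (a := g) (mul_right_cancel (b := g⁻¹) ?_)))
      rw [(hA x).1, (hA y).1, show A x = A y from congrArg Subtype.val e]
    obtain ⟨x, hx⟩ := (Finite.injective_iff_surjective.1 hF) ⟨a, ha⟩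
    refine ⟨x.1, ?_, x.2⟩
    rw [show a = A x from (congrArg Subtype.val hx).symm, ← (hA x).1]
    group
  set u := Par.upW 1 with hu
  set r := T.r with hr
  set y := g * r * g⁻¹ with hy
  have hr1 : r = T.i1 u := rfl
  have hy2 : ∀ b, IsQ b → y * T.i2 b * y⁻¹ = T.i2 b := by
    intro b hb
    obtain ⟨B, hB, -⟩ := hsur T.i2 T.i2_inj h2 b hb
    rw [hy, hr1]
    calc g * T.i1 u * g⁻¹ * T.i2 b * (g * T.i1 u * g⁻¹)⁻¹ = g * (T.i1 u * (g⁻¹ * T.i2 b * g) * (T.i1 u)⁻¹) * g⁻¹ := by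
          group
      _ = g * (g⁻¹ * T.i2 b * g) * g⁻¹ := by rw [hB, T.i12_comm, mul_inv_cancel_right]
      _ = _ := by group
  have hy1 : ∀ a, IsQ a → ∃ A, y * T.i1 a * y⁻¹ = T.i1 A ∧ IsQ A := by
    intro a ha
    obtain ⟨A, hA, qA⟩ := hsur T.i1 T.i1_inj h1 a ha
    obtain ⟨B, hB, qB⟩ := h1 (u * A * u⁻¹) ((Q_facts.2.2.1 A qA).2 u)
    refine ⟨B, ?_, qB⟩
    rw [← hB, hy, hr1, map_mul, map_mul, map_inv, ← hA]
    group
  obtain ⟨A, hA, qA⟩ := hy1 mI qI
  obtain ⟨B, hB, qB⟩ := hy1 mJ qJ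
  have hAB : A * A = -1 ∧ B * B = -1 ∧ A * B ≠ B * A := by
    refine ⟨T.i1_inj ?_, T.i1_inj ?_, fun e => hIJ (T.i1_inj ?_)⟩
    · rw [map_mul, ← hA, ← sI', map_mul]
      have hc : y * T.i1 (mI * mI) * y⁻¹ = T.i1 (mI * mI) := by
        rw [sI', show T.i1 (-1) = T.t from T.t_eq.symm, show T.t = T.i2 (-1) from T.t_eq']
        exact hy2 _ qn
      rw [map_mul] at hc
      rw [show y * T.i1 mI * y⁻¹ * (y * T.i1 mI * y⁻¹) = y * (T.i1 mI * T.i1 mI) * y⁻¹ by group, hc]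
    · rw [map_mul, ← hB, ← sJ', map_mul]
      have hc : y * T.i1 (mJ * mJ) * y⁻¹ = T.i1 (mJ * mJ) := by
        rw [sJ', show T.i1 (-1) = T.t from T.t_eq.symm, show T.t = T.i2 (-1) from T.t_eq']
        exact hy2 _ qn
      rw [map_mul] at hc
      rw [show y * T.i1 mJ * y⁻¹ * (y * T.i1 mJ * y⁻¹) = y * (T.i1 mJ * T.i1 mJ) * y⁻¹ by group, hc]
    · have e' := congrArg T.i1 e
      simp only [map_mul, ← hA, ← hB] at e'
      rw [map_mul, map_mul]
      refine mul_left_cancel (a := y) (mul_right_cancel (b := y⁻¹) ?_)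
      calc y * (T.i1 mI * T.i1 mJ) * y⁻¹ = y * T.i1 mI * y⁻¹ * (y * T.i1 mJ * y⁻¹) := by group
        _ = _ := by rw [e']; group
  have hr3 : r ^ 3 = 1 := T.T9_three T.r_T9
  have hy3 : y ^ 3 = 1 := by rw [hy, conj_pow, hr3]; group
  have conjext : ∀ (φ : SL23 →* SL23), φ mI = A → φ mJ = B → ∀ a, IsQ a → y * T.i1 a * y⁻¹ = T.i1 (φ a) := by
    intro φ e1 e2 a ha
    exact Q_ext (f := (MulAut.conj y).toMonoidHom.comp T.i1) (g := T.i1.comp φ)
      (hA.trans (congrArg T.i1 e1.symm)) (hB.trans (congrArg T.i1 e2.symm)) ha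
  have hyM : y ∈ T.M := by
    rcases aut_Q A B hAB.1 hAB.2.1 hAB.2.2 with ⟨W, w1, w2⟩ | ⟨W, w1, w2⟩
    · have hφ := conjext (MulAut.conj W).toMonoidHom w1 w2
      have hz : (T.i1 W)⁻¹ * y ∈ centralizer (T.E : Set G) := by
        refine mem_centralizer_iff.2 fun e he => ?_
        obtain ⟨a, b, ha, hb, rfl⟩ := T.E_cases he
        have k1 : y * T.i1 a * y⁻¹ = T.i1 W * T.i1 a * (T.i1 W)⁻¹ := by rw [hφ a ha]; show T.i1 (W * a * W⁻¹) = _; rw [map_mul, map_mul, map_inv]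
        have c1 : Commute ((T.i1 W)⁻¹ * y) (T.i1 a) := by
          show (T.i1 W)⁻¹ * y * T.i1 a = T.i1 a * ((T.i1 W)⁻¹ * y)
          rw [mul_assoc, show y * T.i1 a = T.i1 W * T.i1 a * (T.i1 W)⁻¹ * y by rw [← k1]; group]
          group
        have c2 : Commute ((T.i1 W)⁻¹ * y) (T.i2 b) := by
          refine Commute.mul_left ?_ ?_
          · exact (show Commute (T.i1 W) (T.i2 b) from T.i12_comm W b).inv_left
          · exact mul_inv_eq_iff_eq_mul.1 (hy2 b hb)
        rw [T.e2_split]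
        exact (c1.mul_right c2).eq.symm
      have e : y = T.i1 W * ((T.i1 W)⁻¹ * y) := (mul_inv_cancel_left _ _).symm
      rw [e]
      refine mul_mem (T.e2_M _) ?_
      rcases T.cE_cases hz with h | h <;> rw [h]
      · exact one_mem _
      · exact ⟨_, rfl⟩
    · exfalso
      set φ : SL23 →* SL23 := (MulAut.conj W).toMonoidHom.comp flipEquiv.toMonoidHom with hφd
      have hφ := conjext φ w1 w2
      have hq : ∀ a, IsQ a → IsQ (φ a) := fun a ha => (Q_facts.2.2.1 _ (Q_facts.2.2.1 a ha).1).2 W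
      have cube : ∀ a, IsQ a → φ (φ (φ a)) = a := fun a ha => T.i1_inj (by
        rw [← hφ _ (hq _ (hq _ ha)), ← hφ _ (hq _ ha), ← hφ _ ha,
          show y * (y * (y * T.i1 a * y⁻¹) * y⁻¹) * y⁻¹ = (y * y * y) * T.i1 a * (y * y * y)⁻¹ by group,
          ← pow_three', hy3]
        group)
      have h3 : ∀ a, IsQ a → W * flipEquiv W * W * flipEquiv a = a * (W * flipEquiv W * W) := fun a ha => by
        have e := cube a ha
        simp only [hφd, MonoidHom.coe_comp, MulEquiv.coe_toMonoidHom, Function.comp_apply, MulAut.conj_apply,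
          map_mul, map_inv, flip_flip] at e
        conv_rhs => rw [← e]
        group
      exact aut_odd W ⟨h3 mI qI, h3 mJ qJ⟩
  have := (T.good3 (T.e2_M _) hr3 T.r_ne).2 g⁻¹ (by rwa [inv_inv])
  exact inv_mem_iff.1 this

/-- The normalizer of the two-subgroup inside the centralizer. -/
theorem nE_le_M {g : G} (hg : g ∈ T.H) (hn : ∀ e ∈ T.E, g * e * g⁻¹ ∈ T.E) : g ∈ T.M := by
  obtain ⟨qI, qJ, qn, q1, sI', sJ', hIJ, -, -⟩ := Q_small
  have hgt : g * T.t * g⁻¹ = T.t := by rw [mem_centralizer_singleton_iff.1 hg, mul_inv_cancel_right]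
  have hin : ∀ (f : SL23 →* G), f (-1) = T.t → (∀ a, IsQ a → f a ∈ T.E) → ∀ a, IsQ a → a * a = -1 →
      (∃ A, A * A = -1 ∧ g * f a * g⁻¹ = T.i1 A) ∨ ∃ B, B * B = -1 ∧ g * f a * g⁻¹ = T.i2 B := by
    intro f hf hfE a ha ha2
    obtain ⟨x, y, hx, hy, e⟩ := T.E_cases (hn _ (hfE a ha))
    have h := T.order4 hx hy (by
      rw [← e, show g * f a * g⁻¹ * (g * f a * g⁻¹) = g * (f a * f a) * g⁻¹ by group, ← map_mul, ha2, hf, hgt])
    rwa [← e] at h
  have it1 : T.i1 (-1) = T.t := T.t_eq.symm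
  have it2 : T.i2 (-1) = T.t := T.t_eq'.symm
  have key : ∀ A : SL23, A * A = -1 → IsQ A := by unfold IsQ; decide +kernel
  have nc : ∀ (f : SL23 →* G), Function.Injective f → ¬ Commute (g * f mI * g⁻¹) (g * f mJ * g⁻¹) := by
    intro f hf h
    refine hIJ (hf ?_)
    rw [map_mul, map_mul]
    refine mul_left_cancel (a := g) (mul_right_cancel (b := g⁻¹) ?_)
    calc g * (f mI * f mJ) * g⁻¹ = g * f mI * g⁻¹ * (g * f mJ * g⁻¹) := by group
      _ = _ := by rw [h.eq]; group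
  have xc : ∀ a b, Commute (g * T.i1 a * g⁻¹) (g * T.i2 b * g⁻¹) := fun a b =>
    (show Commute (T.i1 a) (T.i2 b) from T.i12_comm a b).map (MulAut.conj g).toMonoidHom
  -- the images of the generators of one factor lie in one factor
  have same : ∀ (f : SL23 →* G), Function.Injective f → f (-1) = T.t → (∀ a, IsQ a → f a ∈ T.E) →
      (∃ A B, A * A = -1 ∧ B * B = -1 ∧ A * B ≠ B * A ∧ g * f mI * g⁻¹ = T.i1 A ∧ g * f mJ * g⁻¹ = T.i1 B) ∨
      ∃ A B, A * A = -1 ∧ B * B = -1 ∧ A * B ≠ B * A ∧ g * f mI * g⁻¹ = T.i2 A ∧ g * f mJ * g⁻¹ = T.i2 B := by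
    intro f hf hft hfE
    have n := nc f hf
    rcases hin f hft hfE mI qI sI' with ⟨A, hA, e1⟩ | ⟨A, hA, e1⟩ <;>
      rcases hin f hft hfE mJ qJ sJ' with ⟨B, hB, e2⟩ | ⟨B, hB, e2⟩ <;> rw [e1, e2] at n
    · exact Or.inl ⟨A, B, hA, hB, fun h => n ((show Commute A B from h).map T.i1), e1, e2⟩
    · exact absurd (T.i12_comm A B) n
    · exact absurd (T.i12_comm B A).symm n
    · exact Or.inr ⟨A, B, hA, hB, fun h => n ((show Commute A B from h).map T.i2), e1, e2⟩
  have ext : ∀ (f f' : SL23 →* G) (A B : SL23), A * A = -1 → B * B = -1 → g * f mI * g⁻¹ = f' A →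
      g * f mJ * g⁻¹ = f' B → ∀ a, IsQ a → ∃ C, g * f a * g⁻¹ = f' C ∧ IsQ C := by
    intro f f' A B hA hB e1 e2 a ha
    obtain ⟨i, j, rfl⟩ := Q_gen a ha
    refine ⟨A ^ i.val * B ^ j.val, ?_, (?_ : IsQ _)⟩
    · rw [map_mul, map_mul, map_pow, map_pow, map_pow, map_pow, ← e1, ← e2, conj_pow, conj_pow]
      group
    · exact (mul_mem (pow_mem (show (A, (1 : SL23)) ∈ QQ from ⟨key A hA, q1⟩) i.val)
        (pow_mem (show (B, (1 : SL23)) ∈ QQ from ⟨key B hB, q1⟩) j.val) : _ ∈ QQ).1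
  have three : ∀ A B C : SL23, A * A = -1 → B * B = -1 → A * B ≠ B * A → C * C = -1 →
      ¬(C * A = A * C ∧ C * B = B * C) := by decide +kernel
  rcases same T.i1 T.i1_inj it1 (fun a => T.i1_E) with ⟨A, B, hA, hB, hAB, a1, a2⟩ | ⟨A, B, hA, hB, hAB, a1, a2⟩ <;>
    rcases same T.i2 T.i2_inj it2 (fun a => T.i2_E) with ⟨C, D, hC, hD, hCD, b1, b2⟩ | ⟨C, D, hC, hD, hCD, b1, b2⟩
  · exfalso
    refine three A B C hA hB hAB hC ⟨T.i1_inj ?_, T.i1_inj ?_⟩
    · have := xc mI mI; rw [a1, b1] at this; rw [map_mul, map_mul]; exact this.eq.symm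
    · have := xc mJ mI; rw [a2, b1] at this; rw [map_mul, map_mul]; exact this.eq.symm
  · exact T.pres_M (ext _ _ A B hA hB a1 a2) (ext _ _ C D hC hD b1 b2)
  · set σ := T.c false true with hσ
    have s1 : ∀ a, σ * T.i2 a * σ⁻¹ = T.i1 a := fun a => by
      show σ * T.e2 (1, a) * σ⁻¹ = T.e2 (a, 1)
      rw [T.c_e2, mul_inv_cancel_right]; rfl
    have s2 : ∀ a, σ * T.i1 a * σ⁻¹ = T.i2 a := fun a => by
      show σ * T.e2 (a, 1) * σ⁻¹ = T.e2 (1, a)
      rw [T.c_e2, mul_inv_cancel_right]; rfl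
    have hσM : σ ∈ T.M := T.c_M _ _
    have : σ * g ∈ T.M := by
      refine T.pres_M (fun a ha => ?_) (fun a ha => ?_)
      · obtain ⟨A', e, q⟩ := ext _ _ A B hA hB a1 a2 a ha
        exact ⟨A', by rw [← s1 A', ← e]; group, q⟩
      · obtain ⟨A', e, q⟩ := ext _ _ C D hC hD b1 b2 a ha
        exact ⟨A', by rw [← s2 A', ← e]; group, q⟩
    have := mul_mem (inv_mem hσM) this
    rwa [inv_mul_cancel_left] at this
  · exfalso
    refine three A B C hA hB hAB hC ⟨T.i2_inj ?_, T.i2_inj ?_⟩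
    · have := xc mI mI; rw [a1, b1] at this; rw [map_mul, map_mul]; exact this.eq.symm
    · have := xc mJ mI; rw [a2, b1] at this; rw [map_mul, map_mul]; exact this.eq.symm

end Two

end CfsgLib.L43Rec
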