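import Cfsg.Agent.Lib.L43Rec.TwoInvB

/-!
The two classes of involutions, and the involutions centralizing a given one.
-/

set_option autoImplicit false

namespace CfsgLib.L43Rec

open Subgroup Matrix CfsgLib.GoodPairs
open scoped Pointwise

universe u

theorem xs_val (a b : ZMod 3) : (xs a b).1.1 = !![1, 0, a, -b; 0, 1, b, a; 0, 0, 1, 0; 0, 0, 0, 1] := by
  rw [xs, B_val]

theorem e03_split : ∀ i j : Fin 4, e03.1.1 i j - (1 : Matrix (Fin 4) (Fin 4) (ZMod 3)) i j =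
    if i = 0 ∧ j = 3 then 1 else 0 := by decide +kernel

theorem rank_one (g : SL43) (i j : Fin 4) :
    (g * e03.1 * g⁻¹).1 i j - (1 : Matrix (Fin 4) (Fin 4) (ZMod 3)) i j = g.1 i 0 * (g⁻¹).1 3 j := by
  have h : (g * e03.1 * g⁻¹).1 - 1 = g.1 * (e03.1.1 - 1) * (g⁻¹).1 := by
    rw [mul_sub, sub_mul, mul_one, ← Matrix.SpecialLinearGroup.coe_mul, ← Matrix.SpecialLinearGroup.coe_mul,
      ← Matrix.SpecialLinearGroup.coe_mul, mul_inv_cancel, Matrix.SpecialLinearGroup.coe_one]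
  have h' := congrFun (congrFun h i) j
  rw [Matrix.sub_apply] at h'
  rw [h', Matrix.mul_apply, Finset.sum_eq_single 3 (fun k _ hk => ?_) (by simp)]
  · rw [Matrix.mul_apply, Finset.sum_eq_single 0 (fun k _ hk => ?_) (by simp)]
    · rw [Matrix.sub_apply, e03_split, if_pos ⟨rfl, rfl⟩, mul_one]
    · rw [Matrix.sub_apply, e03_split, if_neg (fun h => hk h.1), mul_zero]
  · rw [Matrix.mul_apply, Finset.sum_eq_zero (fun l _ => by
      rw [Matrix.sub_apply, e03_split, if_neg (fun h => hk h.2), mul_zero]), zero_mul]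

namespace Two

variable {G : Type u} [Group G] (T : Two G)

/-- The reference involution of the other class. -/
noncomputable abbrev s : G := T.μ sI

theorem s_eq : T.s = T.e2 (mI, mI) := rfl

theorem s_sq : T.s * T.s = 1 := by
  rw [T.s_eq, ← map_mul]
  exact T.e2_one.2 (Or.inr (Prod.ext Q_small.2.2.2.2.1 Q_small.2.2.2.2.1))

/-- The nine-group centralizing it. -/
def xhom : Multiplicative (ZMod 3 × ZMod 3) →* G :=
  T.S.Φ.comp (MonoidHom.mk' (fun a => xs a.toAdd.1 a.toAdd.2) fun a b => Par.ph_ext (by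
    rw [Subgroup.coe_mul, Matrix.SpecialLinearGroup.coe_mul]
    exact (xs_facts.1 _ _ _ _).symm))

theorem xhom_s (a : Multiplicative (ZMod 3 × ZMod 3)) : T.xhom a * T.s = T.s * T.xhom a := by
  show T.S.Φ (xs _ _) * T.μ sI = T.μ sI * T.S.Φ (xs _ _)
  rw [← T.μ_Φ, ← map_mul, ← map_mul]
  refine congrArg T.μ (Subtype.ext ?_)
  rw [Matrix.SpecialLinearGroup.coe_mul, Matrix.SpecialLinearGroup.coe_mul]
  exact xs_facts.2.1 _ _

theorem xhom_inj : Function.Injective T.xhom := by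
  rw [injective_iff_map_eq_one]
  intro a ha
  have h := congrArg (fun g : Ph0 => g.1.1) (T.S.inj (ha.trans (map_one T.S.Φ).symm))
  simp only [MonoidHom.mk'_apply] at h
  rw [xs_val] at h
  have h1 := congrFun (congrFun h 0) 2
  have h2 := congrFun (congrFun h 1) 2
  simp at h1 h2
  exact Multiplicative.toAdd.injective (Prod.ext h1 h2)

theorem r_eq : T.r = T.S.Φ (cel 1 0 0 0 0 1) := by
  show T.μ (bd _) = _
  rw [← T.μ_Φ]
  exact congrArg T.μ (Subtype.ext (bd_up 1))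

variable [Finite G]

theorem r_conj : IsConj T.D.z T.r :=
  T.S.conj_of_plane (e := T.r) ⟨by rw [T.r_eq]; exact (T.S.cel_Q _ _ _ _ _).1, by
    rw [T.r_eq, (T.S.cel_Q _ _ _ _ _).2]⟩ T.r_ne

theorem xhom_not_z {a : Multiplicative (ZMod 3 × ZMod 3)} (ha : a ≠ 1) : ¬ IsConj T.D.z (T.xhom a) := by
  intro hc
  obtain ⟨_, ⟨g, rfl⟩, hg⟩ := T.conj_z (T.Φ_mem _) hc
  rw [← T.S.Φ_z, ← T.μ_Φ, ← map_inv, ← map_mul, ← map_mul] at hg
  have hg' : T.μ (g * e03.1 * g⁻¹) = T.μ (xs a.toAdd.1 a.toAdd.2).1 := hg.trans (T.μ_Φ _).symm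
  have hx3 : (xs a.toAdd.1 a.toAdd.2).1 ^ 3 = 1 := by
    have hm : ∀ a b a' b', xs a b * xs a' b' = xs (a + a') (b + b') := fun a b a' b' =>
      Par.ph_ext (xs_facts.1 a b a' b')
    have h0 : xs a.toAdd.1 a.toAdd.2 ^ 3 = 1 := by
      have key : ∀ u : ZMod 3, u + u + u = 0 := by decide
      rw [pow_three', hm, hm, key, key]
      exact Par.ph_ext xs_facts.2.2
    rw [← SubgroupClass.coe_pow, h0]; rfl
  have he : g * e03.1 * g⁻¹ = (xs a.toAdd.1 a.toAdd.2).1 := by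
    rcases T.μ_eq_one.1 (hom_eq_one T.μ hg') with e | e
    · exact mul_inv_eq_one.1 e
    · exfalso
      rw [mul_inv_eq_iff_eq_mul] at e
      have h := congrArg (· ^ 3) e
      rw [conj_pow, (show Commute ng4 _ from ng4_comm _).mul_pow, hx3, mul_one,
        show e03.1 ^ 3 = 1 from Subtype.ext (by decide +kernel), mul_one, mul_inv_cancel] at h
      exact absurd (congrArg Subtype.val h) (by decide +kernel)
  have r1 : ∀ i j, (xs a.toAdd.1 a.toAdd.2).1.1 i j - (1 : Matrix (Fin 4) (Fin 4) (ZMod 3)) i j =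
      g.1 i 0 * (g⁻¹).1 3 j := fun i j => by rw [← he]; exact rank_one g i j
  have a02 := r1 0 2
  have a03 := r1 0 3
  have a12 := r1 1 2
  have a13 := r1 1 3
  rw [xs_val] at a02 a03 a12 a13
  simp at a02 a03 a12 a13
  obtain ⟨h1, h2⟩ := xs_det a.toAdd.1 a.toAdd.2 (by
    linear_combination a13 * (a.toAdd.1) + (g.1 1 0 * (g⁻¹).1 3 3) * a02 - a12 * (-a.toAdd.2) -
      (g.1 1 0 * (g⁻¹).1 3 2) * a03)
  exact ha (Multiplicative.toAdd.injective (Prod.ext h1 h2))

/-- The classes differ. -/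
theorem not_conj_ts : ¬ IsConj T.t T.s := by
  intro hc
  obtain ⟨k, hk⟩ := isConj_iff.1 hc
  haveI : Fact (Nat.Prime 3) := ⟨Nat.prime_three⟩
  let ψ : Multiplicative (ZMod 3 × ZMod 3) →* T.H := MonoidHom.codRestrict
    ((MulAut.conj k⁻¹).toMonoidHom.comp T.xhom) T.H (fun a => mem_centralizer_singleton_iff.2 (by
      show k⁻¹ * T.xhom a * k⁻¹⁻¹ * T.t = T.t * (k⁻¹ * T.xhom a * k⁻¹⁻¹)
      have h := T.xhom_s a
      rw [← hk] at h
      calc k⁻¹ * T.xhom a * k⁻¹⁻¹ * T.t = k⁻¹ * (T.xhom a * (k * T.t * k⁻¹)) * k := by group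
        _ = k⁻¹ * (k * T.t * k⁻¹ * T.xhom a) * k := by rw [h]
        _ = _ := by group))
  have hψ : Function.Injective ψ := fun a b e => T.xhom_inj ((MulAut.conj k⁻¹).injective (congrArg Subtype.val e))
  have hX : Nat.card ψ.range = 9 := by
    rw [← Nat.card_congr (MonoidHom.ofInjective hψ).toEquiv, Nat.card_congr Multiplicative.toAdd,
      Nat.card_prod, Nat.card_zmod]
  have hTle : T.T9 ≤ T.H := T.T9_le.trans inf_le_left
  obtain ⟨P, hP⟩ := (IsPGroup.of_card (p := 3) (n := 2) (G := ψ.range) (by rw [hX]; norm_num)).exists_le_sylow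
  obtain ⟨P0, hP0⟩ := (IsPGroup.of_card (p := 3) (n := 2) (G := (T.T9.subgroupOf T.H)) (by
    rw [Nat.card_congr (subgroupOfEquivOfLe hTle).toEquiv, T.card_T9]; norm_num)).exists_le_sylow
  have hc0 : Nat.card P0 ≤ 9 := by
    have h := (T.three_K0 (X := (P0 : Subgroup T.H).map T.H.subtype) (P0.isPGroup'.map _) (map_subtype_le _)
      ⟨⟨T.r, hTle T.r_T9⟩, hP0 (mem_subgroupOf.2 T.r_T9), rfl⟩).2
    rwa [card_map_of_injective T.H.subtype_injective] at h
  obtain ⟨h, hh⟩ := MulAction.exists_smul_eq T.H P P0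
  have hle : MulAut.conj h • ψ.range ≤ (P0 : Subgroup T.H) := by
    rw [← hh]
    exact pointwise_smul_le_pointwise_smul_iff.2 hP
  have heq : MulAut.conj h • ψ.range = (P0 : Subgroup T.H) := by
    refine eq_of_le_of_card_ge hle (le_of_le_of_eq hc0 ?_)
    rw [Nat.card_congr (Subgroup.equivSMul (MulAut.conj h) ψ.range).toEquiv.symm, hX]
  have hr : (⟨T.r, hTle T.r_T9⟩ : T.H) ∈ MulAut.conj h • ψ.range := by
    rw [heq]; exact hP0 (mem_subgroupOf.2 T.r_T9)
  rw [mem_smul_pointwise_iff_exists] at hr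
  obtain ⟨_, ⟨a, rfl⟩, ha⟩ := hr
  have ha' : (h : G) * (k⁻¹ * T.xhom a * k⁻¹⁻¹) * (h : G)⁻¹ = T.r := congrArg Subtype.val ha
  refine T.xhom_not_z (a := a) (fun e => T.r_ne ?_) (T.r_conj.trans (isConj_iff.2 ⟨k * (h : G)⁻¹, ?_⟩))
  · rw [← ha', e, map_one]; group
  · rw [← ha']; group

omit [Finite G] in
theorem μ_mconj {x y : SL43} (h : ∃ m : SL43, m * y = x * m) : MConj T.M (T.μ x) (T.μ y) := by
  obtain ⟨m, hm⟩ := h
  refine ⟨(T.μ m)⁻¹, inv_mem ⟨_, rfl⟩, ?_⟩
  rw [inv_inv, mul_assoc, ← map_mul, ← hm, map_mul, inv_mul_cancel_left]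

omit [Finite G] in
theorem c_types : (MConj T.M T.t (T.c true false) ∧ MConj T.M T.t (T.c true false * T.t)) ∧
    ∀ i, MConj T.M T.t (T.c i true) ∧ MConj T.M T.s (T.c i true * T.t) := by
  obtain ⟨w1, w2, w3, w4, w5, w6⟩ := class_witness
  refine ⟨⟨T.μ_mconj w3, ?_⟩, fun i => ?_⟩
  · rw [← map_mul]; exact T.μ_mconj w4
  · rw [← map_mul]
    cases i
    · exact ⟨T.μ_mconj w1, T.μ_mconj w5⟩
    · exact ⟨T.μ_mconj w2, T.μ_mconj w6⟩

omit [Finite G] in
theorem mconj_pair {a b m u u' : G} (hm : m ∈ T.M) (hmt : m * T.t = T.t * m) (he : m * u' * m⁻¹ = u)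
    (h : MConj T.M a u' ∧ MConj T.M b (u' * T.t)) : MConj T.M a u ∧ MConj T.M b (u * T.t) := by
  obtain ⟨⟨p, hp, hpe⟩, ⟨q, hq, hqe⟩⟩ := h
  refine ⟨⟨m * p, mul_mem hm hp, ?_⟩, ⟨m * q, mul_mem hm hq, ?_⟩⟩
  · rw [← he, ← hpe]; group
  · rw [show m * q * b * (m * q)⁻¹ = m * (q * b * q⁻¹) * m⁻¹ by group, hqe, ← he]
    calc m * (u' * T.t) * m⁻¹ = m * u' * m⁻¹ * (m * T.t * m⁻¹) := by group
      _ = _ := by rw [hmt, mul_inv_cancel_right]

omit [Finite G] in
theorem e2_t (a b : SL23) : T.e2 (a, b) * T.t = T.e2 (-a, b) := by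
  rw [T.t_eq, ← map_mul]
  refine congrArg T.e2 (Prod.ext ?_ (mul_one b))
  exact (neg_facts a).2.2.2

/-- The type of an involution in the centralizer. -/
theorem pair_type {u : G} (hu : u ∈ T.H) (hM : u ∈ T.M) (h2 : u * u = 1) (h1 : u ≠ 1) (ht : u ≠ T.t) :
    ∃ (v : SL23 × SL23) (i j : Bool), u = T.e2 v * T.c i j ∧
      ((i = false ∧ j = false ∧ MConj T.M T.s u ∧ MConj T.M T.s (u * T.t)) ∨
        (i = true ∧ j = false ∧ MConj T.M T.t u ∧ MConj T.M T.t (u * T.t)) ∨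
        (j = true ∧ ((MConj T.M T.t u ∧ MConj T.M T.s (u * T.t)) ∨ (MConj T.M T.s u ∧ MConj T.M T.t (u * T.t))))) := by
  obtain ⟨⟨a, b⟩, i, j, rfl⟩ := T.H_cases hu hM
  refine ⟨(a, b), i, j, rfl, ?_⟩
  have hsq : T.e2 ((a, b) * tw i j (a, b)) = 1 := by
    calc T.e2 ((a, b) * tw i j (a, b)) = T.e2 (a, b) * T.e2 (tw i j (a, b)) * (T.c i j * T.c i j) := by
          rw [map_mul, T.c_sq, mul_one]
      _ = T.e2 (a, b) * (T.e2 (tw i j (a, b)) * T.c i j) * T.c i j := by group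
      _ = T.e2 (a, b) * (T.c i j * T.e2 (a, b)) * T.c i j := by rw [T.c_e2]
      _ = _ := by rw [← h2]; group
  have hsq' := T.e2_one.1 hsq
  have et : ∀ x y : SL23, T.e2 (x, y) * T.t = T.t * T.e2 (x, y) := fun x y =>
    mem_centralizer_singleton_iff.1 (T.e2_H _)
  cases j
  · cases i
    · refine Or.inl ⟨rfl, rfl, ?_⟩
      rw [T.c_one, mul_one] at h1 ht ⊢
      obtain ⟨ha, hb⟩ : a * a = -1 ∧ b * b = -1 := by
        rcases hsq' with e | e
        · exfalso
          have key : ∀ a : SL23, a * a = 1 → a = 1 ∨ a = -1 := by decide +kernel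
          rcases key a (Prod.mk.inj e).1 with rfl | rfl <;> rcases key b (Prod.mk.inj e).2 with rfl | rfl
          · exact h1 (map_one _)
          · exact ht T.t_eq'.symm
          · exact ht T.t_eq.symm
          · exact h1 (T.e2_one.2 (Or.inr rfl))
        · exact Prod.mk.inj e
      have main : ∀ a b : SL23, a * a = -1 → b * b = -1 → MConj T.M T.s (T.e2 (a, b)) := by
        intro a b ha hb
        obtain ⟨x, hx⟩ := Q_orbit a ha
        obtain ⟨y, hy⟩ := Q_orbit b hb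
        refine ⟨(T.e2 (x, y))⁻¹, inv_mem (T.e2_M _), ?_⟩
        rw [inv_inv, T.s_eq, mul_assoc, ← map_mul, inv_mul_eq_iff_eq_mul, ← map_mul]
        exact congrArg T.e2 (Prod.ext hx.symm hy.symm)
      have hn : ∀ a : SL23, a * a = -1 → -a * -a = -1 := by decide +kernel
      exact ⟨main a b ha hb, by rw [T.e2_t]; exact main _ _ (hn a ha) hb⟩
    · refine Or.inr (Or.inl ⟨rfl, rfl, ?_⟩)
      obtain ⟨x, hx⟩ := (d_sq a).1 (by
        rcases hsq' with e | e
        · exact (Prod.mk.inj e).1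
        · exact absurd (Prod.mk.inj e).1 (d_sq a).2)
      obtain ⟨y, hy⟩ := (d_sq b).1 (by
        rcases hsq' with e | e
        · exact (Prod.mk.inj e).2
        · exact absurd (Prod.mk.inj e).2 (d_sq b).2)
      refine T.mconj_pair (inv_mem (T.e2_M (x, y))) ?_ ?_ T.c_types.1
      · exact ((show Commute _ _ from et x y).inv_left).eq
      · rw [inv_inv, mul_assoc, T.c_e2, ← mul_assoc, inv_mul_eq_iff_eq_mul.2 (?_ : _ = T.e2 (x, y) * T.e2 (a, b))]
        rw [← map_mul]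
        exact congrArg T.e2 (Prod.ext hx.symm hy.symm)
  · refine Or.inr (Or.inr ⟨rfl, ?_⟩)
    set f : SL23 →* SL23 := if i then flipEquiv.toMonoidHom else MonoidHom.id _ with hf
    have htw : ∀ x y, tw i true (x, y) = (f y, f x) := fun x y => by cases i <;> rfl
    have hff : ∀ x, f (f x) = x := fun x => by
      cases i
      · rfl
      · exact flip_flip x
    have hfn : ∀ x, f (-x) = -f x := fun x => by
      cases i
      · rfl
      · exact (neg_facts x).2.1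
    have main : ∀ a b, b * f a = 1 → ∀ p q : G, (MConj T.M p (T.c i true) ∧ MConj T.M q (T.c i true * T.t)) →
        MConj T.M p (T.e2 (a, b) * T.c i true) ∧ MConj T.M q (T.e2 (a, b) * T.c i true * T.t) := by
      intro a b hb p q h
      refine T.mconj_pair (inv_mem (T.e2_M (1, f a))) ((show Commute _ _ from et 1 (f a)).inv_left).eq ?_ h
      rw [inv_inv, mul_assoc, T.c_e2, htw, hff, map_one, ← mul_assoc,
        inv_mul_eq_iff_eq_mul.2 (?_ : _ = T.e2 (1, f a) * T.e2 (a, b))]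
      rw [← map_mul]
      exact congrArg T.e2 (Prod.ext (one_mul a).symm (mul_eq_one_comm.1 hb).symm)
    rw [htw] at hsq'
    rcases hsq' with e | e
    · exact Or.inl (main a b (Prod.mk.inj e).2 _ _ (T.c_types.2 i))
    · refine Or.inr ?_
      have h := main (-a) b (by
        rw [hfn, ← (neg_facts (f a)).2.2.2, ← mul_assoc, show b * f a = -1 from (Prod.mk.inj e).2]
        exact Q_small.2.2.2.2.2.2.2.1) _ _ (T.c_types.2 i)
      have hc := mem_centralizer_singleton_iff.1 (T.c_H i true)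
      rw [← T.e2_t, show T.e2 (a, b) * T.t * T.c i true = T.e2 (a, b) * T.c i true * T.t by
        rw [mul_assoc, mul_assoc, hc]] at h
      refine ⟨?_, h.1⟩
      rw [mul_assoc _ T.t T.t, T.t_sq, mul_one] at h
      exact h.2

end Two

end CfsgLib.L43Rec
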