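import Cfsg.Agent.Lib.L43Rec.TwoInvC

/-!
A Sylow two-subgroup of the group inside the subgroup.
-/

set_option autoImplicit false

namespace CfsgLib.L43Rec

open Subgroup Matrix CfsgLib.GoodPairs

universe u

theorem exists_norm_out {G : Type u} [Group G] [Finite G] {p : ℕ} [Fact p.Prime] {P S : Subgroup G}
    (hP : IsPGroup p P) (hSP : S < P) : ∃ g ∈ P, g ∉ S ∧ ∀ x ∈ S, g * x * g⁻¹ ∈ S := by
  haveI : Group.IsNilpotent P := hP.isNilpotent
  have hN := Group.normalizerCondition_of_isNilpotent (G := P) (S.subgroupOf P) (by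
    rw [lt_top_iff_ne_top, Ne, Subgroup.subgroupOf_eq_top]
    exact not_le_of_gt hSP)
  obtain ⟨w, hwN, hwP⟩ := SetLike.exists_of_lt hN
  exact ⟨w, w.2, fun h => hwP (mem_subgroupOf.2 h), fun x hx =>
    mem_subgroupOf.1 ((mem_normalizer_iff.1 hwN ⟨x, hSP.le hx⟩).1 (mem_subgroupOf.2 hx))⟩

theorem Q_two_power : ∀ a : SL23, ∀ k : ℕ, a ^ 2 ^ k = 1 → IsQ a := by
  intro a k h
  refine Q_facts.2.2.2.2 a ?_
  have hd : orderOf a ∣ 24 := orderOf_dvd_of_pow_eq_one (pow24 a)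
  obtain ⟨m, -, hm⟩ := (Nat.dvd_prime_pow Nat.prime_two).1 (orderOf_dvd_of_pow_eq_one h)
  rw [hm] at hd
  refine orderOf_dvd_iff_pow_eq_one.1 ?_
  rw [hm, show (8 : ℕ) = 2 ^ 3 by norm_num]
  refine pow_dvd_pow 2 ?_
  by_contra hc
  exact absurd ((pow_dvd_pow 2 (by omega : 4 ≤ m)).trans hd) (by norm_num)

namespace Two

variable {G : Type u} [Group G] (T : Two G)

/-- The two-subgroup. -/
noncomputable def ST : Subgroup G where
  carrier := {g | ∃ v : SL23 × SL23, (IsQ v.1 ∧ IsQ v.2) ∧ ∃ i j : Bool, g = T.e2 v * T.c i j}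
  one_mem' := ⟨1, ⟨Q_small.2.2.2.1, Q_small.2.2.2.1⟩, false, false, by rw [map_one, T.c_one, one_mul]⟩
  mul_mem' := by
    rintro _ _ ⟨v, hv, i, j, rfl⟩ ⟨w, hw, k, l, rfl⟩
    refine ⟨v * tw i j w, ⟨Q_facts.1 _ _ hv.1 (tw_Q hw i j).1, Q_facts.1 _ _ hv.2 (tw_Q hw i j).2⟩,
      xor i k, xor j l, ?_⟩
    rw [map_mul T.e2, ← T.c_mul]
    simp only [mul_assoc]
    rw [← mul_assoc (T.c i j) (T.e2 w), T.c_e2, mul_assoc]
  inv_mem' := by
    rintro _ ⟨v, hv, i, j, rfl⟩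
    refine ⟨tw i j v⁻¹, tw_Q (v := v⁻¹) ⟨Q_facts.2.1 v.1 hv.1, Q_facts.2.1 v.2 hv.2⟩ i j, i, j, ?_⟩
    rw [_root_.mul_inv_rev, inv_eq_of_mul_eq_one_right (T.c_sq i j), ← map_inv, T.c_e2]

theorem E_le_ST : T.E ≤ T.ST := by
  rintro _ ⟨v, hv, rfl⟩
  exact ⟨v, hv, false, false, by rw [T.c_one, mul_one]⟩

theorem c_ST (i j : Bool) : T.c i j ∈ T.ST :=
  ⟨1, ⟨Q_small.2.2.2.1, Q_small.2.2.2.1⟩, i, j, by rw [map_one, one_mul]⟩

theorem ST_le : T.ST ≤ T.H ⊓ T.M := by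
  rintro _ ⟨v, -, i, j, rfl⟩
  exact ⟨mul_mem (T.e2_H _) (T.c_H i j), mul_mem (T.e2_M _) (T.c_M i j)⟩

theorem t_ST : T.t ∈ T.ST := T.E_le_ST (by rw [T.t_eq]; exact T.i1_E Q_small.2.2.1)

theorem ST_two : IsPGroup 2 T.ST := by
  rintro ⟨g, v, hv, i, j, rfl⟩
  refine ⟨3, Subtype.ext ?_⟩
  show (T.e2 v * T.c i j) ^ 2 ^ 3 = 1
  have h : (T.e2 v * T.c i j) ^ 2 = T.e2 (v * tw i j v) := by
    rw [pow_two, map_mul]
    calc T.e2 v * T.c i j * (T.e2 v * T.c i j) = T.e2 v * (T.c i j * T.e2 v) * T.c i j := by group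
      _ = T.e2 v * T.e2 (tw i j v) * (T.c i j * T.c i j) := by rw [T.c_e2]; group
      _ = _ := by rw [T.c_sq, mul_one]
  rw [show (2 : ℕ) ^ 3 = 2 * 4 by norm_num, pow_mul, h, ← map_pow]
  have hw : IsQ (v * tw i j v).1 ∧ IsQ (v * tw i j v).2 :=
    ⟨Q_facts.1 _ _ hv.1 (tw_Q hv i j).1, Q_facts.1 _ _ hv.2 (tw_Q hv i j).2⟩
  rw [show (v * tw i j v) ^ 4 = 1 by
    rw [show (4 : ℕ) = 3 + 1 by norm_num, pow_succ, pow_three']
    exact Prod.ext hw.1 hw.2, map_one]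

theorem c_K0 {i j : Bool} (h : T.c i j ∈ T.K0) : i = false ∧ j = false := by
  obtain ⟨v, hv⟩ := h
  obtain ⟨w, hw⟩ : ∃ w, bd w = cs i j := by
    rcases T.μ_eq_one.1 (hom_eq_one T.μ (show T.μ (bd v) = T.μ (cs i j) from hv)) with e | e
    · exact ⟨v, mul_inv_eq_one.1 e⟩
    · refine ⟨(-v.1, -v.2), ?_⟩
      rw [bd_neg, mul_inv_eq_iff_eq_mul.1 e, ← mul_assoc, cs_facts.2.2.2.2.2.2.1, one_mul]
  have h' := congrArg Subtype.val hw
  rw [bd_val] at h'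
  have hd := w.1.2
  rw [Matrix.det_fin_two] at hd
  have e00 := congrFun (congrFun h' 0) 0
  have e01 := congrFun (congrFun h' 0) 1
  have e10 := congrFun (congrFun h' 1) 0
  have e11 := congrFun (congrFun h' 1) 1
  cases i <;> cases j
  · exact ⟨rfl, rfl⟩
  all_goals
    exfalso
    simp [cs, d4, sw4, Matrix.mul_apply, Fin.sum_univ_four] at e00 e01 e10 e11
    rw [e00, e01, e10, e11] at hd
    revert hd
    decide

theorem ST_K0 {x : G} (hx : x ∈ T.ST) (hK : x ∈ T.K0) : x ∈ T.E := by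
  obtain ⟨v, hv, i, j, rfl⟩ := hx
  obtain ⟨rfl, rfl⟩ := T.c_K0 (i := i) (j := j) (by
    have := mul_mem (inv_mem (⟨v, rfl⟩ : T.e2 v ∈ T.K0)) hK
    rwa [inv_mul_cancel_left] at this)
  rw [T.c_one, mul_one]
  exact ⟨v, hv, rfl⟩

theorem two_max {X : Subgroup G} (hX : IsPGroup 2 X) (hST : T.ST ≤ X) {x : G} (hx : x ∈ X) (hH : x ∈ T.H)
    (hM : x ∈ T.M) : x ∈ T.ST := by
  obtain ⟨v, i, j, rfl⟩ := T.H_cases hH hM
  have he : T.e2 v ∈ X := by
    have := mul_mem hx (inv_mem (hST (T.c_ST i j)))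
    rwa [mul_inv_cancel_right] at this
  obtain ⟨k, hk⟩ := hX ⟨_, he⟩
  have hk' : T.e2 (v ^ 2 ^ k) = 1 := by rw [map_pow]; exact congrArg Subtype.val hk
  have hv : v ^ 2 ^ (k + 1) = 1 := by
    rw [pow_succ, pow_mul]
    rcases T.e2_one.1 hk' with e | e <;> rw [e]
    · exact one_pow _
    · rw [pow_two]; exact Prod.ext Q_small.2.2.2.2.2.2.2.1 Q_small.2.2.2.2.2.2.2.1
  refine ⟨v, ⟨Q_two_power _ (k + 1) ?_, Q_two_power _ (k + 1) ?_⟩, i, j, rfl⟩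
  · exact congrArg Prod.fst hv
  · exact congrArg Prod.snd hv

variable [Finite G]

theorem norm_ST_M {g : G} (hg : g ∈ T.H) (hn : ∀ x ∈ T.ST, g * x * g⁻¹ ∈ T.ST) : g ∈ T.M := by
  have hgt : g * T.t * g⁻¹ = T.t := by rw [mem_centralizer_singleton_iff.1 hg, mul_inv_cancel_right]
  have hts : ¬ IsConj T.t T.s := T.not_conj_ts
  have gen : ∀ A B : SL23, A * A = -1 → B * B = -1 → g * T.e2 (A, B) * g⁻¹ ∈ T.E := by
    intro A B hA hB
    set u := T.e2 (A, B) with hu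
    have hu2 : u * u = 1 := by
      rw [hu, ← map_mul]; exact T.e2_one.2 (Or.inr (Prod.ext hA hB))
    have hq : ∀ C : SL23, C * C = -1 → IsQ C := by unfold IsQ; decide +kernel
    have hnot : ∀ C : SL23, C * C = -1 → C ≠ 1 ∧ C ≠ -1 := by decide +kernel
    have hu1 : u ≠ 1 := fun h => by
      rcases T.e2_one.1 h with e | e
      · exact (hnot A hA).1 (Prod.mk.inj e).1
      · exact (hnot A hA).2 (Prod.mk.inj e).1
    have hut : u ≠ T.t := fun h => by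
      rw [hu, T.t_eq, T.e2_eq] at h
      rcases h with e | e
      · exact (hnot A hA).2 (Prod.mk.inj e).1
      · exact (hnot A hA).1 ((Prod.mk.inj e).1.trans (neg_neg _))
    obtain ⟨v, i, j, hv, hty⟩ := T.pair_type (T.e2_H _) (T.e2_M _) hu2 hu1 hut
    obtain ⟨rfl, rfl⟩ : i = false ∧ j = false := T.c_K0 (by
      have : (T.e2 v)⁻¹ * u ∈ T.K0 := mul_mem (inv_mem ⟨v, rfl⟩) ⟨(A, B), rfl⟩
      rwa [hu, hv, inv_mul_cancel_left] at this)
    obtain ⟨⟨m, -, hm⟩, ⟨m', -, hm'⟩⟩ : MConj T.M T.s u ∧ MConj T.M T.s (u * T.t) := by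
      rcases hty with ⟨-, -, h⟩ | ⟨h, -⟩ | ⟨h, -⟩
      · exact h
      · exact absurd h (by decide)
      · exact absurd h (by decide)
    set w := g * u * g⁻¹ with hw
    have hwST : w ∈ T.ST := hn _ (T.E_le_ST ⟨(A, B), ⟨?_, ?_⟩, rfl⟩)
    · have hw1 : IsConj T.s w := (isConj_iff.2 ⟨m, hm⟩).trans (isConj_iff.2 ⟨g, rfl⟩)
      have hw2 : IsConj T.s (w * T.t) := (isConj_iff.2 ⟨m', hm'⟩).trans (isConj_iff.2 ⟨g, by
        rw [hw]
        calc g * (u * T.t) * g⁻¹ = g * u * g⁻¹ * (g * T.t * g⁻¹) := by group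
          _ = _ := by rw [hgt]⟩)
      obtain ⟨v', i', j', hv', hty'⟩ := T.pair_type (T.ST_le hwST).1 (T.ST_le hwST).2
        (by rw [hw, show g * u * g⁻¹ * (g * u * g⁻¹) = g * (u * u) * g⁻¹ by group, hu2]; group)
        (fun h => hu1 (conj_eq_one_iff.1 h))
        (fun h => hut (mul_left_cancel (a := g) (mul_right_cancel (b := g⁻¹) (h.trans hgt.symm))))
      have conj_of : ∀ {a b : G}, MConj T.M a b → IsConj a b := fun ⟨k, _, hk⟩ => isConj_iff.2 ⟨k, hk⟩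
      rcases hty' with ⟨rfl, rfl, -⟩ | ⟨-, -, h, -⟩ | ⟨-, ⟨h, -⟩ | ⟨-, h⟩⟩
      · refine T.ST_K0 hwST ⟨v', ?_⟩
        rw [hv', T.c_one, mul_one]
      · exact absurd ((conj_of h).trans hw1.symm) hts
      · exact absurd ((conj_of h).trans hw1.symm) hts
      · exact absurd ((conj_of h).trans hw2.symm) hts
    · exact hq A hA
    · exact hq B hB
  refine T.nE_le_M hg fun e he => ?_
  obtain ⟨a, b, ha, hb, rfl⟩ := T.E_cases he
  obtain ⟨x, y, hx, hy, rfl⟩ := Q_two a ha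
  obtain ⟨x', y', hx', hy', rfl⟩ := Q_two b hb
  have hnI : -mI * -mI = -1 := by decide +kernel
  have hI : mI * mI = -1 := Q_small.2.2.2.2.1
  have hInI : mI * -mI = 1 := by decide +kernel
  rw [T.e2_split, show T.i1 (x * y) * T.i2 (x' * y') =
    T.e2 (x, mI) * T.e2 (y, -mI) * (T.e2 (mI, x') * T.e2 (-mI, y')) by
      rw [← map_mul, ← map_mul]
      show T.e2 (x * y, 1) * T.e2 (1, x' * y') = _
      rw [Prod.mk_mul_mk, Prod.mk_mul_mk, hInI],
    show g * (T.e2 (x, mI) * T.e2 (y, -mI) * (T.e2 (mI, x') * T.e2 (-mI, y'))) * g⁻¹ =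
      g * T.e2 (x, mI) * g⁻¹ * (g * T.e2 (y, -mI) * g⁻¹) *
        (g * T.e2 (mI, x') * g⁻¹ * (g * T.e2 (-mI, y') * g⁻¹)) by group]
  exact mul_mem (mul_mem (gen _ _ hx hI) (gen _ _ hy hnI)) (mul_mem (gen _ _ hI hx') (gen _ _ hnI hy'))

theorem ST_max_H {P : Subgroup G} (hP : IsPGroup 2 P) (hPH : P ≤ T.H) (hST : T.ST ≤ P) : P = T.ST := by
  haveI : Fact (Nat.Prime 2) := ⟨Nat.prime_two⟩
  by_contra hne
  obtain ⟨g, hg, hgS, hn⟩ := exists_norm_out hP (lt_of_le_of_ne hST (Ne.symm hne))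
  exact hgS (T.two_max hP hST hg (hPH hg) (T.norm_ST_M (hPH hg) hn))

theorem ST_max {P : Subgroup G} (hP : IsPGroup 2 P) (hST : T.ST ≤ P) : P = T.ST := by
  haveI : Fact (Nat.Prime 2) := ⟨Nat.prime_two⟩
  by_contra hne
  obtain ⟨g, hg, hgS, hn⟩ := exists_norm_out hP (lt_of_le_of_ne hST (Ne.symm hne))
  have hgH : g ∈ T.H := by
    set w := g * T.t * g⁻¹ with hw
    have hwS : w ∈ T.ST := hn _ T.t_ST
    have hwc : w ∈ centralizer (T.E : Set G) := by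
      refine mem_centralizer_iff.2 fun e he => ?_
      have heS : e ∈ T.ST := T.E_le_ST he
      have hmem : g⁻¹ * e * g ∈ T.ST := by
        have hfin : ∀ x ∈ T.ST, ∃ y ∈ T.ST, g * y * g⁻¹ = x := by
          let f : T.ST → T.ST := fun x => ⟨g * x * g⁻¹, hn x x.2⟩
          have hf : Function.Injective f := fun x y h => Subtype.ext
            (mul_left_cancel (mul_right_cancel (congrArg Subtype.val h)))
          intro x hx
          obtain ⟨y, hy⟩ := (Finite.injective_iff_surjective.1 hf) ⟨x, hx⟩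
          exact ⟨y, y.2, congrArg Subtype.val hy⟩
        obtain ⟨y, hy, hye⟩ := hfin e heS
        rw [← hye]
        simpa [mul_assoc] using hy
      have hc := mem_centralizer_singleton_iff.1 (T.ST_le hmem).1
      calc e * (g * T.t * g⁻¹) = g * (g⁻¹ * e * g * T.t) * g⁻¹ := by group
        _ = g * (T.t * (g⁻¹ * e * g)) * g⁻¹ := by rw [hc]
        _ = _ := by rw [hw]; group
    rcases T.cE_cases hwc with h | h
    · exact absurd (conj_eq_one_iff.1 h) T.t_ne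
    · rw [mem_centralizer_singleton_iff]
      exact mul_inv_eq_iff_eq_mul.1 h
  exact hgS (T.two_max hP hST hg hgH (T.norm_ST_M hgH hn))

theorem index_odd : ¬ 2 ∣ T.M.index := by
  haveI : Fact (Nat.Prime 2) := ⟨Nat.prime_two⟩
  obtain ⟨P, hP⟩ := T.ST_two.exists_le_sylow
  have h := P.not_dvd_index
  rw [T.ST_max P.isPGroup' hP] at h
  exact fun hd => h (hd.trans (index_dvd_of_le (T.ST_le.trans inf_le_right)))

/-- The classes of involutions of the subgroup. -/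
theorem invol_class {u : G} (hu : u ∈ T.M) (h2 : u * u = 1) (h1 : u ≠ 1) :
    MConj T.M T.t u ∨ MConj T.M T.s u := by
  haveI : Fact (Nat.Prime 2) := ⟨Nat.prime_two⟩
  have hX : IsPGroup 2 (zpowers (⟨u, hu⟩ : T.M)) := IsPGroup.of_card (n := 1) (by
    rw [Nat.card_zpowers, pow_one]
    exact orderOf_eq_prime (Subtype.ext (by simpa [pow_two] using h2)) fun h => h1 (congrArg Subtype.val h))
  obtain ⟨P, hP⟩ := hX.exists_le_sylow
  have hSle : T.ST ≤ T.M := T.ST_le.trans inf_le_right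
  obtain ⟨P0, hP0⟩ := (T.ST_two.comap_of_injective T.M.subtype T.M.subtype_injective :
    IsPGroup 2 (T.ST.subgroupOf T.M)).exists_le_sylow
  have hP0e : ∀ x : T.M, x ∈ P0 → (x : G) ∈ T.ST := fun x hx => by
    have h := T.ST_max (P := (P0 : Subgroup T.M).map T.M.subtype) (P0.isPGroup'.map _)
      (fun y hy => ⟨⟨y, hSle hy⟩, hP0 (mem_subgroupOf.2 hy), rfl⟩)
    rw [← h]; exact ⟨x, hx, rfl⟩
  obtain ⟨m, hm⟩ := MulAction.exists_smul_eq T.M P P0
  have hv : (m : G) * u * (m : G)⁻¹ ∈ T.ST := by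
    refine hP0e (m * ⟨u, hu⟩ * m⁻¹) ?_
    rw [← hm]
    exact (mem_smul_pointwise_iff_exists _ _ _).2 ⟨_, hP (mem_zpowers _), rfl⟩
  set v := (m : G) * u * (m : G)⁻¹ with hvd
  have back : ∀ a, MConj T.M a v → MConj T.M a u := by
    rintro a ⟨k, hk, hka⟩
    refine ⟨(m : G)⁻¹ * k, mul_mem (inv_mem m.2) hk, ?_⟩
    rw [show (m : G)⁻¹ * k * a * ((m : G)⁻¹ * k)⁻¹ = (m : G)⁻¹ * (k * a * k⁻¹) * m by group, hka, hvd]
    group
  by_cases hvt : v = T.t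
  · exact Or.inl (back _ ⟨1, one_mem _, by rw [hvt]; group⟩)
  obtain ⟨w, i, j, -, hty⟩ := T.pair_type (T.ST_le hv).1 (T.ST_le hv).2
    (by rw [hvd, show (m : G) * u * (m : G)⁻¹ * ((m : G) * u * (m : G)⁻¹) = (m : G) * (u * u) * (m : G)⁻¹ by group, h2]; group)
    (fun h => h1 (conj_eq_one_iff.1 h)) hvt
  rcases hty with ⟨-, -, h, -⟩ | ⟨-, -, h, -⟩ | ⟨-, ⟨h, -⟩ | ⟨h, -⟩⟩
  · exact Or.inr (back _ h)
  · exact Or.inl (back _ h)
  · exact Or.inl (back _ h)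
  · exact Or.inr (back _ h)

end Two

end CfsgLib.L43Rec
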