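import Cfsg.Agent.Lib.L43Rec.TwoInvD
import Cfsg.Agent.S0111

/-!
The centralizer of the involution lies in the subgroup.
-/

set_option autoImplicit false

namespace CfsgLib.L43Rec

open Subgroup Matrix CfsgLib.GoodPairs CfsgLib.PositiveBound

universe u

theorem cent_up : ∀ a : SL23, a * Par.upW 1 = Par.upW 1 * a → ∀ p : ZMod 3, a * Par.upW p = Par.upW p * a := by
  decide +kernel

theorem le_normalizer_map {G : Type u} [Group G] {L : Subgroup G} (W : Subgroup L) [hW : W.Normal] :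
    L ≤ normalizer ((W.map L.subtype : Subgroup G) : Set G) := by
  intro x hx
  have key : ∀ x ∈ L, ∀ y ∈ W.map L.subtype, x * y * x⁻¹ ∈ W.map L.subtype := by
    rintro x hx _ ⟨w, hw, rfl⟩
    exact ⟨⟨x, hx⟩ * w * ⟨x, hx⟩⁻¹, hW.conj_mem w hw _, rfl⟩
  refine mem_normalizer_iff.2 fun y => ⟨key x hx y, fun h => ?_⟩
  have := key x⁻¹ (inv_mem hx) _ h
  rwa [inv_inv, show x⁻¹ * (x * y * x⁻¹) * x = y by group] at this

namespace Two

variable {G : Type u} [Group G] (T : Two G)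

theorem c_uniq {v w : SL23 × SL23} {i j k l : Bool} (h : T.e2 v * T.c i j = T.e2 w * T.c k l) : i = k ∧ j = l := by
  have h' : T.c i j * T.c k l ∈ T.K0 := by
    refine ⟨v⁻¹ * w, ?_⟩
    calc T.e2 (v⁻¹ * w) = (T.e2 v)⁻¹ * (T.e2 w * T.c k l) * T.c k l := by
          rw [map_mul, map_inv, mul_assoc, mul_assoc, T.c_sq, mul_one]
      _ = _ := by rw [← h]; group
  rw [T.c_mul] at h'
  obtain ⟨a, b⟩ := T.c_K0 h'
  exact ⟨by cases i <;> cases k <;> simp_all, by cases j <;> cases l <;> simp_all⟩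

theorem conj_c_ne {h : G} (hh : h ∈ T.H) {i j : Bool} (hij : (i, j) ≠ (false, false)) :
    h * T.c i j * h⁻¹ ≠ 1 ∧ h * T.c i j * h⁻¹ ≠ T.t := by
  refine ⟨fun e => hij ?_, fun e => hij ?_⟩
  · obtain ⟨rfl, rfl⟩ := T.c_K0 (i := i) (j := j) (by rw [conj_eq_one_iff.1 e]; exact one_mem _)
    rfl
  · have e' : T.c i j = T.t := by
      rw [mul_inv_eq_iff_eq_mul, ← mem_centralizer_singleton_iff.1 hh] at e
      exact mul_left_cancel e
    obtain ⟨rfl, rfl⟩ := T.c_K0 (i := i) (j := j) (by rw [e', T.t_eq]; exact ⟨_, rfl⟩)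
    rfl

/-- The two-subgroup of index two cut out by a character. -/
noncomputable def Qχ (χ : Bool → Bool → Bool) (h0 : χ false false = false)
    (hχ : ∀ i j k l, χ (xor i k) (xor j l) = xor (χ i j) (χ k l)) : Subgroup T.H where
  carrier := {g | ∃ v : SL23 × SL23, (IsQ v.1 ∧ IsQ v.2) ∧ ∃ i j : Bool, χ i j = false ∧ (g : G) = T.e2 v * T.c i j}
  one_mem' := ⟨1, ⟨Q_small.2.2.2.1, Q_small.2.2.2.1⟩, false, false, h0, by
    rw [OneMemClass.coe_one, map_one, T.c_one, one_mul]⟩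
  mul_mem' := by
    rintro a b ⟨v, hv, i, j, hij, ea⟩ ⟨w, hw, k, l, hkl, eb⟩
    refine ⟨v * tw i j w, ⟨Q_facts.1 _ _ hv.1 (tw_Q hw i j).1, Q_facts.1 _ _ hv.2 (tw_Q hw i j).2⟩,
      xor i k, xor j l, by rw [hχ, hij, hkl]; rfl, ?_⟩
    rw [Subgroup.coe_mul, ea, eb, map_mul T.e2, ← T.c_mul]
    simp only [mul_assoc]
    rw [← mul_assoc (T.c i j) (T.e2 w), T.c_e2, mul_assoc]
  inv_mem' := by
    rintro a ⟨v, hv, i, j, hij, ea⟩
    refine ⟨tw i j v⁻¹, tw_Q (v := v⁻¹) ⟨Q_facts.2.1 v.1 hv.1, Q_facts.2.1 v.2 hv.2⟩ i j, i, j, hij, ?_⟩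
    rw [Subgroup.coe_inv, ea, _root_.mul_inv_rev, inv_eq_of_mul_eq_one_right (T.c_sq i j), ← map_inv, T.c_e2]

variable [Finite G]

theorem transfer_step (i0 j0 : Bool) (χ : Bool → Bool → Bool) (h0 : χ false false = false)
    (hχ : ∀ i j k l, χ (xor i k) (xor j l) = xor (χ i j) (χ k l)) (hi0 : χ i0 j0 = true)
    (hno : ∀ h ∈ T.H, ∀ v : SL23 × SL23, ∀ i j, χ i j = false → h * T.c i0 j0 * h⁻¹ ≠ T.e2 v * T.c i j) :
    ∃ N : Subgroup T.H, N.Normal ∧ N.index = 2 ∧ (⟨T.c i0 j0, T.c_H i0 j0⟩ : T.H) ∉ N := by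
  classical
  haveI : Fact (Nat.Prime 2) := ⟨Nat.prime_two⟩
  have hle : T.ST ≤ T.H := T.ST_le.trans inf_le_left
  obtain ⟨P, hP⟩ := (T.ST_two.comap_of_injective T.H.subtype T.H.subtype_injective :
    IsPGroup 2 (T.ST.subgroupOf T.H)).exists_le_sylow
  have hPe : (P : Subgroup T.H) = T.ST.subgroupOf T.H := le_antisymm (fun x hx => mem_subgroupOf.2 (by
    rw [← T.ST_max_H (P := (P : Subgroup T.H).map T.H.subtype) (P.isPGroup'.map _) (map_subtype_le _)
      (fun y hy => ⟨⟨y, hle hy⟩, hP (mem_subgroupOf.2 hy), rfl⟩)]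
    exact ⟨x, hx, rfl⟩)) hP
  set u : T.H := ⟨T.c i0 j0, T.c_H i0 j0⟩ with hu
  set Q := T.Qχ χ h0 hχ with hQ
  have huP : u ∈ (P : Subgroup T.H) := by rw [hPe]; exact mem_subgroupOf.2 (T.c_ST i0 j0)
  have huQ : u ∉ Q := by
    rintro ⟨v, -, i, j, hij, e⟩
    obtain ⟨h1, h2⟩ := T.c_uniq (v := 1) (w := v) (i := i0) (j := j0) (k := i) (l := j)
      (by rw [map_one, one_mul]; exact e)
    rw [← h1, ← h2, hi0] at hij; exact absurd hij (by decide)
  have hQP : Q ≤ (P : Subgroup T.H) := by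
    rintro x ⟨v, hv, i, j, -, e⟩
    rw [hPe, mem_subgroupOf]
    exact ⟨v, hv, i, j, e⟩
  have hidx : Q.relIndex (P : Subgroup T.H) = 2 := by
    rw [Subgroup.relIndex_eq_two_iff]
    refine ⟨u, huP, fun b hb => ?_⟩
    rw [hPe, mem_subgroupOf] at hb
    obtain ⟨v, hv, i, j, e⟩ := hb
    have e' : ((b * u : T.H) : G) = T.e2 v * T.c (xor i i0) (xor j j0) := by
      rw [Subgroup.coe_mul, e, hu, ← T.c_mul, mul_assoc]
    rw [xor_iff_iff_not]
    constructor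
    · rintro ⟨w, hw, k, l, hkl, e1⟩ ⟨w', hw', k', l', hkl', e2'⟩
      obtain ⟨rfl, rfl⟩ := T.c_uniq (e'.symm.trans e1)
      obtain ⟨rfl, rfl⟩ := T.c_uniq (e.symm.trans e2')
      rw [hχ, hkl', hi0] at hkl
      exact absurd hkl (by decide)
    · intro hnb
      refine ⟨v, hv, _, _, ?_, e'⟩
      rw [hχ, hi0]
      cases hc : χ i j
      · exact absurd ⟨v, hv, i, j, hc, e⟩ hnb
      · rfl
  have hu2 : orderOf u = 2 := orderOf_eq_prime (Subtype.ext (by
    rw [SubgroupClass.coe_pow, pow_two]; exact T.c_sq i0 j0)) (fun h => huQ (h ▸ one_mem Q))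
  rcases Cfsg.Agent.S0111.result P Q hQP hidx u hu2 huP huQ with h | ⟨g, v, -, i, j, hij, e⟩
  · exact h
  · exact absurd e (hno g g.2 v i j hij)

/-- The types forbid the fusions. -/
theorem no_fusion {h : G} (hh : h ∈ T.H) {v : SL23 × SL23} {i0 j0 i j : Bool} (h00 : (i0, j0) ≠ (false, false))
    (hq : h * T.c i0 j0 * h⁻¹ = T.e2 v * T.c i j)
    (hbad : (j0 = true ∧ j = false) ∨ (i0 = true ∧ j0 = false ∧ i = false)) : False := by
  have hts := T.not_conj_ts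
  set q := h * T.c i0 j0 * h⁻¹ with hqd
  have hqH : q ∈ T.H := mul_mem (mul_mem hh (T.c_H _ _)) (inv_mem hh)
  have hqM : q ∈ T.M := by rw [hq]; exact mul_mem (T.e2_M _) (T.c_M i j)
  obtain ⟨n1, n2⟩ := T.conj_c_ne hh h00
  obtain ⟨w, k, l, ew, hty⟩ := T.pair_type hqH hqM (by
    rw [hqd, show h * T.c i0 j0 * h⁻¹ * (h * T.c i0 j0 * h⁻¹) = h * (T.c i0 j0 * T.c i0 j0) * h⁻¹ by group, T.c_sq]
    group) n1 n2
  obtain ⟨rfl, rfl⟩ := T.c_uniq (hq.symm.trans ew)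
  have cm : ∀ {a b : G}, MConj T.M a b → IsConj a b := fun ⟨k, _, hk⟩ => isConj_iff.2 ⟨k, hk⟩
  have tr : ∀ {a b : G}, IsConj a (T.c i0 j0) ∧ IsConj b (T.c i0 j0 * T.t) → IsConj a q ∧ IsConj b (q * T.t) := by
    rintro a b ⟨ha, hb⟩
    refine ⟨ha.trans (isConj_iff.2 ⟨h, rfl⟩), hb.trans (isConj_iff.2 ⟨h, ?_⟩)⟩
    calc h * (T.c i0 j0 * T.t) * h⁻¹ = h * T.c i0 j0 * h⁻¹ * (h * T.t * h⁻¹) := by group
      _ = _ := by rw [mem_centralizer_singleton_iff.1 hh, mul_inv_cancel_right]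
  rcases hbad with ⟨rfl, rfl⟩ | ⟨rfl, rfl, rfl⟩
  · obtain ⟨a1, a2⟩ := tr ⟨cm (T.c_types.2 i0).1, cm (T.c_types.2 i0).2⟩
    rcases hty with ⟨-, -, h1, -⟩ | ⟨-, -, -, h2⟩ | ⟨h3, -⟩
    · exact hts (a1.trans (cm h1).symm)
    · exact hts ((cm h2).trans a2.symm)
    · exact absurd h3 (by decide)
  · obtain ⟨a1, a2⟩ := tr ⟨cm T.c_types.1.1, cm T.c_types.1.2⟩
    rcases hty with ⟨-, -, h1, -⟩ | ⟨h3, -⟩ | ⟨-, ⟨-, h2⟩ | ⟨h1, -⟩⟩
    · exact hts (a1.trans (cm h1).symm)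
    · exact absurd h3 (by decide)
    · exact hts (a2.trans (cm h2).symm)
    · exact hts (a1.trans (cm h1).symm)

theorem K0_le_normal {N : Subgroup T.H} (hi : N.index = 2) (v : SL23 × SL23) :
    (⟨T.e2 v, T.e2_H v⟩ : T.H) ∈ N := by
  let f : SL23 × SL23 →* T.H := T.e2.codRestrict T.H T.e2_H
  show f v ∈ N
  have cube : ∀ v : SL23 × SL23, v * v * v = 1 → f v ∈ N := fun v hv => by
    have e : v = (v * v) * (v * v) := by rw [← mul_assoc, hv, one_mul]
    rw [e, map_mul]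
    exact mul_self_mem_of_index_two hi _
  have key : ∀ a : SL23, f (a, 1) ∈ N ∧ f (1, a) ∈ N := by
    intro a
    induction a using sl_induction with
    | h1 => exact ⟨by rw [show ((1, 1) : SL23 × SL23) = 1 from rfl, map_one]; exact one_mem _,
        by rw [show ((1, 1) : SL23 × SL23) = 1 from rfl, map_one]; exact one_mem _⟩
    | hI g ih =>
      obtain ⟨x, y, hx, hy, e⟩ := mI_split
      refine ⟨?_, ?_⟩
      · rw [e, show (x * y * g, (1 : SL23)) = (x, 1) * (y, 1) * (g, 1) by simp, map_mul, map_mul]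
        exact mul_mem (mul_mem (cube _ (Prod.ext hx (by simp))) (cube _ (Prod.ext hy (by simp)))) ih.1
      · rw [e, show ((1 : SL23), x * y * g) = (1, x) * (1, y) * (1, g) by simp, map_mul, map_mul]
        exact mul_mem (mul_mem (cube _ (Prod.ext (by simp) hx)) (cube _ (Prod.ext (by simp) hy))) ih.2
    | hU g ih =>
      refine ⟨?_, ?_⟩
      · rw [show (mU * g, (1 : SL23)) = (mU, 1) * (g, 1) by simp, map_mul]
        exact mul_mem (cube _ (Prod.ext sl_rels.2.2.2.2.2.2.2.2.2.2.2.2 (by simp))) ih.1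
      · rw [show ((1 : SL23), mU * g) = (1, mU) * (1, g) by simp, map_mul]
        exact mul_mem (cube _ (Prod.ext (by simp) sl_rels.2.2.2.2.2.2.2.2.2.2.2.2)) ih.2
  rw [show v = (v.1, 1) * (1, v.2) by ext <;> simp, map_mul]
  exact mul_mem (key v.1).1 (key v.2).2

theorem exists_K : ∃ K : Subgroup T.H, K.Normal ∧ (∀ v, (⟨T.e2 v, T.e2_H v⟩ : T.H) ∈ K) ∧
    (∀ i j, (⟨T.c i j, T.c_H i j⟩ : T.H) ∈ K → i = false ∧ j = false) ∧
    ∀ h : T.H, ∃ i j, h * ⟨T.c i j, T.c_H i j⟩ ∈ K := by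
  obtain ⟨N1, n1, x1, u1⟩ := T.transfer_step false true (fun _ j => j) rfl (fun _ _ _ _ => rfl) rfl
    fun h hh v i j hj e => T.no_fusion hh (by decide) e (Or.inl ⟨rfl, hj⟩)
  obtain ⟨N2, n2, x2, u2⟩ := T.transfer_step true false (fun i _ => i) rfl (fun _ _ _ _ => rfl) rfl
    fun h hh v i j hi e => T.no_fusion hh (by decide) e (Or.inr ⟨rfl, rfl, hi⟩)
  obtain ⟨N3, n3, x3, u3⟩ := T.transfer_step true true (fun _ j => j) rfl (fun _ _ _ _ => rfl) rfl
    fun h hh v i j hj e => T.no_fusion hh (by decide) e (Or.inl ⟨rfl, hj⟩)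
  set C : Bool → Bool → T.H := fun i j => ⟨T.c i j, T.c_H i j⟩ with hC
  have hmul : ∀ i j k l, C i j * C k l = C (xor i k) (xor j l) := fun i j k l => Subtype.ext (T.c_mul i j k l)
  have h1 : C false false = 1 := Subtype.ext T.c_one
  have hd : C true true = C true false * C false true := (hmul true false false true).symm
  -- a pair of index-two subgroups separating the cosets
  have build : ∀ (A B : Subgroup T.H), A.index = 2 → B.index = 2 → A.Normal → B.Normal →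
      ∀ a b : Bool × Bool, C a.1 a.2 ∈ A → C a.1 a.2 ∉ B → C b.1 b.2 ∉ A →
        (∀ i j, C i j ∈ A → (i, j) = (false, false) ∨ (i, j) = a) →
      ∃ K : Subgroup T.H, K.Normal ∧ (∀ v, (⟨T.e2 v, T.e2_H v⟩ : T.H) ∈ K) ∧
        (∀ i j, C i j ∈ K → i = false ∧ j = false) ∧ ∀ h : T.H, ∃ i j, h * C i j ∈ K := by
    intro A B hA hB nA nB a b haA haB hbA honly
    refine ⟨A ⊓ B, inferInstance, fun v => ⟨T.K0_le_normal hA v, T.K0_le_normal hB v⟩, fun i j hij => ?_, fun h => ?_⟩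
    · rcases honly i j hij.1 with e | e
      · exact Prod.mk.inj e
      · subst e; exact absurd hij.2 haB
    · obtain ⟨k, l, hk⟩ : ∃ k l, h * C k l ∈ A := by
        by_cases hh : h ∈ A
        · exact ⟨false, false, by rwa [h1, mul_one]⟩
        · exact ⟨b.1, b.2, (mul_mem_iff_of_index_two hA).2 (iff_of_false hh hbA)⟩
      by_cases hk' : h * C k l ∈ B
      · exact ⟨k, l, hk, hk'⟩
      · refine ⟨xor k a.1, xor l a.2, ?_⟩
        rw [← hmul, ← mul_assoc]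
        exact ⟨mul_mem hk haA, (mul_mem_iff_of_index_two hB).2 (iff_of_false hk' haB)⟩
  by_cases hδ : C true false ∈ N1
  · have hσδ : C true true ∉ N1 := fun h => u1 ((mul_mem_cancel_left hδ).1 (hd ▸ h))
    refine build N1 N2 x1 x2 n1 n2 (true, false) (false, true) hδ u2 u1 fun i j h => ?_
    cases i <;> cases j
    · exact Or.inl rfl
    · exact absurd h u1
    · exact Or.inr rfl
    · exact absurd h hσδ
  · have hσδ : C true true ∈ N1 := hd ▸ (mul_mem_iff_of_index_two x1).2 (iff_of_false hδ u1)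
    refine build N1 N3 x1 x3 n1 n3 (true, true) (false, true) hσδ u3 u1 fun i j h => ?_
    cases i <;> cases j
    · exact Or.inl rfl
    · exact absurd h u1
    · exact absurd h hδ
    · exact Or.inr rfl

/-- The centralizer of the involution. -/
theorem H_le_M : T.H ≤ T.M := by
  classical
  haveI : Fact (Nat.Prime 3) := ⟨Nat.prime_three⟩
  obtain ⟨K, hKn, hK0, hKc, hKh⟩ := T.exists_K
  set L : Subgroup G := K.map T.H.subtype with hL
  have hLH : L ≤ T.H := map_subtype_le _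
  have hK0L : T.K0 ≤ L := by rintro _ ⟨v, rfl⟩; exact ⟨_, hK0 v, rfl⟩
  have hLM : ∀ x ∈ L, x ∈ T.M → x ∈ T.K0 := by
    intro x hx hM
    obtain ⟨v, i, j, rfl⟩ := T.H_cases (hLH hx) hM
    have hc : T.c i j ∈ L := by
      have := mul_mem (inv_mem (hK0L (⟨v, rfl⟩ : T.e2 v ∈ T.K0))) hx
      rwa [inv_mul_cancel_left] at this
    obtain ⟨y, hy, hye⟩ := hc
    obtain ⟨rfl, rfl⟩ := hKc i j (by rwa [show (⟨T.c i j, T.c_H i j⟩ : T.H) = y from Subtype.ext hye.symm])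
    exact ⟨v, by rw [T.c_one, mul_one]⟩
  have hTL : T.T9 ≤ L := fun x hx => hK0L (by obtain ⟨a, rfl⟩ := hx; exact ⟨_, rfl⟩)
  obtain ⟨P, hP⟩ := (IsPGroup.of_card (p := 3) (n := 2) (G := (T.T9.subgroupOf L)) (by
    rw [Nat.card_congr (subgroupOfEquivOfLe hTL).toEquiv, T.card_T9]; norm_num)).exists_le_sylow
  have hPe : (P : Subgroup L) = T.T9.subgroupOf L := by
    refine (eq_of_le_of_card_ge hP ?_).symm
    rw [Nat.card_congr (subgroupOfEquivOfLe hTL).toEquiv, T.card_T9]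
    have h := (T.three_K0 (X := (P : Subgroup L).map L.subtype) (P.isPGroup'.map _) ((map_subtype_le _).trans hLH)
      ⟨⟨T.r, hTL T.r_T9⟩, hP (mem_subgroupOf.2 T.r_T9), rfl⟩).2
    rwa [card_map_of_injective L.subtype_injective] at h
  have hNC : normalizer (P : Set L) ≤ centralizer (P : Set L) := by
    intro g hg
    have hconj : ∀ x ∈ T.T9, (g : G) * x * (g : G)⁻¹ ∈ T.T9 := fun x hx => by
      have := (mem_normalizer_iff.1 hg ⟨x, hTL hx⟩).1 (by rw [hPe]; exact mem_subgroupOf.2 hx)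
      rw [hPe] at this
      exact mem_subgroupOf.1 this
    have hgM : (g : G) ∈ T.M := by
      have := (T.good3 (T.e2_M _) (T.T9_three T.r_T9) T.r_ne).2 (g : G)⁻¹ (by
        rw [inv_inv]; exact (T.T9_le (hconj _ T.r_T9)).2)
      exact inv_mem_iff.1 this
    obtain ⟨⟨a, b⟩, hab⟩ := hLM _ g.2 hgM
    have key : ∀ v : SL23 × SL23, T.e2 v ∈ T.T9 → ∀ p q, T.e2 (a, b) * T.e2 (p, q) * (T.e2 (a, b))⁻¹ = T.e2 v →
        (∃ i, a * p = Par.upW i * a ∨ a * p = -1 * Par.upW i * a) ∧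
          ∃ i, b * q = Par.upW i * b ∨ b * q = -1 * Par.upW i * b := by
      rintro v ⟨z, hz⟩ p q e
      rw [← hz, mul_inv_eq_iff_eq_mul, ← map_mul] at e
      change T.e2 _ = T.e2 (Par.upW z.toAdd.1, Par.upW z.toAdd.2) * T.e2 (a, b) at e
      rw [← map_mul, T.e2_eq] at e
      rcases e with e | e
      · exact ⟨⟨_, Or.inl (Prod.mk.inj e).1⟩, ⟨_, Or.inl (Prod.mk.inj e).2⟩⟩
      · refine ⟨⟨z.toAdd.1, Or.inr ?_⟩, ⟨z.toAdd.2, Or.inr ?_⟩⟩
        · rw [mul_assoc, neg_one_mul]; exact (Prod.mk.inj e).1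
        · rw [mul_assoc, neg_one_mul]; exact (Prod.mk.inj e).2
    have hr1 : T.e2 (Par.upW 1, 1) ∈ T.T9 := T.r_T9
    have hr2 : T.e2 (1, Par.upW 1) ∈ T.T9 := ⟨Multiplicative.ofAdd (0, 1), congrArg T.e2 (Prod.ext upW_zero rfl)⟩
    have hc1 := hconj _ hr1
    have hc2 := hconj _ hr2
    rw [← hab] at hc1 hc2
    have ha : a * Par.upW 1 = Par.upW 1 * a := by
      obtain ⟨w, hw⟩ := hc1
      exact norm_U a ((key _ (⟨w, rfl⟩ : T.τ w ∈ T.T9) _ _ hw.symm).1)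
    have hb : b * Par.upW 1 = Par.upW 1 * b := by
      obtain ⟨w, hw⟩ := hc2
      exact norm_U b ((key _ (⟨w, rfl⟩ : T.τ w ∈ T.T9) _ _ hw.symm).2)
    refine mem_centralizer_iff.2 fun x hx => ?_
    have hx' : (x : L) ∈ T.T9.subgroupOf L := by rw [← hPe]; exact hx
    obtain ⟨z, hz⟩ := mem_subgroupOf.1 hx'
    refine Subtype.ext ?_
    rw [Subgroup.coe_mul, Subgroup.coe_mul, ← hz, ← hab]
    show T.e2 (Par.upW z.toAdd.1, Par.upW z.toAdd.2) * T.e2 (a, b) = T.e2 (a, b) * T.e2 _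
    rw [← map_mul, ← map_mul]
    exact congrArg T.e2 (Prod.ext (cent_up a ha _).symm (cent_up b hb _).symm)
  set W := (MonoidHom.transferSylow P hNC).ker with hW
  have hWM : W.map L.subtype ≤ T.M := by
    refine T.coprime_le_M ?_ ?_
    · exact hTL.trans (le_normalizer_map W)
    · rw [card_map_of_injective L.subtype_injective]
      exact MonoidHom.not_dvd_card_ker_transferSylow P hNC
  have hLle : L ≤ T.M := by
    intro x hx
    obtain ⟨w, hw, p, hp, e⟩ : ∃ w ∈ W, ∃ p ∈ (P : Subgroup L), w * p = (⟨x, hx⟩ : L) := by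
      obtain ⟨⟨⟨w, hw⟩, ⟨p, hp⟩⟩, e⟩ := (MonoidHom.ker_transferSylow_isComplement' P hNC).2 ⟨x, hx⟩
      exact ⟨w, hw, p, hp, e⟩
    rw [show x = (w : G) * (p : G) from (congrArg Subtype.val e).symm]
    rw [hPe] at hp
    exact mul_mem (hWM ⟨w, hw, rfl⟩) (T.T9_le (mem_subgroupOf.1 hp)).2
  intro h hh
  obtain ⟨i, j, hij⟩ := hKh ⟨h, hh⟩
  have := mul_mem (hLle ⟨_, hij, rfl⟩) (inv_mem (T.c_M i j))
  simpa using this

/-- The order bound. -/
theorem cc_t : cc T.t ≤ 1152 := by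
  classical
  show Nat.card T.H ≤ 1152
  have hK : Nat.card T.K0 ≤ 288 := by
    have h := card_mul_index T.e2.ker
    rw [index_ker, Nat.card_prod, show Nat.card SL23 = 24 by rw [Nat.card_eq_fintype_card]; decide +kernel] at h
    have h2 : 2 ≤ Nat.card T.e2.ker := by
      have : Nontrivial T.e2.ker := ⟨⟨⟨(-1, -1), T.e2_one.2 (Or.inr rfl)⟩, 1, fun e =>
        Q_small.2.2.2.2.2.2.2.2 (congrArg Prod.fst (congrArg Subtype.val e))⟩⟩
      exact Finite.one_lt_card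
    have h3 : 2 * Nat.card T.K0 ≤ Nat.card T.e2.ker * Nat.card T.K0 := Nat.mul_le_mul_right _ h2
    rw [h] at h3
    omega
  let f : T.K0 × (Bool × Bool) → G := fun x => (x.1 : G) * T.c x.2.1 x.2.2
  have hsub : (T.H : Set G) ⊆ Set.range f := fun g hg => by
    obtain ⟨v, i, j, rfl⟩ := T.H_cases hg (T.H_le_M hg)
    exact ⟨(⟨_, v, rfl⟩, i, j), rfl⟩
  refine ((Nat.card_mono (Set.toFinite _) hsub).trans (Finite.card_range_le f)).trans ?_
  rw [Nat.card_prod, Nat.card_prod, Nat.card_eq_fintype_card (α := Bool), Fintype.card_bool]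
  omega

end Two

end CfsgLib.L43Rec
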