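import Cfsg.Agent.Lib.L43Rec.TwoAlign
import Cfsg.Agent.Lib.CTRec.TypeAMain

/-!
The subgroup generated by the two normalizers is PSL(4,3).
-/

set_option autoImplicit false

namespace CfsgLib.L43Rec

open Subgroup Matrix CfsgLib.CTRec CfsgLib.CTRec.TypeA
open scoped commutatorElement

universe u

/-- The lower block of the point stabilizer. -/
def emB : SL33' →* Ph0 where
  toFun M := mk0 M 0
  map_one' := Ph0_ext (by rw [pM_mk0, map_one]) (by
    rw [pa_mk0]; funext j; simp [pa, Matrix.one_apply, (Fin.succ_ne_zero j).symm])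
  map_mul' M N := Ph0_ext (by rw [pM_mk0, map_mul, pM_mk0, pM_mk0]) (by
    rw [pa_mk0, pa_mul, pa_mk0, pa_mk0, Matrix.zero_vecMul, add_zero])

theorem emb_row (M : SL33') (j : Fin 4) : (emb 3 M).1 3 j = if j = 3 then 1 else 0 := by
  rw [emb_val]
  induction j using Fin.lastCases with
  | last => rw [show (3 : Fin 4) = Fin.last 3 from rfl, embM_ll]; simp
  | cast j => rw [show (3 : Fin 4) = Fin.last 3 from rfl, embM_lc, if_neg (Fin.castSucc_ne_last j)]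

theorem emb_mem (M : SL33') : emb 3 M ∈ Ph3 := by
  show (dual (emb 3 M)) ∈ Ph0
  have hd : (dual (emb 3 M)).1 = Jm * (emb 3 M⁻¹).1ᵀ * Jmᵀ := by rw [map_inv]; rfl
  have r := emb_row M⁻¹
  obtain ⟨A, hA, hr⟩ : ∃ A : Matrix (Fin 4) (Fin 4) (ZMod 3),
      (dual (emb 3 M)).1 = Jm * Aᵀ * Jmᵀ ∧ ∀ j, A 3 j = if j = 3 then 1 else 0 := ⟨_, hd, r⟩
  refine ⟨?_, ?_, ?_, ?_⟩ <;>
    simp [hA, Jm, Matrix.mul_apply, Matrix.vecMul, dotProduct, Fin.sum_univ_four, hr]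

/-- The upper block in the stabilizer of the last functional. -/
def emA : SL33' →* Ph3 := (emb 3).codRestrict Ph3 emb_mem

theorem blk_facts : (∀ W : SL23, (emb 3 (blkB W)).1 = (cel 0 0 0 0 0 W).1.1 ∧ (emB (blkA W)).1.1 = (cel 0 0 0 0 0 W).1.1) ∧
    (∀ t : ZMod 3, (emb 3 (blkA (uu t))).1 = (cel t 0 0 0 0 1).1.1) ∧
    (∀ t : ZMod 3, (emB (blkB (uu t))).1.1 = (cel 0 0 0 0 t 1).1.1) := by decide +kernel

theorem far_facts : (∀ t : ZMod 3, ∀ V : SL23, (cel t 0 0 0 0 1 * emB (blkB V)).1.1 = (emB (blkB V) * cel t 0 0 0 0 1).1.1) ∧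
    (∀ t s : ZMod 3, (emb 3 (blkA (ll t))).1 * (cel 0 0 0 0 s 1).1.1 =
      (cel 0 0 0 0 s 1).1.1 * (emb 3 (blkA (ll t))).1) := by decide +kernel

/-- An upper block permutation. -/
def mel4 : SL43 := emb 3 (blkA mI)

theorem chain_facts : mel4.1 * (cel 0 1 0 0 0 1).1.1 = (cel 0 0 0 0 0 mU).1.1 * mel4.1 ∧
    mel4.1 * (cel 0 0 1 0 0 1).1.1 = (cel 0 0 0 1 0 1).1.1 * mel4.1 ∧
    (nel * cel 0 0 0 1 0 1).1.1 = (cel 0 0 0 0 0 mU * nel).1.1 ∧
    (∀ t : ZMod 3, (emb 3 (blkA (ll t))).1 * mel4.1 = mel4.1 * (cel (-t) 0 0 0 0 1).1.1) ∧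
    (∀ t : ZMod 3, (cel t 0 0 0 0 1 * nel).1.1 = (nel * cel t 0 0 0 0 1).1.1) ∧
    (∀ t : ZMod 3, (emB (blkB (ll t)) * nel).1.1 = (nel * cel 0 0 0 0 (-t) 1).1.1) ∧
    (∀ s : ZMod 3, mel4.1 * (cel 0 0 0 0 s 1).1.1 = (cel 0 0 0 0 s 1).1.1 * mel4.1) ∧
    (∀ t : ZMod 3, (n3 : SL43).1 * (emb 3 (blkA (ll t))).1 = (emb 3 (blkA (ll t))).1 * (n3 : SL43).1) ∧
    (∀ t : ZMod 3, (s0 * emB (blkB (ll t))).1.1 = (emB (blkB (ll t)) * s0).1.1) ∧
    (cel 0 0 1 0 0 1).1.1 = e03.1.1 := by decide +kernel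

theorem s0_mU : (s0 * cel 0 0 0 0 0 mU).1.1 = (cel 0 0 0 0 0 mU * cel 0 0 0 0 0 mU * s0).1.1 ∧
    (cel 0 0 0 0 0 mU * cel 0 0 0 0 0 mU * cel 0 0 0 0 0 mU).1.1 = 1 := by decide +kernel

theorem tv_emB (i j : Fin 3) (h : i ≠ j) (t : ZMod 3) : (emB (tv i j t)).1 = tv i.succ j.succ t := by
  refine Subtype.ext ?_
  show mkM (tv i j t) 0 = _
  rw [tv_val ((Fin.succ_injective _).ne h)]
  ext a b
  refine Fin.cases ?_ (fun a => ?_) a <;> refine Fin.cases ?_ (fun b => ?_) b <;>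
    simp [mkM, tv_val h, Matrix.one_apply, Matrix.single_apply, Fin.succ_inj, (Fin.succ_ne_zero _).symm,
      Fin.succ_ne_zero]

theorem tv_top (j : Fin 3) (t : ZMod 3) : (mk0 1 (Pi.single j t)).1 = tv 0 j.succ t := by
  refine Subtype.ext ?_
  show mkM 1 (Pi.single j t) = _
  rw [tv_val (Fin.succ_ne_zero j).symm]
  ext a b
  refine Fin.cases ?_ (fun a => ?_) a <;> refine Fin.cases ?_ (fun b => ?_) b <;>
    simp [mkM, Matrix.one_apply, Matrix.single_apply, Fin.succ_inj, (Fin.succ_ne_zero _).symm, Fin.succ_ne_zero,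
      Pi.single_apply, eq_comm]

/-- The scalar `-1`. -/
def ng4 : SL43 := ⟨-1, by decide +kernel⟩

theorem ng4_val : ng4.1 = -1 := rfl

theorem center_four : ∀ a : ZMod 3, a ^ 4 = 1 → a = 1 ∨ a = -1 := by decide

namespace Two

variable {G : Type u} [Group G] (T : Two G)

/-- The centre. -/
abbrev D : Setting G := T.S.D

theorem conj_core {g h : G} (e : g * T.D.z * g⁻¹ = h * T.D.z * h⁻¹) : (T.D.conj g).Q = (T.D.conj h).Q := by
  have key : ∀ {g h : G}, g * T.D.z * g⁻¹ = h * T.D.z * h⁻¹ → (T.D.conj g).Q ≤ (T.D.conj h).Q := by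
    rintro g h e _ ⟨q, hq, rfl⟩
    have hC : h⁻¹ * g ∈ T.D.Ct := by
      rw [T.D.mem_Ct]
      calc h⁻¹ * g * T.D.z = h⁻¹ * (g * T.D.z * g⁻¹) * g := by group
        _ = _ := by rw [e]; group
    refine ⟨h⁻¹ * g * q * (h⁻¹ * g)⁻¹, T.D.conj_Q hC hq, ?_⟩
    show h * _ * h⁻¹ = g * q * g⁻¹
    group
  exact le_antisymm (key e) (key e.symm)

theorem Ψ_p {g : Ph3} {a1 a2 a3 : ZMod 3} (h : g.1.1 = (cel a1 a2 a3 0 0 1).1.1) :
    T.Ψ g = T.S.Φ (cel a1 a2 a3 0 0 1) := by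
  rw [← T.agree_p]; exact congrArg T.Ψ (Subtype.ext (Subtype.ext h))

theorem Ψ_q {g : Ph3} {c1 c2 : ZMod 3} (h : g.1.1 = (cel 0 0 0 c1 c2 1).1.1) :
    T.Ψ g = T.S.Φ (cel 0 0 0 c1 c2 1) := by
  rw [← T.agree_q]; exact congrArg T.Ψ (Subtype.ext (Subtype.ext h))

theorem Ψ_w {g : Ph3} {W : SL23} (h : g.1.1 = (cel 0 0 0 0 0 W).1.1) : T.Ψ g = T.S.Φ (cel 0 0 0 0 0 W) := by
  rw [← T.agree_w]; exact congrArg T.Ψ (Subtype.ext (Subtype.ext h))

/-- The far root groups commute. -/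
theorem far_comm (t t' : ZMod 3) : Commute (T.Ψ (emA (blkA (ll t)))) (T.S.Φ (emB (blkB (ll t')))) := by
  obtain ⟨c1, c2, c3, c4, c5, c6, c7, c8, c9, c11⟩ := chain_facts
  set a := T.Ψ (emA (blkA (ll t))) with ha
  set b := T.S.Φ (emB (blkB (ll t'))) with hb
  set m : Ph3 := ⟨mel4, emb_mem _⟩ with hm
  set n := T.S.Φ nel with hn
  set e := T.S.Φ (cel 0 0 0 0 0 mU) with he
  have hnz : n * T.D.z * n⁻¹ = T.S.Φ (cel 0 1 0 0 0 1) := by
    rw [mul_inv_eq_iff_eq_mul, hn, ← T.S.Φ_z, ← map_mul, ← map_mul]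
    exact T.S.eq_of nel_facts.2.1
  have hg : (T.Ψ m * n) * T.D.z * (T.Ψ m * n)⁻¹ = e := by
    rw [show T.Ψ m * n * T.D.z * (T.Ψ m * n)⁻¹ = T.Ψ m * (n * T.D.z * n⁻¹) * (T.Ψ m)⁻¹ by group, hnz,
      mul_inv_eq_iff_eq_mul, he, ← T.agree_p, ← T.agree_w, ← map_mul, ← map_mul]
    exact congrArg T.Ψ (Subtype.ext (Subtype.ext c1))
  have hmz : T.Ψ m * T.D.z * (T.Ψ m)⁻¹ = T.S.Φ (cel 0 0 0 1 0 1) := by
    rw [mul_inv_eq_iff_eq_mul, show T.D.z = T.S.Φ (cel 0 0 1 0 0 1) by rw [← T.S.Φ_z]; exact T.S.eq_of c11.symm,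
      ← T.agree_p, ← T.agree_q, ← map_mul, ← map_mul]
    exact congrArg T.Ψ (Subtype.ext (Subtype.ext c2))
  have hh : (n * T.Ψ m) * T.D.z * (n * T.Ψ m)⁻¹ = e := by
    rw [show n * T.Ψ m * T.D.z * (n * T.Ψ m)⁻¹ = n * (T.Ψ m * T.D.z * (T.Ψ m)⁻¹) * n⁻¹ by group, hmz,
      mul_inv_eq_iff_eq_mul, hn, he, ← map_mul, ← map_mul]
    exact T.S.eq_of c3
  set D' := T.D.conj (T.Ψ m * n) with hD'
  have ha' : a ∈ D'.Q := by
    refine ⟨T.S.Φ (cel (-t) 0 0 0 0 1), (T.S.cel_Q _ _ _ _ _).1, ?_⟩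
    show (T.Ψ m * n) * T.S.Φ (cel (-t) 0 0 0 0 1) * (T.Ψ m * n)⁻¹ = a
    have e1 : n * T.S.Φ (cel (-t) 0 0 0 0 1) * n⁻¹ = T.S.Φ (cel (-t) 0 0 0 0 1) := by
      rw [mul_inv_eq_iff_eq_mul, hn, ← map_mul, ← map_mul]; exact T.S.eq_of (c5 (-t)).symm
    rw [show T.Ψ m * n * T.S.Φ (cel (-t) 0 0 0 0 1) * (T.Ψ m * n)⁻¹ =
      T.Ψ m * (n * T.S.Φ (cel (-t) 0 0 0 0 1) * n⁻¹) * (T.Ψ m)⁻¹ by group, e1, mul_inv_eq_iff_eq_mul, ha,
      ← T.agree_p, ← map_mul, ← map_mul]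
    exact congrArg T.Ψ (Subtype.ext (Subtype.ext (c4 t).symm))
  have hb' : b ∈ D'.Q := by
    rw [hD', T.conj_core (hg.trans hh.symm)]
    refine ⟨T.S.Φ (cel 0 0 0 0 (-t') 1), (T.S.cel_Q _ _ _ _ _).1, ?_⟩
    show (n * T.Ψ m) * T.S.Φ (cel 0 0 0 0 (-t') 1) * (n * T.Ψ m)⁻¹ = b
    have e1 : T.Ψ m * T.S.Φ (cel 0 0 0 0 (-t') 1) * (T.Ψ m)⁻¹ = T.S.Φ (cel 0 0 0 0 (-t') 1) := by
      rw [mul_inv_eq_iff_eq_mul, ← T.agree_q, ← map_mul, ← map_mul]
      exact congrArg T.Ψ (Subtype.ext (Subtype.ext (c7 (-t'))))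
    rw [show n * T.Ψ m * T.S.Φ (cel 0 0 0 0 (-t') 1) * (n * T.Ψ m)⁻¹ =
      n * (T.Ψ m * T.S.Φ (cel 0 0 0 0 (-t') 1) * (T.Ψ m)⁻¹) * n⁻¹ by group, e1, mul_inv_eq_iff_eq_mul, hn, hb,
      ← map_mul, ← map_mul]
    exact T.S.eq_of (c6 t').symm
  have hcm : a * b * a⁻¹ * b⁻¹ ∈ D'.Zc := D'.Q_comm a ha' b hb'
  set c := a * b * a⁻¹ * b⁻¹ with hc
  set s := T.S.Φ s0 with hs
  have hsa : Commute s a := by
    rw [hs, ← T.agree_n, ha]
    exact Commute.map (show Commute n3 (emA (blkA (ll t))) from Subtype.ext (Subtype.ext (c8 t))) T.Ψ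
  have hsb : Commute s b := by
    rw [hs, hb]
    exact Commute.map (show Commute s0 (emB (blkB (ll t'))) from Par.ph_ext (c9 t')) T.S.Φ
  have hsc : Commute s c := ((hsa.mul_right hsb).mul_right hsa.inv_right).mul_right hsb.inv_right
  have hse : SemiconjBy s e (e * e) := by
    show s * e = e * e * s
    rw [hs, he, ← map_mul, ← map_mul, ← map_mul]; exact T.S.eq_of s0_mU.1
  have he3 : e * e * e = 1 := by
    rw [he, ← map_mul, ← map_mul, ← map_one T.S.Φ]; exact T.S.eq_of s0_mU.2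
  obtain ⟨i, -, hi⟩ := D'.mem_Zc.1 hcm
  rw [hD', Setting.conj_z, hg] at hi
  have h1 := (hse.pow_right i).eq
  rw [← hi, hsc.eq] at h1
  have h2 : c = (e * e) ^ i := mul_right_cancel h1
  have h3 : c = c * c := by
    conv_lhs => rw [h2, ← pow_two, ← pow_mul, mul_comm, pow_mul, ← hi]
    rw [pow_two]
  have h4 : a * b * a⁻¹ * b⁻¹ = 1 := left_eq_mul.1 h3
  exact mul_inv_eq_iff_eq_mul.1 (mul_inv_eq_one.1 h4)

theorem exists_mu : ∃ μ : SL43 →* G, (∀ t : ZMod 3, μ (tv 0 1 t) = T.Ψ (emA (blkA (uu t)))) ∧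
    (∀ t : ZMod 3, μ (tv 1 2 t) = T.S.Φ (emB (blkA (uu t))) ∧ μ (tv 2 1 t) = T.S.Φ (emB (blkA (ll t)))) ∧
    (∀ t : ZMod 3, μ (tv 2 3 t) = T.S.Φ (emB (blkB (uu t))) ∧ μ (tv 3 2 t) = T.S.Φ (emB (blkB (ll t)))) := by
  let φ : ℕ → SL23 →* G := fun j =>
    if j = 0 then T.Ψ.comp (emA.comp blkA) else if j = 1 then T.S.Φ.comp (emB.comp blkA) else T.S.Φ.comp (emB.comp blkB)
  have hψ : ∀ j, j + 1 < 3 → ∃ ψ : SL33' →* G, ψ.comp blkA = φ j ∧ ψ.comp blkB = φ (j + 1) := by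
    intro j hj
    rcases (by omega : j = 0 ∨ j = 1) with rfl | rfl
    · refine ⟨T.Ψ.comp emA, rfl, MonoidHom.ext fun W => ?_⟩
      show T.Ψ (emA (blkB W)) = T.S.Φ (emB (blkA W))
      rw [T.Ψ_w (blk_facts.1 W).1]
      exact T.S.eq_of (blk_facts.1 W).2.symm
    · exact ⟨T.S.Φ.comp emB, rfl, rfl⟩
  have key : ∀ V : SL23, ∀ W : SL23, Commute (T.Ψ (emA (blkA V))) (T.S.Φ (emB (blkB W))) := by
    intro V W
    refine mem_of_gens ((centralizer ({T.S.Φ (emB (blkB W))} : Set G)).comap (T.Ψ.comp (emA.comp blkA)))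
      (fun t => ?_) (fun t => ?_) V |> fun h => mem_centralizer_singleton_iff.1 h
    · rw [mem_comap, mem_centralizer_singleton_iff]
      show T.Ψ (emA (blkA (uu t))) * _ = _ * T.Ψ (emA (blkA (uu t)))
      rw [T.Ψ_p (blk_facts.2.1 t), ← map_mul, ← map_mul]
      exact T.S.eq_of (far_facts.1 t W)
    · rw [mem_comap, mem_centralizer_singleton_iff]
      show Commute (T.Ψ (emA (blkA (ll t)))) (T.S.Φ (emB (blkB W)))
      refine mem_of_gens ((centralizer ({T.Ψ (emA (blkA (ll t)))} : Set G)).comap (T.S.Φ.comp (emB.comp blkB)))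
        (fun s => ?_) (fun s => ?_) W |> fun h => (mem_centralizer_singleton_iff.1 h).symm
      · rw [mem_comap, mem_centralizer_singleton_iff]
        show T.S.Φ (emB (blkB (uu s))) * _ = _ * T.S.Φ (emB (blkB (uu s)))
        rw [show T.S.Φ (emB (blkB (uu s))) = T.S.Φ (cel 0 0 0 0 s 1) from T.S.eq_of (blk_facts.2.2 s), ← T.agree_q,
          ← map_mul, ← map_mul]
        exact congrArg T.Ψ (Subtype.ext (Subtype.ext (far_facts.2 t s).symm))
      · rw [mem_comap, mem_centralizer_singleton_iff]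
        exact (T.far_comm t s).symm.eq
  have hcomm : ∀ i j, i + 1 < j → j < 3 → ∀ m m', Commute (φ i m) (φ j m') := by
    intro i j h1 h2 m m'
    obtain ⟨rfl, rfl⟩ : i = 0 ∧ j = 2 := by omega
    exact key m m'
  obtain ⟨μ, hμ⟩ := exists_hom 3 φ hψ hcomm 1 le_rfl
  exact ⟨μ, fun t => (hμ 0 (by norm_num) t).1, fun t => ⟨(hμ 1 (by norm_num) t).1, (hμ 1 (by norm_num) t).2⟩,
    fun t => ⟨(hμ 2 (by norm_num) t).1, (hμ 2 (by norm_num) t).2⟩⟩

theorem exists_mu' : ∃ μ : SL43 →* G, ∀ g : Ph0, μ g.1 = T.S.Φ g := by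
  obtain ⟨μ, h0, h1, h2⟩ := T.exists_mu
  refine ⟨μ, ?_⟩
  set H : Subgroup Ph0 := MonoidHom.eqLocus (μ.comp Ph0.subtype) T.S.Φ with hH
  have hb : ∀ i j : Fin 3, i ≠ j → ∀ t, emB (tv i j t) ∈ H := by
    have n1 : ∀ t, emB (tv 0 1 t) ∈ H := fun t => by
      show μ (emB (tv 0 1 t)).1 = T.S.Φ _
      rw [tv_emB 0 1 (by decide)]
      exact (h1 t).1.trans (congrArg (fun x => T.S.Φ (emB x)) (blk_tv t).1)
    have n2 : ∀ t, emB (tv 1 0 t) ∈ H := fun t => by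
      show μ (emB (tv 1 0 t)).1 = T.S.Φ _
      rw [tv_emB 1 0 (by decide)]
      exact (h1 t).2.trans (congrArg (fun x => T.S.Φ (emB x)) (blk_tv t).2.1)
    have n3' : ∀ t, emB (tv 1 2 t) ∈ H := fun t => by
      show μ (emB (tv 1 2 t)).1 = T.S.Φ _
      rw [tv_emB 1 2 (by decide)]
      exact (h2 t).1.trans (congrArg (fun x => T.S.Φ (emB x)) (blk_tv t).2.2.1)
    have n4 : ∀ t, emB (tv 2 1 t) ∈ H := fun t => by
      show μ (emB (tv 2 1 t)).1 = T.S.Φ _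
      rw [tv_emB 2 1 (by decide)]
      exact (h2 t).2.trans (congrArg (fun x => T.S.Φ (emB x)) (blk_tv t).2.2.2)
    have ch : ∀ {a b c : Fin 3}, a ≠ b → b ≠ c → a ≠ c → (∀ t, emB (tv a b t) ∈ H) → (∀ t, emB (tv b c t) ∈ H) →
        ∀ t, emB (tv a c t) ∈ H := by
      intro a b c e1 e2 e3 hab hbc t
      rw [← mul_one t, ← tv_comm e1 e2 e3, commutatorElement_def, map_mul, map_mul, map_mul, map_inv, map_inv]
      exact mul_mem (mul_mem (mul_mem (hab _) (hbc _)) (inv_mem (hab _))) (inv_mem (hbc _))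
    intro i j hij t
    fin_cases i <;> fin_cases j
    · exact absurd rfl hij
    · exact n1 t
    · exact ch (by decide) (by decide) (by decide) n1 n3' t
    · exact n2 t
    · exact absurd rfl hij
    · exact n3' t
    · exact ch (by decide) (by decide) (by decide) n4 n2 t
    · exact n4 t
    · exact absurd rfl hij
  have hB : ∀ M, emB M ∈ H := tv_gen (by norm_num) (H.comap emB) fun i j t h => hb i j h t
  have ht0 : ∀ t, mk0 1 (Pi.single 0 t) ∈ H := fun t => by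
    show μ (mk0 1 (Pi.single 0 t)).1 = T.S.Φ _
    rw [tv_top]
    refine (h0 t).trans ?_
    rw [T.Ψ_p (blk_facts.2.1 t)]
    refine T.S.eq_of ?_
    revert t
    decide +kernel
  have step : ∀ j : Fin 3, ∀ k : Fin 3, j ≠ k → (∀ t, mk0 1 (Pi.single j t) ∈ H) → ∀ t, mk0 1 (Pi.single k t) ∈ H := by
    intro j k hjk hj t
    have e : mk0 1 (Pi.single k t) =
        mk0 1 (Pi.single j t) * emB (tv j k 1) * (mk0 1 (Pi.single j t))⁻¹ * (emB (tv j k 1))⁻¹ := by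
      refine Subtype.ext ?_
      simp only [Subgroup.coe_mul, InvMemClass.coe_inv, tv_top, tv_emB j k hjk]
      rw [← commutatorElement_def, tv_comm (Fin.succ_ne_zero j).symm ((Fin.succ_injective _).ne hjk)
        (Fin.succ_ne_zero k).symm, mul_one]
    rw [e]
    exact mul_mem (mul_mem (mul_mem (hj t) (hB _)) (inv_mem (hj t))) (inv_mem (hB _))
  have hA : ∀ a, mk0 1 a ∈ H := by
    intro a
    have s1 := step 0 1 (by decide) ht0
    have s2 := step 1 2 (by decide) s1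
    have e : mk0 1 a = mk0 1 (Pi.single 0 (a 0)) * mk0 1 (Pi.single 1 (a 1)) * mk0 1 (Pi.single 2 (a 2)) := by
      refine Ph0_ext ?_ ?_
      · rw [map_mul, map_mul, pM_mk0, pM_mk0, pM_mk0, pM_mk0, mul_one, mul_one]
      · rw [pa_mul, pa_mul, pM_mk0, pM_mk0, pa_mk0, pa_mk0, pa_mk0, pa_mk0,
          Matrix.SpecialLinearGroup.coe_one, Matrix.vecMul_one, Matrix.vecMul_one]
        funext i
        fin_cases i <;> simp
    rw [e]
    exact mul_mem (mul_mem (ht0 _) (s1 _)) (s2 _)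
  intro g
  have e : g = emB (pM g) * mk0 1 (pa g) := by
    refine Ph0_ext ?_ ?_
    · rw [map_mul, show pM (emB (pM g)) = pM g from pM_mk0 _ _, pM_mk0, mul_one]
    · rw [pa_mul, pa_mk0, pM_mk0, show pa (emB (pM g)) = 0 from pa_mk0 _ _, Matrix.SpecialLinearGroup.coe_one,
        Matrix.vecMul_one, add_zero]
  exact (e ▸ mul_mem (hB _) (hA _) : g ∈ H)

/-- The map from SL(4,3). -/
noncomputable def μ : SL43 →* G := T.exists_mu'.choose

theorem μ_Φ (g : Ph0) : T.μ g.1 = T.S.Φ g := T.exists_mu'.choose_spec g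

/-- The subgroup. -/
noncomputable abbrev M : Subgroup G := T.μ.range

theorem P_le_M : T.S.P ≤ T.M := by
  rintro _ ⟨g, rfl⟩; exact ⟨_, T.μ_Φ g⟩

theorem Ct_le_M : T.D.Ct ≤ T.M := T.S.Ct_le.trans T.P_le_M

theorem μ_neg : T.μ ng4 = 1 := by
  have hc : ∀ g : SL43, ng4 * g = g * ng4 := fun g => by
    refine Subtype.ext ?_
    show (-1 : Matrix (Fin 4) (Fin 4) (ZMod 3)) * g.1 = g.1 * -1
    simp
  have h1 : T.μ ng4 ∈ centralizer (T.D.Q : Set G) := by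
    refine mem_centralizer_iff.2 fun q hq => ?_
    obtain ⟨a1, a2, a3, c1, c2, rfl, -⟩ := T.S.exists_of_Q hq
    rw [← T.μ_Φ, ← map_mul, ← map_mul, hc]
  have h3 := T.D.Q_exp _ (T.D.Q_self h1)
  have h2 : T.μ ng4 * T.μ ng4 = 1 := by
    rw [← map_mul, show ng4 * ng4 = 1 from Subtype.ext (by decide +kernel), map_one]
  rwa [pow_succ, pow_two, h2, one_mul] at h3

theorem μ_eq_one {g : SL43} : T.μ g = 1 ↔ g = 1 ∨ g = ng4 := by
  refine ⟨fun hg => ?_, fun h => h.elim (fun e => by rw [e, map_one]) (fun e => by rw [e, μ_neg])⟩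
  haveI := CfsgLib.SLPerfect.isSimpleGroup (F := ZMod 3) (n := 4) (by norm_num)
  set K := T.μ.ker with hK
  set π := QuotientGroup.mk' (Subgroup.center SL43) with hπ
  haveI : (K.map π).Normal := Subgroup.Normal.map inferInstance _ (QuotientGroup.mk'_surjective _)
  rcases IsSimpleGroup.eq_bot_or_eq_top_of_normal (K.map π) inferInstance with h | h
  · have hgc : g ∈ Subgroup.center SL43 := by
      have : π g ∈ K.map π := ⟨g, hg, rfl⟩
      rw [h, mem_bot] at this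
      exact (QuotientGroup.eq_one_iff _).1 this
    obtain ⟨r, hr, hrg⟩ := Matrix.SpecialLinearGroup.mem_center_iff.1 hgc
    rw [Fintype.card_fin] at hr
    rcases center_four r hr with rfl | rfl
    · exact Or.inl (Subtype.ext (by rw [← hrg]; simp))
    · exact Or.inr (Subtype.ext (by rw [ng4_val, ← hrg, map_neg, map_one]))
  · exfalso
    have htop : ∀ x : SL43, ∃ k ∈ K, k⁻¹ * x ∈ Subgroup.center SL43 := fun x => by
      obtain ⟨k, hk, e⟩ := (h ▸ mem_top (π x) : π x ∈ K.map π)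
      exact ⟨k, hk, QuotientGroup.eq.1 e⟩
    have hle : (⊤ : Subgroup SL43) ≤ K := by
      rw [← CfsgLib.SLPerfect.commutator_eq_top (F := ZMod 3) (n := 4) (by norm_num), _root_.commutator_def, commutator_le]
      intro x _ y _
      obtain ⟨k, hk, hkx⟩ := htop x
      have e : ⁅x, y⁆ = ⁅k, y⁆ := by
        have hc := mem_center_iff.1 hkx y
        rw [commutatorElement_def, commutatorElement_def]
        calc x * y * x⁻¹ * y⁻¹ = k * ((k⁻¹ * x) * y) * x⁻¹ * y⁻¹ := by group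
          _ = k * (y * (k⁻¹ * x)) * x⁻¹ * y⁻¹ := by rw [hc]
          _ = _ := by group
      rw [e, commutatorElement_def, mul_assoc, mul_assoc]
      refine mul_mem hk ?_
      rw [← mul_assoc]
      exact Subgroup.Normal.conj_mem inferInstance _ (inv_mem hk) y
    have hz : T.μ e03.1 = 1 := hle (mem_top _)
    rw [T.μ_Φ, T.S.Φ_z] at hz
    exact T.D.z_ne hz

/-- The subgroup is PSL(4,3). -/
theorem equiv_M : Nonempty (T.M ≃* Matrix.ProjectiveSpecialLinearGroup (Fin 4) (ZMod 3)) := by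
  have hker : T.μ.ker = Subgroup.center SL43 := by
    ext g
    rw [MonoidHom.mem_ker, T.μ_eq_one, Matrix.SpecialLinearGroup.mem_center_iff, Fintype.card_fin]
    constructor
    · rintro (rfl | rfl)
      · exact ⟨1, one_pow 4, by simp⟩
      · exact ⟨-1, by decide, by rw [ng4_val, map_neg, map_one]⟩
    · rintro ⟨r, hr, hrg⟩
      rcases center_four r hr with rfl | rfl
      · exact Or.inl (Subtype.ext (by rw [← hrg]; simp))
      · exact Or.inr (Subtype.ext (by rw [ng4_val, ← hrg, map_neg, map_one]))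
  exact ⟨(QuotientGroup.quotientKerEquivRange T.μ).symm.trans (QuotientGroup.quotientMulEquivOfEq hker)⟩

end Two

end CfsgLib.L43Rec
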