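import Cfsg.Agent.Lib.L43Rec.OneBasic

/-!
When conjugates of the centre occur in the second plane too: the normalizer of that plane.
-/

set_option autoImplicit false

namespace CfsgLib.L43Rec

open Subgroup

universe u

/-- Exchanging the two planes. -/
def swp (v : V4) : V4 := (v.2.2.1, v.2.2.2, v.1, v.2.1)

theorem swp_add (u v : V4) : swp (u + v) = swp u + swp v := rfl

theorem swp_eq_zero (v : V4) : swp v = 0 ↔ v = 0 := by revert v; decide +kernel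

theorem swp_act (g : SL23) (v : V4) : swp (act g v) = act g (swp v) := rfl

theorem swp_om (u v : V4) : om (swp u) (swp v) = om u v := by simp only [om, swp]; ring

theorem to_first : ∀ v : V4, v ≠ 0 → v.2.2 = (0, 0) → ∃ W : SL23, act W v = (1, 0, 0, 0) := by decide +kernel

theorem fix_first : ∀ W : SL23, W ≠ 1 → act W (1, 0, 0, 0) = (1, 0, 0, 0) → W = mU ∨ W * W = mU := by decide +kernel

set_option synthInstance.maxSize 4096 in
theorem off_planes : ∀ u v : V4, swp v = (1, 0, 0, 0) → u ≠ 0 → u.2.2 = (0, 0) →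
    (u + v) ≠ 0 ∧ (u + v).2.2 ≠ (0, 0) ∧ ¬((u + v).1 = 0 ∧ (u + v).2.1 = 0) := by decide +kernel

theorem on_line : ∀ u v : V4, swp v = (1, 0, 0, 0) → (swp u).2.2 = (0, 0) → (swp u).2.1 = 0 →
    u + -((swp u).1 • v) = 0 := by decide +kernel

/-- The coordinates with the planes exchanged. -/
def Coord.swap {G : Type u} [Group G] {D : Setting G} (F : Coord D) : Coord D where
  cd q := swp (F.cd q)
  cd_mul q hq r hr := by rw [F.cd_mul q hq r hr, swp_add]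
  cd_zero q hq := (swp_eq_zero _).trans (F.cd_zero q hq)
  cd_surj v := by
    obtain ⟨q, hq, e⟩ := F.cd_surj (swp v)
    exact ⟨q, hq, by rw [e]; rfl⟩
  cd_act c q hq := by rw [F.cd_act c q hq, swp_act]
  cd_cm q hq r hr := by rw [F.cd_cm q hq r hr, swp_om]

namespace Std

variable {G : Type u} [Group G] (S : Std G)

theorem exists_second [Finite G] (hII : ¬ S.CaseOne) :
    ∃ S' : Std G, S'.D = S.D ∧ S'.F.cd = S.F.swap.cd := by
  classical
  simp only [CaseOne] at hII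
  push Not at hII
  obtain ⟨x0, hx0, hx0z, hx0c, hx0p⟩ := hII
  obtain ⟨g0, hg0⟩ := isConj_iff.1 hx0c
  have hsw : (swp (S.F.cd x0)).2.2 = (0, 0) := by
    rcases S.conj_in_Q hx0 hx0z hx0c with h | ⟨h1, h2⟩
    · exact absurd ⟨hx0, h⟩ hx0p
    · show ((S.F.cd x0).1, (S.F.cd x0).2.1) = _
      rw [h1, h2]
  obtain ⟨W, hW⟩ := to_first _ (fun h => hx0z ((S.F.cd_zero _ hx0).1 ((swp_eq_zero _).1 h))) hsw
  set m := S.Φ (cel 0 0 0 0 0 W)
  have hmC : m ∈ S.D.Ct := S.cel_Ct _ _ _ _ _ _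
  set g := m * g0 with hg
  set x := g * S.D.z * g⁻¹ with hx
  have hxe : x = m * x0 * m⁻¹ := by rw [hx, hg, ← hg0]; group
  have hxQ : x ∈ S.D.Q := hxe ▸ S.D.conj_Q hmC hx0
  have hxv : swp (S.F.cd x) = (1, 0, 0, 0) := by
    rw [hxe, S.F.cd_act ⟨m, hmC⟩ _ hx0, S.cel_φ, swp_act, hW]
  have hxz : x ∉ S.D.Zc := fun h => by
    rw [(S.F.cd_zero _ hxQ).2 h] at hxv
    exact absurd hxv (by decide)
  obtain ⟨K0, hKz, hKQ, hKg⟩ := S.D.exists_Frame hxQ hxz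
  obtain ⟨S0, hS0, hS0c⟩ := K0.exists_Std
  set E : Subgroup G := S.D.Q ⊓ (S.D.conj g).Q with hE
  have hconjQ : (K0.D.conj K0.g).Q = (S.D.conj g).Q := by
    show Subgroup.map (MulAut.conj K0.g).toMonoidHom K0.D.Q = _
    rw [hKQ, hKg]; rfl
  have hEe : K0.D.Q ⊓ (K0.D.conj K0.g).Q = E := by rw [hconjQ, hKQ]
  have hcard : Nat.card E = 27 := hEe ▸ K0.E_card
  have hcomm : ∀ a ∈ E, ∀ b ∈ E, a * b = b * a := hEe ▸ K0.E_comm
  have hxE : x ∈ E := ⟨hxQ, ⟨S.D.z, S.D.z_Q, rfl⟩⟩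
  have hzQ' : S.D.z ∈ (S.D.conj g).Q := by
    have := K0.z_Q'
    rwa [hconjQ, hKz] at this
  have hEconj : ∀ q ∈ E, q ∉ S.D.Zc → IsConj S.D.z q := by
    intro q hq hqz
    have hq' : q ∈ S0.F.plane := by
      have h := K0.plane_eq.le (hEe.ge hq)
      exact ⟨by rw [hS0]; exact h.1, by rw [hS0c]; exact h.2⟩
    obtain ⟨n, hn⟩ := S0.plane_conj hq' (by rw [hS0, Setting.Zc, hKz]; exact hqz)
    refine isConj_iff.2 ⟨S0.Φ n, ?_⟩
    rwa [hS0, hKz] at hn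
  have hE2 : ∀ q ∈ E, (swp (S.F.cd q)).2.2 = (0, 0) := by
    intro q hq
    by_cases hqz : q ∈ S.D.Zc
    · rw [(S.F.cd_zero _ hq.1).2 hqz]; rfl
    rcases S.conj_in_Q hq.1 hqz (hEconj q hq hqz) with h | ⟨h1, h2⟩
    · exfalso
      have hqx : q * x ∈ E := mul_mem hq hxE
      have hv : S.F.cd (q * x) = S.F.cd q + S.F.cd x := S.F.cd_mul _ hq.1 _ hxQ
      obtain ⟨k1, k2, k3⟩ := off_planes _ _ hxv (fun e => hqz ((S.F.cd_zero _ hq.1).1 e)) h
      rw [← hv] at k1 k2 k3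
      have hqxz : q * x ∉ S.D.Zc := fun e => k1 ((S.F.cd_zero _ hqx.1).2 e)
      exact (S.conj_in_Q hqx.1 hqxz (hEconj _ hqx hqxz)).elim k2 k3
    · show ((S.F.cd q).1, (S.F.cd q).2.1) = _
      rw [h1, h2]
  have hmove : ∃ y ∈ E, (swp (S.F.cd y)).2.1 ≠ 0 := by
    by_contra hne
    push Not at hne
    let f : E → ZMod 3 × ZMod 3 := fun q =>
      ((swp (S.F.cd q)).1, S.D.expo ((q : G) * (x ^ ((swp (S.F.cd q)).1).val)⁻¹))
    have hin : ∀ q : E, (q : G) * (x ^ ((swp (S.F.cd q)).1).val)⁻¹ ∈ S.D.Zc := by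
      intro q
      refine (S.F.cd_zero _ (mul_mem q.2.1 (inv_mem (pow_mem hxQ _)))).1 ?_
      rw [S.F.cd_mul _ q.2.1 _ (inv_mem (pow_mem hxQ _)), S.F.cd_inv (pow_mem hxQ _), S.F.cd_pow hxQ,
        ZMod.natCast_zmod_val]
      exact on_line _ _ hxv (hE2 q q.2) (hne q q.2)
    have hf : Function.Injective f := by
      intro a b e
      simp only [f, Prod.mk.injEq] at e
      obtain ⟨e1, e2⟩ := e
      have h := (S.D.pow_expo (hin a)).symm.trans ((congrArg (fun k : ZMod 3 => S.D.z ^ k.val) e2).trans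
        (S.D.pow_expo (hin b)))
      rw [e1] at h
      exact Subtype.ext (mul_right_cancel h)
    have := Nat.card_le_card_of_injective f hf
    rw [hcard, Nat.card_prod, Nat.card_zmod] at this
    omega
  obtain ⟨c, hcQ, hcφ⟩ : ∃ c : S.D.Ct, (c : G) ∈ (S.D.conj g).Q ∧ S.D.φ c = mU := by
    have hc0 : (K0.c : G) ∈ S.D.Ct := by
      rw [S.D.mem_Ct, ← hKz]
      exact K0.D.mem_Ct.1 K0.c.2
    have hc0Q : (K0.c : G) ∈ (S.D.conj g).Q := hconjQ ▸ K0.c_Q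
    set c0 : S.D.Ct := ⟨_, hc0⟩
    have hne : S.D.φ c0 ≠ 1 := fun h => by
      have h2 : (K0.c : G) ∈ K0.D.Q := hKQ ▸ (S.D.φ_ker c0).1 h
      have h3 := (K0.D.φ_ker K0.c).2 h2
      rw [K0.c_φ] at h3
      exact absurd h3 (by decide +kernel)
    have hcx : (c0 : G) * x * (c0 : G)⁻¹ = x := by
      rw [mul_inv_eq_iff_eq_mul]; exact (S.D.conj g).Q_z _ hc0Q
    have hfix : act (S.D.φ c0) (1, 0, 0, 0) = (1, 0, 0, 0) := by
      rw [← hxv, ← swp_act, ← S.F.cd_act c0 x hxQ, hcx]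
    rcases fix_first _ hne hfix with h | h
    · exact ⟨c0, hc0Q, h⟩
    · exact ⟨c0 * c0, mul_mem hc0Q hc0Q, by rw [map_mul, h]⟩
  obtain ⟨S', h1, h2⟩ := Frame.exists_Std
    { D := S.D, g := g, x_Q := hxQ, x_nZ := hxz, F := S.F.swap, x_cd := hxv, c := c, c_Q := hcQ, c_φ := hcφ,
      z_Q' := hzQ', E_card := hcard, E_comm := hcomm, E_move := hmove }
  exact ⟨S', h1, h2⟩

end Std

end CfsgLib.L43Rec
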